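import Cfsg.Agent.H16.Out
import Cfsg.Agent.H15.Conway2

/-! Generated by tools/h16 (computation kit). -/

set_option maxRecDepth 100000
set_option maxHeartbeats 0

namespace H16.OHS
open scoped Pointwise

noncomputable def V : List ℕ := [nat_lit 0, nat_lit 1, nat_lit 5, nat_lit 2]
noncomputable def W : List ℕ := [nat_lit 0, nat_lit 1, nat_lit 2]
noncomputable def Fv0d : ℕ := nat_lit 0x5d95db6a04595157575d85d176369976871e91b9e1727491a4895666694c4c9322c1849b7df7d37ed95236731a39c8da6e03c6a2956d48f52188735576d34a0627d4626aa67533a23e3575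
noncomputable def Fv0 (u : ℕ) : ℕ := Nat.land (Nat.shiftRight Fv0d (Nat.mul u (nat_lit 6))) (nat_lit 63)
noncomputable def lv0 : Lv := ⟨(nat_lit 0), (nat_lit 15), (nat_lit 100), (nat_lit 6), [[nat_lit 0],
  [nat_lit 1],
  [nat_lit 2],
  [nat_lit 3],
  [nat_lit 4],
  [nat_lit 5]], Fv0, (nat_lit 9)⟩
noncomputable def Fv1d : ℕ := nat_lit 0x300008800000061b0050090700008000be000000b000b90006000004000000009060007000000000000000070b000000
noncomputable def Fv1 (u : ℕ) : ℕ := Nat.land (Nat.shiftRight Fv1d (Nat.mul u (nat_lit 4))) (nat_lit 15)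
noncomputable def lv1 : Lv := ⟨(nat_lit 1), (nat_lit 81), (nat_lit 22), (nat_lit 3), [[nat_lit 5, nat_lit 3, nat_lit 0, nat_lit 2, nat_lit 1, nat_lit 4, nat_lit 1, nat_lit 2, nat_lit 0, nat_lit 1, nat_lit 3],
  [nat_lit 3, nat_lit 5, nat_lit 0, nat_lit 2, nat_lit 0, nat_lit 1, nat_lit 2, nat_lit 4, nat_lit 1, nat_lit 5, nat_lit 0],
  [nat_lit 1, nat_lit 5, nat_lit 1, nat_lit 2, nat_lit 0, nat_lit 4, nat_lit 2, nat_lit 0, nat_lit 3, nat_lit 1, nat_lit 2, nat_lit 4]], Fv1, (nat_lit 5)⟩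
noncomputable def Fv2d : ℕ := nat_lit 0xc00000000600000d00160018000280000000200070012001c200020000000280000300e00000000e050140000060016a
noncomputable def Fv2 (u : ℕ) : ℕ := Nat.land (Nat.shiftRight Fv2d (Nat.mul u (nat_lit 5))) (nat_lit 31)
noncomputable def lv2 : Lv := ⟨(nat_lit 2), (nat_lit 37), (nat_lit 21), (nat_lit 3), [[nat_lit 2, nat_lit 1, nat_lit 0, nat_lit 3, nat_lit 1, nat_lit 4, nat_lit 1, nat_lit 5, nat_lit 2, nat_lit 3, nat_lit 1, nat_lit 4, nat_lit 2, nat_lit 0],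
  [nat_lit 1, nat_lit 0, nat_lit 3, nat_lit 0, nat_lit 1, nat_lit 4, nat_lit 2, nat_lit 1, nat_lit 4, nat_lit 2, nat_lit 5, nat_lit 2, nat_lit 3, nat_lit 1],
  [nat_lit 4, nat_lit 1, nat_lit 2, nat_lit 0, nat_lit 1, nat_lit 2, nat_lit 3, nat_lit 0, nat_lit 2, nat_lit 1, nat_lit 3, nat_lit 4, nat_lit 2, nat_lit 0, nat_lit 3]], Fv2, (nat_lit 6)⟩
noncomputable def Fv3d : ℕ := nat_lit 0xa000000b0000b00600a0008000000f00900400a0000900000f0000b01000000a070800009005f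
noncomputable def Fv3 (u : ℕ) : ℕ := Nat.land (Nat.shiftRight Fv3d (Nat.mul u (nat_lit 4))) (nat_lit 15)
noncomputable def lv3 : Lv := ⟨(nat_lit 8), (nat_lit 20), (nat_lit 20), (nat_lit 4), [[nat_lit 2, nat_lit 3, nat_lit 0, nat_lit 5, nat_lit 2, nat_lit 0, nat_lit 5, nat_lit 3],
  [nat_lit 2, nat_lit 1, nat_lit 5, nat_lit 1, nat_lit 0, nat_lit 1, nat_lit 0, nat_lit 5, nat_lit 2],
  [nat_lit 2, nat_lit 4, nat_lit 1, nat_lit 3, nat_lit 1, nat_lit 0, nat_lit 2, nat_lit 0, nat_lit 5, nat_lit 2, nat_lit 3],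
  [nat_lit 0, nat_lit 3, nat_lit 0, nat_lit 2, nat_lit 4, nat_lit 2, nat_lit 5, nat_lit 2, nat_lit 1, nat_lit 0, nat_lit 3, nat_lit 1]], Fv3, (nat_lit 4)⟩
noncomputable def Fv4d : ℕ := nat_lit 0xb001a00240001c0000000880010000003000000a000000580000300000000000c0601000000d001cb
noncomputable def Fv4 (u : ℕ) : ℕ := Nat.land (Nat.shiftRight Fv4d (Nat.mul u (nat_lit 5))) (nat_lit 31)
noncomputable def lv4 : Lv := ⟨(nat_lit 5), (nat_lit 44), (nat_lit 16), (nat_lit 5), [[nat_lit 3, nat_lit 1, nat_lit 3, nat_lit 4, nat_lit 5, nat_lit 2, nat_lit 4, nat_lit 1, nat_lit 3, nat_lit 5],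
  [nat_lit 5, nat_lit 2, nat_lit 1, nat_lit 3, nat_lit 0, nat_lit 2, nat_lit 5, nat_lit 2, nat_lit 1, nat_lit 0],
  [nat_lit 0, nat_lit 1, nat_lit 2, nat_lit 5, nat_lit 0, nat_lit 2, nat_lit 0, nat_lit 1, nat_lit 2, nat_lit 1, nat_lit 5, nat_lit 1],
  [nat_lit 5, nat_lit 3, nat_lit 1, nat_lit 2, nat_lit 0, nat_lit 1, nat_lit 4, nat_lit 2, nat_lit 0, nat_lit 5, nat_lit 2, nat_lit 1, nat_lit 0],
  [nat_lit 5, nat_lit 2, nat_lit 5, nat_lit 0, nat_lit 2, nat_lit 1, nat_lit 3, nat_lit 0, nat_lit 1, nat_lit 4, nat_lit 2, nat_lit 0, nat_lit 5, nat_lit 2]], Fv4, (nat_lit 4)⟩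
noncomputable def Fv5d : ℕ := nat_lit 0x1800000000000c0000000000008000000000000000000000
noncomputable def Fv5 (u : ℕ) : ℕ := Nat.land (Nat.shiftRight Fv5d (Nat.mul u (nat_lit 3))) (nat_lit 7)
noncomputable def lv5 : Lv := ⟨(nat_lit 10), (nat_lit 29), (nat_lit 3), (nat_lit 3), [[nat_lit 1, nat_lit 3, nat_lit 0, nat_lit 1, nat_lit 2, nat_lit 1, nat_lit 0, nat_lit 5, nat_lit 1, nat_lit 2, nat_lit 3, nat_lit 1, nat_lit 4, nat_lit 2, nat_lit 1, nat_lit 0, nat_lit 5, nat_lit 2, nat_lit 4],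
  [nat_lit 1, nat_lit 2, nat_lit 3, nat_lit 1, nat_lit 0, nat_lit 1, nat_lit 2, nat_lit 0, nat_lit 5, nat_lit 2, nat_lit 4, nat_lit 1, nat_lit 3, nat_lit 2, nat_lit 4, nat_lit 1, nat_lit 0, nat_lit 5, nat_lit 2, nat_lit 3],
  [nat_lit 0, nat_lit 5, nat_lit 2, nat_lit 0, nat_lit 1, nat_lit 2, nat_lit 1, nat_lit 0, nat_lit 3, nat_lit 1, nat_lit 4, nat_lit 1, nat_lit 2, nat_lit 0, nat_lit 5, nat_lit 2, nat_lit 4, nat_lit 1, nat_lit 3, nat_lit 2]], Fv5, (nat_lit 3)⟩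
noncomputable def LLv : List Lv := [lv0, lv1, lv2, lv3, lv4, lv5]
noncomputable def Accv : List (List ℕ) := [[]]
noncomputable def Apv : List ℕ := [nat_lit 15]
noncomputable def Fw0d : ℕ := nat_lit 0x1d249339a30d2093d754c4c179954d5628de919b617265d8a52ae166c95179775ed987617df95396b9593674e03a2a5a6e044bbaf5335186a7a1349876e6523289547a6aa66d76a276377b
noncomputable def Fw0 (u : ℕ) : ℕ := Nat.land (Nat.shiftRight Fw0d (Nat.mul u (nat_lit 6))) (nat_lit 63)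
noncomputable def lw0 : Lv := ⟨(nat_lit 0), (nat_lit 84), (nat_lit 100), (nat_lit 6), [[nat_lit 0],
  [nat_lit 1],
  [nat_lit 2],
  [nat_lit 3],
  [nat_lit 4],
  [nat_lit 5]], Fw0, (nat_lit 10)⟩
noncomputable def Fw1d : ℕ := nat_lit 0x8b50f08d4f7414e3d1603c5ee2aa7104680b5a348baf4a02507800e6c006601ec98180325b153c0f6d1a97801260240639607800c4be606c1ef4800062580
noncomputable def Fw1 (u : ℕ) : ℕ := Nat.land (Nat.shiftRight Fw1d (Nat.mul u (nat_lit 5))) (nat_lit 31)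
noncomputable def lw1 : Lv := ⟨(nat_lit 1), (nat_lit 95), (nat_lit 77), (nat_lit 3), [[nat_lit 1, nat_lit 3, nat_lit 5, nat_lit 2, nat_lit 0, nat_lit 1, nat_lit 3, nat_lit 4, nat_lit 2],
  [nat_lit 1, nat_lit 5, nat_lit 0, nat_lit 3, nat_lit 4, nat_lit 2, nat_lit 0, nat_lit 5, nat_lit 2, nat_lit 3],
  [nat_lit 4, nat_lit 1, nat_lit 3, nat_lit 0, nat_lit 2, nat_lit 1, nat_lit 0, nat_lit 3, nat_lit 0, nat_lit 1, nat_lit 4]], Fw1, (nat_lit 8)⟩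
noncomputable def Fw2d : ℕ := nat_lit 0x4a591005471acce69940421856356c031c00254093000501c66000072c0d50000001403b5d06b40002de988000001808322000000002206b94a400007c080
noncomputable def Fw2 (u : ℕ) : ℕ := Nat.land (Nat.shiftRight Fw2d (Nat.mul u (nat_lit 5))) (nat_lit 31)
noncomputable def lw2 : Lv := ⟨(nat_lit 2), (nat_lit 94), (nat_lit 60), (nat_lit 3), [[nat_lit 4, nat_lit 2, nat_lit 0, nat_lit 1, nat_lit 3, nat_lit 1, nat_lit 0, nat_lit 1, nat_lit 2, nat_lit 0, nat_lit 4, nat_lit 2],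
  [nat_lit 0, nat_lit 5, nat_lit 2, nat_lit 0, nat_lit 1, nat_lit 3, nat_lit 4, nat_lit 5, nat_lit 2, nat_lit 3, nat_lit 1, nat_lit 4],
  [nat_lit 2, nat_lit 3, nat_lit 1, nat_lit 3, nat_lit 0, nat_lit 2, nat_lit 1, nat_lit 0, nat_lit 2, nat_lit 3, nat_lit 4, nat_lit 2, nat_lit 1]], Fw2, (nat_lit 7)⟩
noncomputable def Fw3d : ℕ := nat_lit 0x4d101c0002ce79a04d4195c049b00c00f00002bac000000055700000002080000000002080000000000082000000000000000000000000000078080000000000000000002b800000720000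
noncomputable def Fw3 (u : ℕ) : ℕ := Nat.land (Nat.shiftRight Fw3d (Nat.mul u (nat_lit 6))) (nat_lit 63)
noncomputable def lw3 : Lv := ⟨(nat_lit 4), (nat_lit 89), (nat_lit 32), (nat_lit 11), [[nat_lit 5, nat_lit 0, nat_lit 2, nat_lit 3, nat_lit 4, nat_lit 2, nat_lit 0, nat_lit 5],
  [nat_lit 0, nat_lit 1, nat_lit 3, nat_lit 1, nat_lit 4, nat_lit 1, nat_lit 2, nat_lit 0, nat_lit 4],
  [nat_lit 1, nat_lit 3, nat_lit 4, nat_lit 1, nat_lit 2, nat_lit 1, nat_lit 3, nat_lit 4, nat_lit 1],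
  [nat_lit 1, nat_lit 2, nat_lit 4, nat_lit 1, nat_lit 2, nat_lit 1, nat_lit 4, nat_lit 2, nat_lit 1],
  [nat_lit 2, nat_lit 5, nat_lit 0, nat_lit 1, nat_lit 4, nat_lit 2, nat_lit 1, nat_lit 0, nat_lit 5, nat_lit 2],
  [nat_lit 4, nat_lit 1, nat_lit 2, nat_lit 1, nat_lit 0, nat_lit 2, nat_lit 3, nat_lit 1, nat_lit 0, nat_lit 4],
  [nat_lit 2, nat_lit 5, nat_lit 0, nat_lit 1, nat_lit 2, nat_lit 0, nat_lit 1, nat_lit 4, nat_lit 5, nat_lit 2],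
  [nat_lit 1, nat_lit 3, nat_lit 1, nat_lit 0, nat_lit 4, nat_lit 2, nat_lit 0, nat_lit 3, nat_lit 1, nat_lit 4],
  [nat_lit 1, nat_lit 0, nat_lit 1, nat_lit 2, nat_lit 3, nat_lit 4, nat_lit 2, nat_lit 1, nat_lit 0, nat_lit 1],
  [nat_lit 4, nat_lit 0, nat_lit 1, nat_lit 0, nat_lit 1, nat_lit 2, nat_lit 3, nat_lit 1, nat_lit 4, nat_lit 1],
  [nat_lit 0, nat_lit 3, nat_lit 1, nat_lit 4, nat_lit 2, nat_lit 5, nat_lit 2, nat_lit 4, nat_lit 1, nat_lit 3, nat_lit 0]], Fw3, (nat_lit 4)⟩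
noncomputable def Fw4d : ℕ := nat_lit 0x400000000000c0140000000000000000000000000000000000000000000000000000000000
noncomputable def Fw4 (u : ℕ) : ℕ := Nat.land (Nat.shiftRight Fw4d (Nat.mul u (nat_lit 3))) (nat_lit 7)
noncomputable def lw4 : Lv := ⟨(nat_lit 3), (nat_lit 98), (nat_lit 3), (nat_lit 3), [[nat_lit 1, nat_lit 4, nat_lit 2, nat_lit 0, nat_lit 1, nat_lit 2, nat_lit 0, nat_lit 3, nat_lit 0, nat_lit 1, nat_lit 2, nat_lit 1, nat_lit 4],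
  [nat_lit 2, nat_lit 1, nat_lit 4, nat_lit 2, nat_lit 0, nat_lit 1, nat_lit 2, nat_lit 0, nat_lit 3, nat_lit 0, nat_lit 2, nat_lit 1, nat_lit 2, nat_lit 0],
  [nat_lit 2, nat_lit 0, nat_lit 1, nat_lit 0, nat_lit 1, nat_lit 2, nat_lit 3, nat_lit 1, nat_lit 0, nat_lit 1, nat_lit 2, nat_lit 3, nat_lit 0, nat_lit 1, nat_lit 4, nat_lit 2]], Fw4, (nat_lit 2)⟩
noncomputable def LLw : List Lv := [lw0, lw1, lw2, lw3, lw4]
noncomputable def Accw : List (List ℕ) := [[],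
  [nat_lit 0, nat_lit 2, nat_lit 3, nat_lit 0, nat_lit 2, nat_lit 1, nat_lit 0, nat_lit 3, nat_lit 0, nat_lit 1, nat_lit 5, nat_lit 2, nat_lit 3, nat_lit 1, nat_lit 4, nat_lit 2, nat_lit 5, nat_lit 2, nat_lit 3, nat_lit 0, nat_lit 2, nat_lit 4, nat_lit 1, nat_lit 5],
  [nat_lit 3, nat_lit 1, nat_lit 5, nat_lit 0, nat_lit 2, nat_lit 0, nat_lit 5, nat_lit 2, nat_lit 3, nat_lit 0, nat_lit 2, nat_lit 4, nat_lit 2, nat_lit 0, nat_lit 3, nat_lit 5, nat_lit 2, nat_lit 4, nat_lit 1, nat_lit 3, nat_lit 2, nat_lit 5],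
  [nat_lit 1, nat_lit 3, nat_lit 5, nat_lit 0, nat_lit 1, nat_lit 2, nat_lit 1, nat_lit 0, nat_lit 1, nat_lit 2, nat_lit 1, nat_lit 3, nat_lit 0, nat_lit 4, nat_lit 2, nat_lit 5, nat_lit 2, nat_lit 4, nat_lit 1, nat_lit 2],
  [nat_lit 1, nat_lit 0, nat_lit 1, nat_lit 2, nat_lit 1, nat_lit 0, nat_lit 4, nat_lit 2, nat_lit 5, nat_lit 2, nat_lit 3, nat_lit 1, nat_lit 4, nat_lit 2, nat_lit 5, nat_lit 2, nat_lit 3, nat_lit 0, nat_lit 5]]
noncomputable def Apw : List ℕ := [nat_lit 84, nat_lit 2, nat_lit 21, nat_lit 5, nat_lit 7]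
noncomputable def D : OD := ⟨11, 3, 6, 1, 5, [1, 2], V, [nat_lit 5, nat_lit 1, nat_lit 2, nat_lit 5, nat_lit 1], [nat_lit 5, nat_lit 3, nat_lit 2, nat_lit 1, nat_lit 3, nat_lit 5, nat_lit 0, nat_lit 2, nat_lit 1, nat_lit 2], W, [nat_lit 1, nat_lit 0, nat_lit 1, nat_lit 2, nat_lit 1, nat_lit 0, nat_lit 4, nat_lit 2, nat_lit 5, nat_lit 2, nat_lit 3, nat_lit 1, nat_lit 4, nat_lit 2, nat_lit 5, nat_lit 2, nat_lit 3, nat_lit 0, nat_lit 5], Accw,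
  [([nat_lit 2, nat_lit 2, nat_lit 0, nat_lit 1], (nat_lit 6)), ([nat_lit 1, nat_lit 2, nat_lit 1, nat_lit 0, nat_lit 1, nat_lit 2], (nat_lit 6))], (nat_lit 0)⟩
noncomputable def Wb : List (List ℕ) := [[nat_lit 5, nat_lit 0, nat_lit 2, nat_lit 1, nat_lit 4, nat_lit 1, nat_lit 4, nat_lit 5, nat_lit 2, nat_lit 3, nat_lit 0, nat_lit 5, nat_lit 2, nat_lit 3],
  [nat_lit 5, nat_lit 1, nat_lit 2, nat_lit 4, nat_lit 1, nat_lit 4, nat_lit 3, nat_lit 0, nat_lit 2, nat_lit 1, nat_lit 0, nat_lit 3, nat_lit 5],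
  [nat_lit 3, nat_lit 2, nat_lit 1, nat_lit 0, nat_lit 1, nat_lit 2, nat_lit 3, nat_lit 0, nat_lit 5, nat_lit 2, nat_lit 3, nat_lit 0, nat_lit 5, nat_lit 2],
  [nat_lit 5, nat_lit 2, nat_lit 0, nat_lit 3, nat_lit 0, nat_lit 2, nat_lit 1, nat_lit 0, nat_lit 1, nat_lit 5, nat_lit 2, nat_lit 3, nat_lit 0, nat_lit 5, nat_lit 2, nat_lit 3],
  [nat_lit 0, nat_lit 2, nat_lit 0, nat_lit 1, nat_lit 0, nat_lit 1, nat_lit 2, nat_lit 3, nat_lit 0, nat_lit 4, nat_lit 2, nat_lit 0, nat_lit 5, nat_lit 2, nat_lit 4, nat_lit 1, nat_lit 3, nat_lit 2, nat_lit 0, nat_lit 5, nat_lit 1],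
  [nat_lit 3, nat_lit 5, nat_lit 1, nat_lit 0, nat_lit 2, nat_lit 3, nat_lit 1, nat_lit 0, nat_lit 1, nat_lit 2, nat_lit 3, nat_lit 0, nat_lit 1, nat_lit 5, nat_lit 3]]

theorem ov0_0 : Nat.beq (loop2 (lv0.scan H15.HS.P) (nat_lit 0) (nat_lit 100)) (nat_lit 100) = true := by decide +kernel
theorem ov1_0 : Nat.beq (loop2 (lv1.scan H15.HS.P) (nat_lit 0) (nat_lit 100)) (nat_lit 22) = true := by decide +kernel
theorem ov2_0 : Nat.beq (loop2 (lv2.scan H15.HS.P) (nat_lit 0) (nat_lit 100)) (nat_lit 21) = true := by decide +kernel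
theorem ov3_0 : Nat.beq (loop2 (lv3.scan H15.HS.P) (nat_lit 0) (nat_lit 100)) (nat_lit 20) = true := by decide +kernel
theorem ov4_0 : Nat.beq (loop2 (lv4.scan H15.HS.P) (nat_lit 0) (nat_lit 100)) (nat_lit 16) = true := by decide +kernel
theorem ov5c : 0 < lv5.K ∧ allL (ltAll 6) lv5.Ws = true ∧ [nat_lit 62, nat_lit 46, nat_lit 29].length = lv5.n ∧ lv5.lst H15.HS.P [nat_lit 62, nat_lit 46, nat_lit 29] 100 = 0 := by decide +kernel
theorem lcv : lowChk H15.HS.P 100 6 LLv [] = 0 ∧ prodN LLv = 44352000 ∧ 0 < 44352000 := by decide +kernel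
theorem ccv : cenChk H15.HS.P 100 6 H15.HS.B V V (nat_lit 15) LLv Accv Apv = true := by decide +kernel
theorem cev_0 : allZ (cenEnt H15.HS.P V LLv Apv (nat_lit 10)) (nat_lit 0) (nat_lit 100) = true := by decide +kernel
theorem ow0_0 : Nat.beq (loop2 (lw0.scan H15.HS.P) (nat_lit 0) (nat_lit 100)) (nat_lit 100) = true := by decide +kernel
theorem ow1_0 : Nat.beq (loop2 (lw1.scan H15.HS.P) (nat_lit 0) (nat_lit 100)) (nat_lit 77) = true := by decide +kernel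
theorem ow2_0 : Nat.beq (loop2 (lw2.scan H15.HS.P) (nat_lit 0) (nat_lit 100)) (nat_lit 60) = true := by decide +kernel
theorem ow3_0 : Nat.beq (loop2 (lw3.scan H15.HS.P) (nat_lit 0) (nat_lit 100)) (nat_lit 32) = true := by decide +kernel
theorem ow4c : 0 < lw4.K ∧ allL (ltAll 6) lw4.Ws = true ∧ [nat_lit 98, nat_lit 82, nat_lit 78].length = lw4.n ∧ lw4.lst H15.HS.P [nat_lit 98, nat_lit 82, nat_lit 78] 100 = 0 := by decide +kernel
theorem lcw : lowChk H15.HS.P 100 6 LLw [] = 0 ∧ prodN LLw = 44352000 ∧ 0 < 44352000 := by decide +kernel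
theorem ccw : cenChk H15.HS.P 100 6 H15.HS.B W W (nat_lit 84) LLw Accw Apw = true := by decide +kernel
theorem cew_0 : allZ (cenEnt H15.HS.P W LLw Apw (nat_lit 4)) (nat_lit 0) (nat_lit 100) = true := by decide +kernel
theorem dc : D.chk H15.HS.P 100 6 H15.HS.B = true := by decide +kernel
theorem fl_0 : allZ (D.fail H15.HS.P [0, 39]) (nat_lit 0) (nat_lit 50) = true := by decide +kernel
theorem gc : slpX H15.HS.P 6 H15.HS.B 6 0 3 [D.X, D.W, D.S, [nat_lit 2, nat_lit 1, nat_lit 2, nat_lit 0, nat_lit 5, nat_lit 3, nat_lit 1, nat_lit 2, nat_lit 3, nat_lit 5], [nat_lit 2, nat_lit 1, nat_lit 0], [nat_lit 5, nat_lit 0, nat_lit 3, nat_lit 2, nat_lit 5, nat_lit 2, nat_lit 4, nat_lit 1, nat_lit 3, nat_lit 2, nat_lit 5, nat_lit 2, nat_lit 4, nat_lit 0, nat_lit 1, nat_lit 2, nat_lit 1, nat_lit 0, nat_lit 1]]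
  [((nat_lit 9), [nat_lit 6]),
  ((nat_lit 10), [nat_lit 7]),
  ((nat_lit 11), [nat_lit 8]),
  ((nat_lit 0), [nat_lit 8, nat_lit 9, nat_lit 11, nat_lit 9, nat_lit 11, nat_lit 9, nat_lit 8, nat_lit 9, nat_lit 8, nat_lit 9, nat_lit 11, nat_lit 6, nat_lit 11, nat_lit 10, nat_lit 6, nat_lit 7, nat_lit 11]),
  ((nat_lit 1), [nat_lit 8, nat_lit 6, nat_lit 6, nat_lit 8, nat_lit 9, nat_lit 8, nat_lit 8, nat_lit 7, nat_lit 6, nat_lit 8, nat_lit 8, nat_lit 9, nat_lit 11, nat_lit 11, nat_lit 7, nat_lit 7]),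
  ((nat_lit 2), [nat_lit 11, nat_lit 9, nat_lit 8, nat_lit 6, nat_lit 8, nat_lit 8, nat_lit 9, nat_lit 8, nat_lit 9, nat_lit 11, nat_lit 11, nat_lit 10, nat_lit 10]),
  ((nat_lit 3), [nat_lit 7, nat_lit 6, nat_lit 10, nat_lit 10, nat_lit 8, nat_lit 8, nat_lit 6, nat_lit 11, nat_lit 6, nat_lit 11, nat_lit 11, nat_lit 9, nat_lit 11, nat_lit 6, nat_lit 8, nat_lit 10, nat_lit 9, nat_lit 10]),
  ((nat_lit 4), [nat_lit 7, nat_lit 9, nat_lit 11, nat_lit 10, nat_lit 9, nat_lit 11, nat_lit 6, nat_lit 8, nat_lit 6, nat_lit 8, nat_lit 10, nat_lit 9, nat_lit 9, nat_lit 11, nat_lit 11, nat_lit 6, nat_lit 11, nat_lit 6, nat_lit 6, nat_lit 6, nat_lit 8, nat_lit 6, nat_lit 10]),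
  ((nat_lit 5), [nat_lit 10, nat_lit 9, nat_lit 8, nat_lit 6, nat_lit 7, nat_lit 8, nat_lit 6, nat_lit 11, nat_lit 9, nat_lit 11, nat_lit 6, nat_lit 8, nat_lit 9, nat_lit 11, nat_lit 10, nat_lit 11, nat_lit 9, nat_lit 8, nat_lit 6, nat_lit 10, nat_lit 6, nat_lit 8, nat_lit 6, nat_lit 11, nat_lit 11, nat_lit 6, nat_lit 6, nat_lit 7])] = true := by decide +kernel
theorem ic_0 : allZ (D.inn H15.HS.P H15.HS.B 39) (nat_lit 0) (nat_lit 25) = true := by decide +kernel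
theorem bc1 : D.subChk H15.HS.P 6 H15.HS.B Wb 39 = true := by decide +kernel
theorem bc2 : allL (fixL (wdsP H15.HS.P Wb) 6 H15.HS.B) H15.HS.Rl = true := by decide +kernel

theorem ov0 : lv0.Orb H15.HS.g H15.HS.pt 100 := Lv.orb_scan H15.HS.act (by decide +kernel) (sum_first ov0_0)
theorem ov1 : lv1.Orb H15.HS.g H15.HS.pt 100 := Lv.orb_scan H15.HS.act (by decide +kernel) (sum_first ov1_0)
theorem ov2 : lv2.Orb H15.HS.g H15.HS.pt 100 := Lv.orb_scan H15.HS.act (by decide +kernel) (sum_first ov2_0)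
theorem ov3 : lv3.Orb H15.HS.g H15.HS.pt 100 := Lv.orb_scan H15.HS.act (by decide +kernel) (sum_first ov3_0)
theorem ov4 : lv4.Orb H15.HS.g H15.HS.pt 100 := Lv.orb_scan H15.HS.act (by decide +kernel) (sum_first ov4_0)
theorem ov5 : lv5.Orb H15.HS.g H15.HS.pt 100 := Lv.orb_lst H15.HS.act ov5c
theorem exv : ExC H15.HS.g H15.HS.pt 100 6 LLv (gen H15.HS.g 6) := exC_of H15.HS.act H15.HS.inj H15.HS.card (all_cons ov0 (all_cons ov1 (all_cons ov2 (all_cons ov3 (all_cons ov4 (all_cons ov5 all_nil)))))) lcv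
theorem cev : ∀ i < 100, (cenEnt H15.HS.P V LLv Apv (nat_lit 10)) i = 0 := allZ_sound0 cev_0
theorem cenv {a} (hg : a ∈ gen H15.HS.g 6) (h : a * evA H15.HS.g V = evA H15.HS.g V * a) :
    ∃ j : ℤ, ∃ E ∈ Accv, a = evA H15.HS.g V ^ j * evA H15.HS.g E :=
  cen_sound H15.HS.act H15.HS.Blt H15.HS.isBase exv ccv cev hg h
theorem ow0 : lw0.Orb H15.HS.g H15.HS.pt 100 := Lv.orb_scan H15.HS.act (by decide +kernel) (sum_first ow0_0)
theorem ow1 : lw1.Orb H15.HS.g H15.HS.pt 100 := Lv.orb_scan H15.HS.act (by decide +kernel) (sum_first ow1_0)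
theorem ow2 : lw2.Orb H15.HS.g H15.HS.pt 100 := Lv.orb_scan H15.HS.act (by decide +kernel) (sum_first ow2_0)
theorem ow3 : lw3.Orb H15.HS.g H15.HS.pt 100 := Lv.orb_scan H15.HS.act (by decide +kernel) (sum_first ow3_0)
theorem ow4 : lw4.Orb H15.HS.g H15.HS.pt 100 := Lv.orb_lst H15.HS.act ow4c
theorem exw : ExC H15.HS.g H15.HS.pt 100 6 LLw (gen H15.HS.g 6) := exC_of H15.HS.act H15.HS.inj H15.HS.card (all_cons ow0 (all_cons ow1 (all_cons ow2 (all_cons ow3 (all_cons ow4 all_nil))))) lcw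
theorem cew : ∀ i < 100, (cenEnt H15.HS.P W LLw Apw (nat_lit 4)) i = 0 := allZ_sound0 cew_0
theorem cenw {a} (hg : a ∈ gen H15.HS.g 6) (h : a * evA H15.HS.g W = evA H15.HS.g W * a) :
    ∃ j : ℤ, ∃ E ∈ Accw, a = evA H15.HS.g W ^ j * evA H15.HS.g E :=
  cen_sound H15.HS.act H15.HS.Blt H15.HS.isBase exw ccw cew hg h
theorem ar : D.ar 44352000 :=
  ⟨by norm_num [D], by decide +kernel, by decide +kernel, by decide +kernel, by decide +kernel, by decide +kernel, by decide +kernel⟩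
theorem fl : ∀ i < 50, (D.fail H15.HS.P [0, 39]) i = 0 := allZ_sound0 fl_0
theorem hg (A) (h : ∀ i < 3, evA H15.HS.g (nth [] [D.X, D.W, D.S] i) ∈ A) : gen H15.HS.g 6 ≤ A :=
  slpX_sound H15.HS.act H15.HS.Blt H15.HS.isBase gc le_rfl (Nat.zero_le _) (by rw [gen_zero]; exact bot_le) fun i hi => by
    obtain rfl | rfl | rfl : i = 0 ∨ i = 1 ∨ i = 2 := by omega
    exacts [h 0 hi, h 1 hi, h 2 hi]
theorem ic : ∀ i < 25, (D.inn H15.HS.P H15.HS.B 39) i = 0 := allZ_sound0 ic_0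
theorem out : Nat.card (Cfsg.Out (gen H15.HS.g 6)) = 2 :=
  D.two H15.HS.act H15.HS.inj H15.HS.Blt H15.HS.isBase H15.HS.card (by decide) dc ar cenv cenw fl hg (D.of_rels H15.HS.act H15.HS.inj H15.HS.Blt H15.HS.isBase H15.HS.card dc ar H15.HS.rels H15.HS.bound (H15.gen_HS ▸ H15.simple_sHS) bc1 bc2) ic

end H16.OHS
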