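import Cfsg.Agent.H16.Out
import Cfsg.Agent.H15.M.M22

/-! Generated by tools/h16 (computation kit). -/

set_option maxRecDepth 100000
set_option maxHeartbeats 0

namespace H16.OM22

noncomputable def V : List ℕ := [nat_lit 0, nat_lit 6, nat_lit 8, nat_lit 7]
noncomputable def W : List ℕ := [nat_lit 1, nat_lit 6]
noncomputable def Fv0d : ℕ := nat_lit 0x1955550b5cc50f75355625878a601ab4f80
noncomputable def Fv0 (u : ℕ) : ℕ := Nat.land (Nat.shiftRight Fv0d (Nat.mul u (nat_lit 6))) (nat_lit 63)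
noncomputable def lv0 : Lv := ⟨(nat_lit 0), (nat_lit 4), (nat_lit 22), (nat_lit 9), [[nat_lit 0],
  [nat_lit 1],
  [nat_lit 2],
  [nat_lit 3],
  [nat_lit 4],
  [nat_lit 5],
  [nat_lit 6],
  [nat_lit 7],
  [nat_lit 8]], Fv0, (nat_lit 7)⟩
noncomputable def Fv1d : ℕ := nat_lit 0x16b8d7b6ae5abbb39804860
noncomputable def Fv1 (u : ℕ) : ℕ := Nat.land (Nat.shiftRight Fv1d (Nat.mul u (nat_lit 4))) (nat_lit 15)
noncomputable def lv1 : Lv := ⟨(nat_lit 1), (nat_lit 22), (nat_lit 21), (nat_lit 3), [[nat_lit 6, nat_lit 3, nat_lit 6, nat_lit 4, nat_lit 8, nat_lit 7, nat_lit 1],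
  [nat_lit 0, nat_lit 5, nat_lit 6, nat_lit 7, nat_lit 6, nat_lit 5, nat_lit 1],
  [nat_lit 1, nat_lit 2, nat_lit 6, nat_lit 3, nat_lit 7, nat_lit 6, nat_lit 4]], Fv1, (nat_lit 5)⟩
noncomputable def Fv2d : ℕ := nat_lit 0x99b8bf7ef1a5ae4690dfb0
noncomputable def Fv2 (u : ℕ) : ℕ := Nat.land (Nat.shiftRight Fv2d (Nat.mul u (nat_lit 4))) (nat_lit 15)
noncomputable def lv2 : Lv := ⟨(nat_lit 2), (nat_lit 12), (nat_lit 20), (nat_lit 4), [[nat_lit 6, nat_lit 7, nat_lit 6, nat_lit 1, nat_lit 5],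
  [nat_lit 6, nat_lit 1, nat_lit 7, nat_lit 6, nat_lit 1, nat_lit 5],
  [nat_lit 6, nat_lit 0, nat_lit 1, nat_lit 2, nat_lit 7, nat_lit 6, nat_lit 1, nat_lit 5],
  [nat_lit 7, nat_lit 6, nat_lit 2, nat_lit 8, nat_lit 7, nat_lit 6, nat_lit 0, nat_lit 4]], Fv2, (nat_lit 4)⟩
noncomputable def Fv3d : ℕ := nat_lit 0xe0f564a1d0b0b0b970ebe0
noncomputable def Fv3 (u : ℕ) : ℕ := Nat.land (Nat.shiftRight Fv3d (Nat.mul u (nat_lit 4))) (nat_lit 15)
noncomputable def lv3 : Lv := ⟨(nat_lit 10), (nat_lit 14), (nat_lit 16), (nat_lit 4), [[nat_lit 7, nat_lit 6, nat_lit 3, nat_lit 8, nat_lit 7, nat_lit 5],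
  [nat_lit 6, nat_lit 3, nat_lit 4, nat_lit 2, nat_lit 8, nat_lit 7, nat_lit 6],
  [nat_lit 6, nat_lit 2, nat_lit 5, nat_lit 7, nat_lit 8, nat_lit 3, nat_lit 6],
  [nat_lit 6, nat_lit 0, nat_lit 3, nat_lit 7, nat_lit 6, nat_lit 1, nat_lit 5]], Fv3, (nat_lit 4)⟩
noncomputable def Fv4d : ℕ := nat_lit 0x4000000043000000
noncomputable def Fv4 (u : ℕ) : ℕ := Nat.land (Nat.shiftRight Fv4d (Nat.mul u (nat_lit 3))) (nat_lit 7)
noncomputable def lv4 : Lv := ⟨(nat_lit 9), (nat_lit 10), (nat_lit 3), (nat_lit 3), [[nat_lit 4, nat_lit 6, nat_lit 3, nat_lit 7, nat_lit 8, nat_lit 7, nat_lit 6, nat_lit 7, nat_lit 6, nat_lit 2, nat_lit 6],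
  [nat_lit 5, nat_lit 1, nat_lit 6, nat_lit 3, nat_lit 6, nat_lit 7, nat_lit 6, nat_lit 0, nat_lit 8, nat_lit 7, nat_lit 6, nat_lit 5],
  [nat_lit 3, nat_lit 5, nat_lit 6, nat_lit 1, nat_lit 7, nat_lit 6, nat_lit 4, nat_lit 8, nat_lit 7, nat_lit 6, nat_lit 3, nat_lit 8]], Fv4, (nat_lit 2)⟩
noncomputable def LLv : List Lv := [lv0, lv1, lv2, lv3, lv4]
noncomputable def Accv : List (List ℕ) := [[]]
noncomputable def Apv : List ℕ := [nat_lit 4]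
noncomputable def Fw0d : ℕ := nat_lit 0x1955550b5cc50f75355625878a601ab4f80
noncomputable def Fw0 (u : ℕ) : ℕ := Nat.land (Nat.shiftRight Fw0d (Nat.mul u (nat_lit 6))) (nat_lit 63)
noncomputable def lw0 : Lv := ⟨(nat_lit 0), (nat_lit 4), (nat_lit 22), (nat_lit 9), [[nat_lit 0],
  [nat_lit 1],
  [nat_lit 2],
  [nat_lit 3],
  [nat_lit 4],
  [nat_lit 5],
  [nat_lit 6],
  [nat_lit 7],
  [nat_lit 8]], Fw0, (nat_lit 7)⟩
noncomputable def Fw1d : ℕ := nat_lit 0x73aba9946de5e91b870c980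
noncomputable def Fw1 (u : ℕ) : ℕ := Nat.land (Nat.shiftRight Fw1d (Nat.mul u (nat_lit 4))) (nat_lit 15)
noncomputable def lw1 : Lv := ⟨(nat_lit 1), (nat_lit 8), (nat_lit 21), (nat_lit 3), [[nat_lit 6, nat_lit 8, nat_lit 2, nat_lit 5, nat_lit 6],
  [nat_lit 2, nat_lit 6, nat_lit 1, nat_lit 7, nat_lit 3],
  [nat_lit 2, nat_lit 4, nat_lit 8, nat_lit 7, nat_lit 6, nat_lit 7, nat_lit 6]], Fw1, (nat_lit 5)⟩
noncomputable def Fw2d : ℕ := nat_lit 0xbd14d65a6897bd0a3a0dda0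
noncomputable def Fw2 (u : ℕ) : ℕ := Nat.land (Nat.shiftRight Fw2d (Nat.mul u (nat_lit 4))) (nat_lit 15)
noncomputable def lw2 : Lv := ⟨(nat_lit 2), (nat_lit 20), (nat_lit 20), (nat_lit 3), [[nat_lit 1, nat_lit 2, nat_lit 6, nat_lit 2, nat_lit 5],
  [nat_lit 8, nat_lit 4, nat_lit 6, nat_lit 0, nat_lit 7, nat_lit 6],
  [nat_lit 2, nat_lit 3, nat_lit 5, nat_lit 6, nat_lit 3, nat_lit 7]], Fw2, (nat_lit 5)⟩
noncomputable def Fw3d : ℕ := nat_lit 0x1e072984985e07018044d6059940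
noncomputable def Fw3 (u : ℕ) : ℕ := Nat.land (Nat.shiftRight Fw3d (Nat.mul u (nat_lit 5))) (nat_lit 31)
noncomputable def lw3 : Lv := ⟨(nat_lit 4), (nat_lit 14), (nat_lit 16), (nat_lit 4), [[nat_lit 7, nat_lit 6, nat_lit 3, nat_lit 8, nat_lit 7, nat_lit 5],
  [nat_lit 7, nat_lit 8, nat_lit 4, nat_lit 3, nat_lit 6, nat_lit 7],
  [nat_lit 4, nat_lit 6, nat_lit 3, nat_lit 6, nat_lit 7, nat_lit 6, nat_lit 3, nat_lit 6, nat_lit 8],
  [nat_lit 6, nat_lit 4, nat_lit 7, nat_lit 6, nat_lit 8, nat_lit 7, nat_lit 6, nat_lit 0, nat_lit 1]], Fw3, (nat_lit 5)⟩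
noncomputable def Fw4d : ℕ := nat_lit 0x400e8
noncomputable def Fw4 (u : ℕ) : ℕ := Nat.land (Nat.shiftRight Fw4d (Nat.mul u (nat_lit 3))) (nat_lit 7)
noncomputable def lw4 : Lv := ⟨(nat_lit 3), (nat_lit 6), (nat_lit 3), (nat_lit 3), [[nat_lit 0, nat_lit 2, nat_lit 6, nat_lit 1, nat_lit 7, nat_lit 6, nat_lit 8, nat_lit 3, nat_lit 6],
  [nat_lit 0, nat_lit 6, nat_lit 3, nat_lit 7, nat_lit 6, nat_lit 0, nat_lit 2, nat_lit 7, nat_lit 8],
  [nat_lit 4, nat_lit 6, nat_lit 8, nat_lit 7, nat_lit 6, nat_lit 4, nat_lit 3, nat_lit 7, nat_lit 6]], Fw4, (nat_lit 2)⟩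
noncomputable def LLw : List Lv := [lw0, lw1, lw2, lw3, lw4]
noncomputable def Accw : List (List ℕ) := [[]]
noncomputable def Apw : List ℕ := [nat_lit 4]
noncomputable def D : OD := ⟨11, 3, 6, 2, 5, [1, 2], V, [nat_lit 7, nat_lit 3, nat_lit 5, nat_lit 6, nat_lit 7, nat_lit 6, nat_lit 8], [nat_lit 2, nat_lit 3, nat_lit 6, nat_lit 3, nat_lit 7, nat_lit 6, nat_lit 2, nat_lit 8, nat_lit 7, nat_lit 6, nat_lit 4, nat_lit 3, nat_lit 5], W, [nat_lit 3, nat_lit 5, nat_lit 6, nat_lit 8], Accw,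
  [([nat_lit 2, nat_lit 1, nat_lit 2, nat_lit 1, nat_lit 0], (nat_lit 3))], (nat_lit 1)⟩
noncomputable def Wb : List (List ℕ) := [[nat_lit 1, nat_lit 4, nat_lit 6, nat_lit 5, nat_lit 1],
  [nat_lit 1, nat_lit 6, nat_lit 1],
  [nat_lit 4, nat_lit 6, nat_lit 2, nat_lit 6, nat_lit 5],
  [nat_lit 4, nat_lit 6, nat_lit 3, nat_lit 6, nat_lit 5],
  [nat_lit 4, nat_lit 6, nat_lit 5, nat_lit 2, nat_lit 6, nat_lit 2],
  [nat_lit 5, nat_lit 6, nat_lit 0, nat_lit 1, nat_lit 4, nat_lit 6],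
  [nat_lit 1],
  [nat_lit 2, nat_lit 3, nat_lit 6, nat_lit 7, nat_lit 8, nat_lit 7, nat_lit 6, nat_lit 2, nat_lit 3],
  [nat_lit 6, nat_lit 1, nat_lit 4, nat_lit 8, nat_lit 6]]

theorem ov0_0 : Nat.beq (loop2 (lv0.scan H15.MM22.P) (nat_lit 0) (nat_lit 24)) (nat_lit 22) = true := by decide +kernel
theorem ov1_0 : Nat.beq (loop2 (lv1.scan H15.MM22.P) (nat_lit 0) (nat_lit 24)) (nat_lit 21) = true := by decide +kernel
theorem ov2_0 : Nat.beq (loop2 (lv2.scan H15.MM22.P) (nat_lit 0) (nat_lit 24)) (nat_lit 20) = true := by decide +kernel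
theorem ov3_0 : Nat.beq (loop2 (lv3.scan H15.MM22.P) (nat_lit 0) (nat_lit 24)) (nat_lit 16) = true := by decide +kernel
theorem ov4c : 0 < lv4.K ∧ allL (ltAll 9) lv4.Ws = true ∧ [nat_lit 20, nat_lit 10, nat_lit 8].length = lv4.n ∧ lv4.lst H15.MM22.P [nat_lit 20, nat_lit 10, nat_lit 8] 24 = 0 := by decide +kernel
theorem lcv : lowChk H15.MM22.P 24 9 LLv [] = 0 ∧ prodN LLv = 443520 ∧ 0 < 443520 := by decide +kernel
theorem ccv : cenChk H15.MM22.P 24 9 H15.MM22.B V V (nat_lit 4) LLv Accv Apv = true := by decide +kernel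
theorem cev_0 : allZ (cenEnt H15.MM22.P V LLv Apv (nat_lit 10)) (nat_lit 0) (nat_lit 24) = true := by decide +kernel
theorem ow0_0 : Nat.beq (loop2 (lw0.scan H15.MM22.P) (nat_lit 0) (nat_lit 24)) (nat_lit 22) = true := by decide +kernel
theorem ow1_0 : Nat.beq (loop2 (lw1.scan H15.MM22.P) (nat_lit 0) (nat_lit 24)) (nat_lit 21) = true := by decide +kernel
theorem ow2_0 : Nat.beq (loop2 (lw2.scan H15.MM22.P) (nat_lit 0) (nat_lit 24)) (nat_lit 20) = true := by decide +kernel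
theorem ow3_0 : Nat.beq (loop2 (lw3.scan H15.MM22.P) (nat_lit 0) (nat_lit 24)) (nat_lit 16) = true := by decide +kernel
theorem ow4c : 0 < lw4.K ∧ allL (ltAll 9) lw4.Ws = true ∧ [nat_lit 6, nat_lit 2, nat_lit 1].length = lw4.n ∧ lw4.lst H15.MM22.P [nat_lit 6, nat_lit 2, nat_lit 1] 24 = 0 := by decide +kernel
theorem lcw : lowChk H15.MM22.P 24 9 LLw [] = 0 ∧ prodN LLw = 443520 ∧ 0 < 443520 := by decide +kernel
theorem ccw : cenChk H15.MM22.P 24 9 H15.MM22.B W W (nat_lit 4) LLw Accw Apw = true := by decide +kernel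
theorem cew_0 : allZ (cenEnt H15.MM22.P W LLw Apw (nat_lit 4)) (nat_lit 0) (nat_lit 24) = true := by decide +kernel
theorem dc : D.chk H15.MM22.P 24 9 H15.MM22.B = true := by decide +kernel
theorem fl_0 : allZ (D.fail H15.MM22.P [0, 9]) (nat_lit 0) (nat_lit 10) = true := by decide +kernel
theorem gc : slpX H15.MM22.P 9 H15.MM22.B 9 0 3 [D.X, D.W, D.S, [nat_lit 4, nat_lit 3, nat_lit 5, nat_lit 6, nat_lit 7, nat_lit 8, nat_lit 2, nat_lit 6, nat_lit 7, nat_lit 3, nat_lit 6, nat_lit 3, nat_lit 2], [nat_lit 6, nat_lit 1], [nat_lit 8, nat_lit 6, nat_lit 4, nat_lit 3]]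
  [((nat_lit 12), [nat_lit 9]),
  ((nat_lit 13), [nat_lit 10]),
  ((nat_lit 14), [nat_lit 11]),
  ((nat_lit 0), [nat_lit 10, nat_lit 14, nat_lit 9, nat_lit 11, nat_lit 10, nat_lit 9, nat_lit 14, nat_lit 9, nat_lit 11, nat_lit 10, nat_lit 9, nat_lit 10]),
  ((nat_lit 1), [nat_lit 14, nat_lit 14, nat_lit 13]),
  ((nat_lit 2), [nat_lit 10, nat_lit 11, nat_lit 12, nat_lit 11, nat_lit 9, nat_lit 10, nat_lit 14, nat_lit 10, nat_lit 12, nat_lit 11, nat_lit 12, nat_lit 12]),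
  ((nat_lit 3), [nat_lit 12, nat_lit 11, nat_lit 9, nat_lit 10, nat_lit 14, nat_lit 12, nat_lit 14, nat_lit 12, nat_lit 12]),
  ((nat_lit 4), [nat_lit 14, nat_lit 13, nat_lit 14, nat_lit 12, nat_lit 11, nat_lit 9, nat_lit 9, nat_lit 11, nat_lit 12, nat_lit 12, nat_lit 11]),
  ((nat_lit 5), [nat_lit 14, nat_lit 10, nat_lit 14, nat_lit 9, nat_lit 11, nat_lit 9, nat_lit 13, nat_lit 12, nat_lit 11, nat_lit 12, nat_lit 13, nat_lit 11]),
  ((nat_lit 6), [nat_lit 14, nat_lit 14]),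
  ((nat_lit 7), [nat_lit 14, nat_lit 13, nat_lit 9, nat_lit 14, nat_lit 9, nat_lit 11, nat_lit 9, nat_lit 13, nat_lit 12, nat_lit 11, nat_lit 12, nat_lit 13, nat_lit 11, nat_lit 9]),
  ((nat_lit 8), [nat_lit 11, nat_lit 10, nat_lit 11, nat_lit 12, nat_lit 11, nat_lit 9, nat_lit 10, nat_lit 14, nat_lit 10, nat_lit 12, nat_lit 11, nat_lit 12, nat_lit 12, nat_lit 13])] = true := by decide +kernel
theorem ic_0 : allZ (D.inn H15.MM22.P H15.MM22.B 9) (nat_lit 0) (nat_lit 5) = true := by decide +kernel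
theorem bc1 : D.subChk H15.MM22.P 9 H15.MM22.B Wb 9 = true := by decide +kernel
theorem bc2 : allL (fixL (wdsP H15.MM22.P Wb) 9 H15.MM22.B) H15.MM22.Rl = true := by decide +kernel

theorem ov0 : lv0.Orb H15.MM22.g H15.pt 24 := Lv.orb_scan H15.MM22.act (by decide +kernel) (sum_first ov0_0)
theorem ov1 : lv1.Orb H15.MM22.g H15.pt 24 := Lv.orb_scan H15.MM22.act (by decide +kernel) (sum_first ov1_0)
theorem ov2 : lv2.Orb H15.MM22.g H15.pt 24 := Lv.orb_scan H15.MM22.act (by decide +kernel) (sum_first ov2_0)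
theorem ov3 : lv3.Orb H15.MM22.g H15.pt 24 := Lv.orb_scan H15.MM22.act (by decide +kernel) (sum_first ov3_0)
theorem ov4 : lv4.Orb H15.MM22.g H15.pt 24 := Lv.orb_lst H15.MM22.act ov4c
theorem exv : ExC H15.MM22.g H15.pt 24 9 LLv (gen H15.MM22.g 9) := exC_of H15.MM22.act H15.MM22.inj H15.MM22.card (all_cons ov0 (all_cons ov1 (all_cons ov2 (all_cons ov3 (all_cons ov4 all_nil))))) lcv
theorem cev : ∀ i < 24, (cenEnt H15.MM22.P V LLv Apv (nat_lit 10)) i = 0 := allZ_sound0 cev_0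
theorem cenv {a} (hg : a ∈ gen H15.MM22.g 9) (h : a * evA H15.MM22.g V = evA H15.MM22.g V * a) :
    ∃ j : ℤ, ∃ E ∈ Accv, a = evA H15.MM22.g V ^ j * evA H15.MM22.g E :=
  cen_sound H15.MM22.act H15.MM22.Blt H15.MM22.isBase exv ccv cev hg h
theorem ow0 : lw0.Orb H15.MM22.g H15.pt 24 := Lv.orb_scan H15.MM22.act (by decide +kernel) (sum_first ow0_0)
theorem ow1 : lw1.Orb H15.MM22.g H15.pt 24 := Lv.orb_scan H15.MM22.act (by decide +kernel) (sum_first ow1_0)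
theorem ow2 : lw2.Orb H15.MM22.g H15.pt 24 := Lv.orb_scan H15.MM22.act (by decide +kernel) (sum_first ow2_0)
theorem ow3 : lw3.Orb H15.MM22.g H15.pt 24 := Lv.orb_scan H15.MM22.act (by decide +kernel) (sum_first ow3_0)
theorem ow4 : lw4.Orb H15.MM22.g H15.pt 24 := Lv.orb_lst H15.MM22.act ow4c
theorem exw : ExC H15.MM22.g H15.pt 24 9 LLw (gen H15.MM22.g 9) := exC_of H15.MM22.act H15.MM22.inj H15.MM22.card (all_cons ow0 (all_cons ow1 (all_cons ow2 (all_cons ow3 (all_cons ow4 all_nil))))) lcw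
theorem cew : ∀ i < 24, (cenEnt H15.MM22.P W LLw Apw (nat_lit 4)) i = 0 := allZ_sound0 cew_0
theorem cenw {a} (hg : a ∈ gen H15.MM22.g 9) (h : a * evA H15.MM22.g W = evA H15.MM22.g W * a) :
    ∃ j : ℤ, ∃ E ∈ Accw, a = evA H15.MM22.g W ^ j * evA H15.MM22.g E :=
  cen_sound H15.MM22.act H15.MM22.Blt H15.MM22.isBase exw ccw cew hg h
theorem ar : D.ar 443520 :=
  ⟨by norm_num [D], by decide +kernel, by decide +kernel, by decide +kernel, by decide +kernel, by decide +kernel, by decide +kernel⟩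
theorem fl : ∀ i < 10, (D.fail H15.MM22.P [0, 9]) i = 0 := allZ_sound0 fl_0
theorem hg (A) (h : ∀ i < 3, evA H15.MM22.g (nth [] [D.X, D.W, D.S] i) ∈ A) : gen H15.MM22.g 9 ≤ A :=
  slpX_sound H15.MM22.act H15.MM22.Blt H15.MM22.isBase gc le_rfl (Nat.zero_le _) (by rw [gen_zero]; exact bot_le) fun i hi => by
    obtain rfl | rfl | rfl : i = 0 ∨ i = 1 ∨ i = 2 := by omega
    exacts [h 0 hi, h 1 hi, h 2 hi]
theorem ic : ∀ i < 5, (D.inn H15.MM22.P H15.MM22.B 9) i = 0 := allZ_sound0 ic_0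
theorem out : Nat.card (Cfsg.Out (gen H15.MM22.g 9)) = 2 :=
  D.two H15.MM22.act H15.MM22.inj H15.MM22.Blt H15.MM22.isBase H15.MM22.card (by decide) dc ar cenv cenw fl hg (D.of_rels H15.MM22.act H15.MM22.inj H15.MM22.Blt H15.MM22.isBase H15.MM22.card dc ar H15.MM22.rels H15.MM22.bound (H15.MM22.gen_eq ▸ H15.simple_M22) bc1 bc2) ic

end H16.OM22
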