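import Cfsg.Agent.H16.Out
import Cfsg.Agent.H15.Conway2

/-! Generated by tools/h16 (computation kit). -/

set_option maxRecDepth 100000
set_option maxHeartbeats 0

namespace H16.OCo3
open scoped Pointwise

noncomputable def V : List ℕ := [nat_lit 2, nat_lit 3, nat_lit 4, nat_lit 6, nat_lit 5]
noncomputable def W : List ℕ := [nat_lit 2, nat_lit 3, nat_lit 4, nat_lit 5, nat_lit 6]
noncomputable def Fv0d : ℕ := nat_lit 0x3cb9cbd86a571683093a550d0b9f709542a7ea0fbc52b9a0a7e5893b50d139174b9a1d42892ae69014a242f9741446d41950e5a3f44a1a3d505db958ca0ba572a5d254eb5c225c69a216a7c5a55cd0c095c95d1e1cb573436b9da53cfc6bf7660d2e84a07ae2e7cda84e68bc24ec1725668222d5c210c74468da23a61ba13ea113f68b8d2380b0da72c79e304c6d69a8894cae2ad0d9a4e1d4163660a9642690962274f254a7ca214e78f14250d1a84038aa64074f21304889e348e21d36a0a1f20713225c84cb3427c8191e4ca1e3efd0a1527d12e745d01e6885d1e3c81d1426e80c5430e08f7d219c482ea3c8a163068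
noncomputable def Fv0 (u : ℕ) : ℕ := Nat.land (Nat.shiftRight Fv0d (Nat.mul u (nat_lit 7))) (nat_lit 127)
noncomputable def lv0 : Lv := ⟨(nat_lit 0), (nat_lit 17), (nat_lit 276), (nat_lit 7), [[nat_lit 0],
  [nat_lit 1],
  [nat_lit 2],
  [nat_lit 3],
  [nat_lit 4],
  [nat_lit 5],
  [nat_lit 6]], Fv0, (nat_lit 15)⟩
noncomputable def Fv1d : ℕ := nat_lit 0x841f44d25054213549f07c9539422f641924a60d7d2329d06f6be3093a2a6b64da422f3326f7458e54dec7be8b5c694741d0a4a2f7b1c7735f053d4c8b22a939b04ca4c84e32652138d2543de2d8a20e84d915b9f191a708b60f7454b8360c451ec41e149ca2f5d1d37b6cf6d2ec9392e8c6217b273746707c58f8166f5cd91751ee8ca109c62d9420c6d24ea45e6839ed6d22b9428c6c5309b5f19c2347bd93840095a5c48ba6c7ba4d8468d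
noncomputable def Fv1 (u : ℕ) : ℕ := Nat.land (Nat.shiftRight Fv1d (Nat.mul u (nat_lit 5))) (nat_lit 31)
noncomputable def lv1 : Lv := ⟨(nat_lit 1), (nat_lit 92), (nat_lit 275), (nat_lit 3), [[nat_lit 2, nat_lit 4, nat_lit 5, nat_lit 1, nat_lit 0, nat_lit 6, nat_lit 2, nat_lit 6, nat_lit 1, nat_lit 3, nat_lit 2, nat_lit 3, nat_lit 2, nat_lit 3, nat_lit 0, nat_lit 1, nat_lit 4, nat_lit 3, nat_lit 2, nat_lit 5, nat_lit 2, nat_lit 4, nat_lit 3, nat_lit 2, nat_lit 4, nat_lit 2, nat_lit 6, nat_lit 5, nat_lit 4, nat_lit 3, nat_lit 2, nat_lit 1],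
  [nat_lit 6, nat_lit 1, nat_lit 6, nat_lit 2, nat_lit 6, nat_lit 5, nat_lit 2, nat_lit 5, nat_lit 6, nat_lit 3, nat_lit 2, nat_lit 4, nat_lit 2, nat_lit 4, nat_lit 3, nat_lit 2, nat_lit 4, nat_lit 3, nat_lit 2, nat_lit 3, nat_lit 5, nat_lit 4, nat_lit 6, nat_lit 5, nat_lit 4, nat_lit 3, nat_lit 2, nat_lit 3, nat_lit 6, nat_lit 4, nat_lit 0, nat_lit 2],
  [nat_lit 2, nat_lit 5, nat_lit 1, nat_lit 6, nat_lit 2, nat_lit 0, nat_lit 6, nat_lit 3, nat_lit 6, nat_lit 2, nat_lit 0, nat_lit 6, nat_lit 4, nat_lit 3, nat_lit 6, nat_lit 2, nat_lit 6, nat_lit 2, nat_lit 0, nat_lit 1, nat_lit 5, nat_lit 4, nat_lit 3, nat_lit 6, nat_lit 2, nat_lit 5, nat_lit 4, nat_lit 3, nat_lit 2, nat_lit 3, nat_lit 6, nat_lit 5, nat_lit 4, nat_lit 6]], Fv1, (nat_lit 8)⟩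
noncomputable def Fv2d : ℕ := nat_lit 0x4358c0000e6a80000180801c30250b0012c601607c1200196000000581a00001043400600100000e58000000098000c801a003c00001c0001406320b0018e78000794007b800881e76000000080001a0630000001100220780cc03c00045cd0000900140481803a9400318d0280b03a20025c000000001e08800003c0d7800c0000b0002f0000078160000000000d701a0030c0000008801100220000ef034000000e035ea6a8000000000000
noncomputable def Fv2 (u : ℕ) : ℕ := Nat.land (Nat.shiftRight Fv2d (Nat.mul u (nat_lit 5))) (nat_lit 31)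
noncomputable def lv2 : Lv := ⟨(nat_lit 4), (nat_lit 65), (nat_lit 112), (nat_lit 3), [[nat_lit 5, nat_lit 2, nat_lit 4, nat_lit 3, nat_lit 2, nat_lit 0, nat_lit 2, nat_lit 3, nat_lit 5, nat_lit 4, nat_lit 3, nat_lit 5, nat_lit 2, nat_lit 4, nat_lit 2, nat_lit 5, nat_lit 4, nat_lit 3, nat_lit 2, nat_lit 6, nat_lit 2, nat_lit 5, nat_lit 4, nat_lit 3, nat_lit 2, nat_lit 1],
  [nat_lit 6, nat_lit 1, nat_lit 2, nat_lit 6, nat_lit 1, nat_lit 3, nat_lit 2, nat_lit 0, nat_lit 2, nat_lit 0, nat_lit 1, nat_lit 4, nat_lit 3, nat_lit 2, nat_lit 0, nat_lit 2, nat_lit 3, nat_lit 2, nat_lit 0, nat_lit 2, nat_lit 5, nat_lit 4, nat_lit 3, nat_lit 6, nat_lit 5, nat_lit 4, nat_lit 3],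
  [nat_lit 2, nat_lit 5, nat_lit 6, nat_lit 2, nat_lit 6, nat_lit 5, nat_lit 3, nat_lit 2, nat_lit 6, nat_lit 2, nat_lit 6, nat_lit 3, nat_lit 2, nat_lit 4, nat_lit 3, nat_lit 2, nat_lit 5, nat_lit 2, nat_lit 4, nat_lit 3, nat_lit 6, nat_lit 2, nat_lit 5, nat_lit 4, nat_lit 3, nat_lit 2, nat_lit 1, nat_lit 3]], Fv2, (nat_lit 6)⟩
noncomputable def Fv3d : ℕ := nat_lit 0x581c0000000340000000000005800000000000076800e001600001000100000000000002580001c0001a0000000000000000638000000c00000098000000e000000000a000000000e7000003c0e00160046000000c000000022d00000825a000000000000000e48000000006000d580007000d8c41101c04401600316001800524002c400030090196c00e200000c700005b809001a07a80c030003800c02800000000000e03d4002230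
noncomputable def Fv3 (u : ℕ) : ℕ := Nat.land (Nat.shiftRight Fv3d (Nat.mul u (nat_lit 5))) (nat_lit 31)
noncomputable def lv3 : Lv := ⟨(nat_lit 22), (nat_lit 179), (nat_lit 81), (nat_lit 3), [[nat_lit 0, nat_lit 2, nat_lit 3, nat_lit 2, nat_lit 3, nat_lit 2, nat_lit 3, nat_lit 2, nat_lit 5, nat_lit 2, nat_lit 5, nat_lit 4, nat_lit 3, nat_lit 6, nat_lit 2, nat_lit 6, nat_lit 3, nat_lit 0, nat_lit 5, nat_lit 2, nat_lit 4, nat_lit 3, nat_lit 2, nat_lit 1],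
  [nat_lit 1, nat_lit 6, nat_lit 2, nat_lit 3, nat_lit 2, nat_lit 0, nat_lit 2, nat_lit 3, nat_lit 2, nat_lit 4, nat_lit 3, nat_lit 2, nat_lit 0, nat_lit 2, nat_lit 4, nat_lit 3, nat_lit 4, nat_lit 5, nat_lit 4, nat_lit 3, nat_lit 5, nat_lit 2, nat_lit 4, nat_lit 2, nat_lit 4, nat_lit 5],
  [nat_lit 2, nat_lit 5, nat_lit 2, nat_lit 1, nat_lit 2, nat_lit 5, nat_lit 3, nat_lit 2, nat_lit 1, nat_lit 2, nat_lit 4, nat_lit 3, nat_lit 6, nat_lit 2, nat_lit 6, nat_lit 5, nat_lit 4, nat_lit 3, nat_lit 2, nat_lit 3, nat_lit 2, nat_lit 0, nat_lit 5, nat_lit 4, nat_lit 3, nat_lit 6, nat_lit 5, nat_lit 1, nat_lit 5, nat_lit 4, nat_lit 2]], Fv3, (nat_lit 6)⟩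
noncomputable def Fv4d : ℕ := nat_lit 0x600800000003400000000000000000000000000e00009000a000009001400000000000019a000140001a0000000000000000500000000b0000004000000060000000000000000000c600000240c001a0030e000009000000020f000000362000000000000000b50000000000000b480003800d0440a03808880000380003c0062c0060c000000002c00001e000000580005b800001c0430010380038009000000000000000000000194b
noncomputable def Fv4 (u : ℕ) : ℕ := Nat.land (Nat.shiftRight Fv4d (Nat.mul u (nat_lit 5))) (nat_lit 31)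
noncomputable def lv4 : Lv := ⟨(nat_lit 21), (nat_lit 28), (nat_lit 60), (nat_lit 3), [[nat_lit 0, nat_lit 5, nat_lit 2, nat_lit 5, nat_lit 3, nat_lit 2, nat_lit 0, nat_lit 2, nat_lit 1, nat_lit 3, nat_lit 4, nat_lit 3, nat_lit 2, nat_lit 0, nat_lit 2, nat_lit 3, nat_lit 6, nat_lit 2, nat_lit 4],
  [nat_lit 2, nat_lit 3, nat_lit 2, nat_lit 0, nat_lit 1, nat_lit 4, nat_lit 3, nat_lit 2, nat_lit 0, nat_lit 2, nat_lit 3, nat_lit 5, nat_lit 4, nat_lit 3, nat_lit 6, nat_lit 5, nat_lit 4, nat_lit 3, nat_lit 2, nat_lit 1, nat_lit 6, nat_lit 5, nat_lit 4, nat_lit 3, nat_lit 2],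
  [nat_lit 5, nat_lit 4, nat_lit 1, nat_lit 0, nat_lit 2, nat_lit 0, nat_lit 2, nat_lit 0, nat_lit 1, nat_lit 3, nat_lit 2, nat_lit 1, nat_lit 2, nat_lit 0, nat_lit 4, nat_lit 3, nat_lit 2, nat_lit 0, nat_lit 2, nat_lit 3, nat_lit 5, nat_lit 4, nat_lit 3, nat_lit 2, nat_lit 4, nat_lit 2, nat_lit 6, nat_lit 5]], Fv4, (nat_lit 6)⟩
noncomputable def Fv5d : ℕ := nat_lit 0x60000000000900000000000100000000000000000000c0000000000000000000000000000000000000000305000006000080000000000000000000000000000000000000000000000000b00000000000000000000000000800000000000000000000b000000000000000000000000000000000000000000000000000000000000e00000000000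
noncomputable def Fv5 (u : ℕ) : ℕ := Nat.land (Nat.shiftRight Fv5d (Nat.mul u (nat_lit 4))) (nat_lit 15)
noncomputable def lv5 : Lv := ⟨(nat_lit 20), (nat_lit 245), (nat_lit 12), (nat_lit 3), [[nat_lit 2, nat_lit 0, nat_lit 3, nat_lit 2, nat_lit 4, nat_lit 2, nat_lit 3, nat_lit 2, nat_lit 3, nat_lit 2, nat_lit 3, nat_lit 2, nat_lit 0, nat_lit 2, nat_lit 4, nat_lit 3, nat_lit 2, nat_lit 5, nat_lit 4, nat_lit 6, nat_lit 5, nat_lit 4, nat_lit 3, nat_lit 2, nat_lit 0, nat_lit 2, nat_lit 5, nat_lit 3, nat_lit 4],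
  [nat_lit 2, nat_lit 0, nat_lit 3, nat_lit 2, nat_lit 4, nat_lit 2, nat_lit 3, nat_lit 2, nat_lit 3, nat_lit 2, nat_lit 3, nat_lit 2, nat_lit 0, nat_lit 2, nat_lit 4, nat_lit 3, nat_lit 2, nat_lit 5, nat_lit 4, nat_lit 6, nat_lit 5, nat_lit 4, nat_lit 3, nat_lit 2, nat_lit 0, nat_lit 2, nat_lit 3, nat_lit 5, nat_lit 4],
  [nat_lit 5, nat_lit 0, nat_lit 3, nat_lit 6, nat_lit 5, nat_lit 2, nat_lit 5, nat_lit 3, nat_lit 4, nat_lit 3, nat_lit 5, nat_lit 2, nat_lit 1, nat_lit 2, nat_lit 4, nat_lit 3, nat_lit 2, nat_lit 5, nat_lit 4, nat_lit 3, nat_lit 2, nat_lit 1, nat_lit 5, nat_lit 4, nat_lit 3, nat_lit 2, nat_lit 5, nat_lit 4, nat_lit 3, nat_lit 2, nat_lit 0]], Fv5, (nat_lit 5)⟩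
noncomputable def LLv : List Lv := [lv0, lv1, lv2, lv3, lv4, lv5]
noncomputable def Accv : List (List ℕ) := [[]]
noncomputable def Apv : List ℕ := [nat_lit 17]
noncomputable def Fw0d : ℕ := nat_lit 0x5eccf1736b96ca50256bd6a89dc420999b43ed5d146c994452cd9d9e6a8dc4a3e98bb65d09e2d4a61b478494f9c7b297488464e9878dd0a25d056c52ef213d20e8ead6278d365ad12ba5ad65b55e820c366b90af94956a56c7cdbd5c8a2244ece0ad2ec253382cd9ac4b19e9f66b14b540f4d1e6115aa26d2223d8514e3b789db1e4aa1ab63cfa1b086f4ba67510e3e46d65b398a5d424d31ac491162be6efa04a8af5d378afa6414d31f4a903e2c78f322c5592623b7d21f3e90d8ac5909e13e98f60bd5b320157f15f4b9305dcc7c69f3c6f3e52c452a2c52eec8c37d309bd767661b5c383bd2404b1a1088fa55ad5ec5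
noncomputable def Fw0 (u : ℕ) : ℕ := Nat.land (Nat.shiftRight Fw0d (Nat.mul u (nat_lit 7))) (nat_lit 127)
noncomputable def lw0 : Lv := ⟨(nat_lit 0), (nat_lit 10), (nat_lit 276), (nat_lit 7), [[nat_lit 0],
  [nat_lit 1],
  [nat_lit 2],
  [nat_lit 3],
  [nat_lit 4],
  [nat_lit 5],
  [nat_lit 6]], Fw0, (nat_lit 12)⟩
noncomputable def Fw1d : ℕ := nat_lit 0x321ac94a106cdad61e6d84a4c7298e941cc93a4b7ba336c50c741709c26f8b5ef9ae718ce323cdee8a9b48ce14649704d12f751f18ba347b60c829f46bd5044e0f8321384a2e4be519aa518ce91951939c9f1a456c851b18bd8c8bdf2925ad4cdd19d2709b9d15521192e0f7be0f9a9ee5262b5c5937c5f18c22cb39c66c60e752127a9eda3dee8468d3be94a15307c59484a4f2320f6b58c5b20c84c2f6d20d8360f84a92801337be4d30e14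
noncomputable def Fw1 (u : ℕ) : ℕ := Nat.land (Nat.shiftRight Fw1d (Nat.mul u (nat_lit 5))) (nat_lit 31)
noncomputable def lw1 : Lv := ⟨(nat_lit 1), (nat_lit 25), (nat_lit 275), (nat_lit 3), [[nat_lit 6, nat_lit 1, nat_lit 5, nat_lit 2, nat_lit 5, nat_lit 2, nat_lit 4, nat_lit 3, nat_lit 2, nat_lit 6, nat_lit 1, nat_lit 2, nat_lit 6, nat_lit 5, nat_lit 4, nat_lit 3, nat_lit 2, nat_lit 0, nat_lit 2, nat_lit 5, nat_lit 6, nat_lit 5, nat_lit 4, nat_lit 3, nat_lit 2, nat_lit 1, nat_lit 5],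
  [nat_lit 3, nat_lit 4, nat_lit 2, nat_lit 1, nat_lit 0, nat_lit 2, nat_lit 3, nat_lit 2, nat_lit 5, nat_lit 2, nat_lit 5, nat_lit 3, nat_lit 5, nat_lit 4, nat_lit 3, nat_lit 2, nat_lit 0, nat_lit 2, nat_lit 4, nat_lit 3, nat_lit 5, nat_lit 2, nat_lit 1, nat_lit 2, nat_lit 4, nat_lit 3, nat_lit 2, nat_lit 5, nat_lit 4, nat_lit 3, nat_lit 2, nat_lit 3],
  [nat_lit 1, nat_lit 6, nat_lit 2, nat_lit 1, nat_lit 0, nat_lit 6, nat_lit 3, nat_lit 2, nat_lit 0, nat_lit 5, nat_lit 4, nat_lit 3, nat_lit 6, nat_lit 2, nat_lit 6, nat_lit 5, nat_lit 4, nat_lit 3, nat_lit 2, nat_lit 5, nat_lit 6, nat_lit 5, nat_lit 4, nat_lit 3, nat_lit 2, nat_lit 1, nat_lit 6, nat_lit 5, nat_lit 4, nat_lit 3, nat_lit 2, nat_lit 1, nat_lit 0]], Fw1, (nat_lit 8)⟩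
noncomputable def Fw2d : ℕ := nat_lit 0x681c00000a73c0050000600006018003000002207c4007380d000007ba11000c00250a8800f0340d0000000003600118b4007001158192031a00012b02c0d638008bc000000603a0b001c0030f1724002262e000e0001000000d5028f02e200020f8000e8340080000034a9000000300c0000e4b400601c0001c00000e030100380880000000000022a02c0078000300118ac006800008000001896a40003400001c06000a000000000000000
noncomputable def Fw2 (u : ℕ) : ℕ := Nat.land (Nat.shiftRight Fw2d (Nat.mul u (nat_lit 5))) (nat_lit 31)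
noncomputable def lw2 : Lv := ⟨(nat_lit 2), (nat_lit 35), (nat_lit 112), (nat_lit 3), [[nat_lit 3, nat_lit 2, nat_lit 6, nat_lit 2, nat_lit 6, nat_lit 3, nat_lit 4, nat_lit 3, nat_lit 2, nat_lit 1, nat_lit 2, nat_lit 4, nat_lit 5, nat_lit 4, nat_lit 3, nat_lit 2, nat_lit 0, nat_lit 2, nat_lit 3, nat_lit 5, nat_lit 4, nat_lit 3, nat_lit 2, nat_lit 0, nat_lit 5, nat_lit 2, nat_lit 4],
  [nat_lit 6, nat_lit 5, nat_lit 2, nat_lit 5, nat_lit 3, nat_lit 6, nat_lit 2, nat_lit 6, nat_lit 4, nat_lit 3, nat_lit 2, nat_lit 0, nat_lit 2, nat_lit 0, nat_lit 2, nat_lit 5, nat_lit 4, nat_lit 3, nat_lit 2, nat_lit 4, nat_lit 2, nat_lit 0, nat_lit 2, nat_lit 4, nat_lit 6, nat_lit 5, nat_lit 4],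
  [nat_lit 4, nat_lit 2, nat_lit 0, nat_lit 2, nat_lit 4, nat_lit 3, nat_lit 5, nat_lit 6, nat_lit 2, nat_lit 6, nat_lit 5, nat_lit 4, nat_lit 5, nat_lit 4, nat_lit 3, nat_lit 5, nat_lit 2, nat_lit 4, nat_lit 2, nat_lit 3, nat_lit 6, nat_lit 5, nat_lit 4, nat_lit 3, nat_lit 2, nat_lit 1, nat_lit 5, nat_lit 6, nat_lit 5]], Fw2, (nat_lit 7)⟩
noncomputable def Fw3d : ℕ := nat_lit 0xd5bc006800060000601a002400001c0580006800e000001a4ea000e0024007000402010000000000d08000780006000f4810a00000001f10300c68000700000000f01dca001800000c480008a5c000140001600000c70000019c0001b0000006380050000025b0000000340b000095ac0000000001800001003c0c0000b00000000000000d00000280000000f0300068000000000000678000038000014080006000000000000000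
noncomputable def Fw3 (u : ℕ) : ℕ := Nat.land (Nat.shiftRight Fw3d (Nat.mul u (nat_lit 5))) (nat_lit 31)
noncomputable def lw3 : Lv := ⟨(nat_lit 10), (nat_lit 203), (nat_lit 81), (nat_lit 3), [[nat_lit 0, nat_lit 1, nat_lit 2, nat_lit 3, nat_lit 2, nat_lit 5, nat_lit 6, nat_lit 5, nat_lit 4, nat_lit 3, nat_lit 2, nat_lit 5, nat_lit 4, nat_lit 3, nat_lit 2, nat_lit 1, nat_lit 5, nat_lit 4, nat_lit 3, nat_lit 2, nat_lit 6, nat_lit 5, nat_lit 4, nat_lit 0],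
  [nat_lit 1, nat_lit 0, nat_lit 2, nat_lit 0, nat_lit 4, nat_lit 3, nat_lit 5, nat_lit 4, nat_lit 3, nat_lit 2, nat_lit 0, nat_lit 2, nat_lit 3, nat_lit 2, nat_lit 4, nat_lit 3, nat_lit 6, nat_lit 5, nat_lit 4, nat_lit 3, nat_lit 2, nat_lit 0, nat_lit 2, nat_lit 1, nat_lit 6],
  [nat_lit 1, nat_lit 2, nat_lit 3, nat_lit 2, nat_lit 3, nat_lit 2, nat_lit 4, nat_lit 5, nat_lit 4, nat_lit 3, nat_lit 2, nat_lit 6, nat_lit 2, nat_lit 5, nat_lit 6, nat_lit 2, nat_lit 3, nat_lit 4, nat_lit 5, nat_lit 6, nat_lit 2, nat_lit 3, nat_lit 2, nat_lit 3, nat_lit 2, nat_lit 3, nat_lit 0]], Fw3, (nat_lit 6)⟩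
noncomputable def Fw4d : ℕ := nat_lit 0xc8280018000b8000b8000048000014078000000080000074a000008004800400180001600000000170000000000000158812b00000000000441470000700000000005b58001e000000b00000020000000000c00000d0000005ee000133000002b000300000026b0000005c00000115d400000000026000014050000001200000000000000e000008800000013054000000000000000010000005000001a000006000000000000000
noncomputable def Fw4 (u : ℕ) : ℕ := Nat.land (Nat.shiftRight Fw4d (Nat.mul u (nat_lit 5))) (nat_lit 31)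
noncomputable def lw4 : Lv := ⟨(nat_lit 6), (nat_lit 28), (nat_lit 60), (nat_lit 3), [[nat_lit 5, nat_lit 0, nat_lit 2, nat_lit 0, nat_lit 3, nat_lit 2, nat_lit 5, nat_lit 2, nat_lit 5, nat_lit 2, nat_lit 0, nat_lit 4, nat_lit 3, nat_lit 2, nat_lit 1, nat_lit 2, nat_lit 3],
  [nat_lit 0, nat_lit 1, nat_lit 3, nat_lit 2, nat_lit 0, nat_lit 2, nat_lit 4, nat_lit 3, nat_lit 2, nat_lit 3, nat_lit 2, nat_lit 3, nat_lit 2, nat_lit 5, nat_lit 4, nat_lit 3, nat_lit 5, nat_lit 2, nat_lit 1, nat_lit 2, nat_lit 4, nat_lit 3, nat_lit 4],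
  [nat_lit 2, nat_lit 4, nat_lit 3, nat_lit 6, nat_lit 2, nat_lit 6, nat_lit 0, nat_lit 1, nat_lit 5, nat_lit 4, nat_lit 3, nat_lit 2, nat_lit 4, nat_lit 3, nat_lit 6, nat_lit 2, nat_lit 5, nat_lit 4, nat_lit 3, nat_lit 2, nat_lit 3, nat_lit 6, nat_lit 0, nat_lit 2]], Fw4, (nat_lit 9)⟩
noncomputable def Fw5d : ℕ := nat_lit 0x6000000000000000000000000000000000000000000000000000000000008800000000000000000000000003a00000000000000009000000000002400001100000000000000000000000000001d000000000b0000000000000000000000000000000000000000000000000000000000000000000000000000000000000080000000000000000000000000000000000000600000000000000000000000000000000000b80000001700000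
noncomputable def Fw5 (u : ℕ) : ℕ := Nat.land (Nat.shiftRight Fw5d (Nat.mul u (nat_lit 5))) (nat_lit 31)
noncomputable def lw5 : Lv := ⟨(nat_lit 8), (nat_lit 71), (nat_lit 12), (nat_lit 6), [[nat_lit 1, nat_lit 0, nat_lit 2, nat_lit 0, nat_lit 2, nat_lit 1, nat_lit 4, nat_lit 3, nat_lit 2, nat_lit 3, nat_lit 2, nat_lit 5, nat_lit 2, nat_lit 3, nat_lit 4],
  [nat_lit 6, nat_lit 4, nat_lit 2, nat_lit 6, nat_lit 2, nat_lit 1, nat_lit 3, nat_lit 2, nat_lit 6, nat_lit 3, nat_lit 0, nat_lit 2, nat_lit 3, nat_lit 6, nat_lit 5, nat_lit 4],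
  [nat_lit 2, nat_lit 4, nat_lit 3, nat_lit 0, nat_lit 5, nat_lit 2, nat_lit 5, nat_lit 2, nat_lit 3, nat_lit 2, nat_lit 3, nat_lit 2, nat_lit 0, nat_lit 2, nat_lit 5, nat_lit 4],
  [nat_lit 4, nat_lit 2, nat_lit 6, nat_lit 2, nat_lit 6, nat_lit 1, nat_lit 3, nat_lit 2, nat_lit 0, nat_lit 3, nat_lit 6, nat_lit 2, nat_lit 3, nat_lit 6, nat_lit 5, nat_lit 4],
  [nat_lit 6, nat_lit 1, nat_lit 2, nat_lit 6, nat_lit 2, nat_lit 3, nat_lit 4, nat_lit 3, nat_lit 5, nat_lit 6, nat_lit 2, nat_lit 6, nat_lit 5, nat_lit 4, nat_lit 3, nat_lit 5, nat_lit 4],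
  [nat_lit 3, nat_lit 5, nat_lit 1, nat_lit 0, nat_lit 2, nat_lit 3, nat_lit 2, nat_lit 4, nat_lit 3, nat_lit 5, nat_lit 2, nat_lit 1, nat_lit 2, nat_lit 4, nat_lit 3, nat_lit 2, nat_lit 5, nat_lit 6, nat_lit 5, nat_lit 4, nat_lit 3, nat_lit 2, nat_lit 3, nat_lit 2, nat_lit 0, nat_lit 6, nat_lit 5, nat_lit 4, nat_lit 3, nat_lit 2, nat_lit 6]], Fw5, (nat_lit 5)⟩
noncomputable def LLw : List Lv := [lw0, lw1, lw2, lw3, lw4, lw5]
noncomputable def Accw : List (List ℕ) := [[],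
  [nat_lit 5, nat_lit 2, nat_lit 5, nat_lit 2, nat_lit 3, nat_lit 5, nat_lit 6, nat_lit 2, nat_lit 6, nat_lit 5, nat_lit 3, nat_lit 2, nat_lit 4, nat_lit 3, nat_lit 2, nat_lit 6, nat_lit 2, nat_lit 6, nat_lit 4, nat_lit 5, nat_lit 6, nat_lit 5, nat_lit 4, nat_lit 3, nat_lit 2, nat_lit 5, nat_lit 4, nat_lit 3, nat_lit 2, nat_lit 3, nat_lit 2, nat_lit 0, nat_lit 5, nat_lit 4, nat_lit 3, nat_lit 2, nat_lit 0, nat_lit 2, nat_lit 1, nat_lit 0]]
noncomputable def Apw : List ℕ := [nat_lit 10, nat_lit 20]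
noncomputable def D : OD := ⟨23, 2, 1, 1, 11, [1, 5], V, [nat_lit 1, nat_lit 3, nat_lit 2, nat_lit 3, nat_lit 2, nat_lit 3, nat_lit 2, nat_lit 3, nat_lit 4, nat_lit 3, nat_lit 6, nat_lit 2, nat_lit 6, nat_lit 0, nat_lit 2, nat_lit 3, nat_lit 4, nat_lit 5, nat_lit 4, nat_lit 3, nat_lit 5, nat_lit 2, nat_lit 1, nat_lit 2, nat_lit 5], [nat_lit 5, nat_lit 6, nat_lit 4, nat_lit 0, nat_lit 2, nat_lit 3, nat_lit 6, nat_lit 2, nat_lit 1, nat_lit 6, nat_lit 4, nat_lit 3, nat_lit 6, nat_lit 2, nat_lit 6, nat_lit 3, nat_lit 0, nat_lit 2, nat_lit 4, nat_lit 5, nat_lit 2, nat_lit 3, nat_lit 4, nat_lit 5, nat_lit 2, nat_lit 3, nat_lit 2, nat_lit 3, nat_lit 2, nat_lit 3, nat_lit 4, nat_lit 5, nat_lit 6, nat_lit 5, nat_lit 4, nat_lit 3, nat_lit 2, nat_lit 1, nat_lit 6], W, [nat_lit 1, nat_lit 2, nat_lit 1, nat_lit 2, nat_lit 0, nat_lit 2, nat_lit 3, nat_lit 6, nat_lit 2, nat_lit 6, nat_lit 4, nat_lit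 3, nat_lit 2, nat_lit 0, nat_lit 6, nat_lit 2, nat_lit 5, nat_lit 4, nat_lit 6, nat_lit 5, nat_lit 4, nat_lit 3, nat_lit 2, nat_lit 6, nat_lit 5, nat_lit 4, nat_lit 5, nat_lit 4, nat_lit 3, nat_lit 2, nat_lit 6, nat_lit 4, nat_lit 3, nat_lit 5], Accw,
  [([nat_lit 1, nat_lit 1, nat_lit 2, nat_lit 2, nat_lit 2], (nat_lit 2)), ([nat_lit 0, nat_lit 1, nat_lit 2], (nat_lit 15))], (nat_lit 0)⟩

theorem ov0_0 : Nat.beq (loop2 (lv0.scan H15.Co3.P) (nat_lit 0) (nat_lit 276)) (nat_lit 276) = true := by decide +kernel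
theorem ov1_0 : Nat.beq (loop2 (lv1.scan H15.Co3.P) (nat_lit 0) (nat_lit 276)) (nat_lit 275) = true := by decide +kernel
theorem ov2_0 : Nat.beq (loop2 (lv2.scan H15.Co3.P) (nat_lit 0) (nat_lit 276)) (nat_lit 112) = true := by decide +kernel
theorem ov3_0 : Nat.beq (loop2 (lv3.scan H15.Co3.P) (nat_lit 0) (nat_lit 276)) (nat_lit 81) = true := by decide +kernel
theorem ov4_0 : Nat.beq (loop2 (lv4.scan H15.Co3.P) (nat_lit 0) (nat_lit 276)) (nat_lit 60) = true := by decide +kernel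
theorem ov5_0 : Nat.beq (loop2 (lv5.scan H15.Co3.P) (nat_lit 0) (nat_lit 276)) (nat_lit 12) = true := by decide +kernel
theorem lcv : lowChk H15.Co3.P 276 7 LLv [] = 0 ∧ prodN LLv = 495766656000 ∧ 0 < 495766656000 := by decide +kernel
theorem ccv : cenChk H15.Co3.P 276 7 H15.Co3.B V V (nat_lit 17) LLv Accv Apv = true := by decide +kernel
theorem cev_0 : allZ (cenEnt H15.Co3.P V LLv Apv (nat_lit 22)) (nat_lit 0) (nat_lit 276) = true := by decide +kernel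
theorem ow0_0 : Nat.beq (loop2 (lw0.scan H15.Co3.P) (nat_lit 0) (nat_lit 276)) (nat_lit 276) = true := by decide +kernel
theorem ow1_0 : Nat.beq (loop2 (lw1.scan H15.Co3.P) (nat_lit 0) (nat_lit 276)) (nat_lit 275) = true := by decide +kernel
theorem ow2_0 : Nat.beq (loop2 (lw2.scan H15.Co3.P) (nat_lit 0) (nat_lit 276)) (nat_lit 112) = true := by decide +kernel
theorem ow3_0 : Nat.beq (loop2 (lw3.scan H15.Co3.P) (nat_lit 0) (nat_lit 276)) (nat_lit 81) = true := by decide +kernel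
theorem ow4_0 : Nat.beq (loop2 (lw4.scan H15.Co3.P) (nat_lit 0) (nat_lit 276)) (nat_lit 60) = true := by decide +kernel
theorem ow5_0 : Nat.beq (loop2 (lw5.scan H15.Co3.P) (nat_lit 0) (nat_lit 276)) (nat_lit 12) = true := by decide +kernel
theorem lcw : lowChk H15.Co3.P 276 7 LLw [] = 0 ∧ prodN LLw = 495766656000 ∧ 0 < 495766656000 := by decide +kernel
theorem ccw : cenChk H15.Co3.P 276 7 H15.Co3.B W W (nat_lit 10) LLw Accw Apw = true := by decide +kernel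
theorem cew_0 : allZ (cenEnt H15.Co3.P W LLw Apw (nat_lit 10)) (nat_lit 0) (nat_lit 276) = true := by decide +kernel
theorem dc : D.chk H15.Co3.P 276 7 H15.Co3.B = true := by decide +kernel
theorem fl_0 : allZ (D.fail H15.Co3.P [0]) (nat_lit 0) (nat_lit 44) = true := by decide +kernel
theorem gc : slpX H15.Co3.P 7 H15.Co3.B 7 0 3 [D.X, D.W, D.S, [nat_lit 6, nat_lit 1, nat_lit 2, nat_lit 3, nat_lit 4, nat_lit 5, nat_lit 6, nat_lit 5, nat_lit 4, nat_lit 3, nat_lit 2, nat_lit 3, nat_lit 2, nat_lit 3, nat_lit 2, nat_lit 5, nat_lit 4, nat_lit 3, nat_lit 2, nat_lit 5, nat_lit 4, nat_lit 2, nat_lit 0, nat_lit 3, nat_lit 6, nat_lit 2, nat_lit 6, nat_lit 3, nat_lit 4, nat_lit 6, nat_lit 1, nat_lit 2, nat_lit 6, nat_lit 3, nat_lit 2, nat_lit 0, nat_lit 4, nat_lit 6, nat_lit 5], [nat_lit 6, nat_lit 5, nat_lit 4, nat_lit 3, nat_lit 2], [nat_lit 5, nat_lit 3, nat_lit 4, nat_lit 6, nat_lit 2, nat_lit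 3, nat_lit 4, nat_lit 5, nat_lit 4, nat_lit 5, nat_lit 6, nat_lit 2, nat_lit 3, nat_lit 4, nat_lit 5, nat_lit 6, nat_lit 4, nat_lit 5, nat_lit 2, nat_lit 6, nat_lit 0, nat_lit 2, nat_lit 3, nat_lit 4, nat_lit 6, nat_lit 2, nat_lit 6, nat_lit 3, nat_lit 2, nat_lit 0, nat_lit 2, nat_lit 1, nat_lit 2, nat_lit 1]]
  [((nat_lit 10), [nat_lit 7]),
  ((nat_lit 11), [nat_lit 8]),
  ((nat_lit 12), [nat_lit 9]),
  ((nat_lit 0), [nat_lit 12, nat_lit 8, nat_lit 7, nat_lit 9, nat_lit 9, nat_lit 10, nat_lit 9, nat_lit 7, nat_lit 9, nat_lit 7, nat_lit 7, nat_lit 12, nat_lit 7, nat_lit 12, nat_lit 11, nat_lit 12, nat_lit 10, nat_lit 10, nat_lit 9, nat_lit 10, nat_lit 9, nat_lit 11, nat_lit 10, nat_lit 10, nat_lit 9, nat_lit 9, nat_lit 10, nat_lit 8, nat_lit 8, nat_lit 9, nat_lit 7, nat_lit 12, nat_lit 10, nat_lit 9, nat_lit 10, nat_lit 11, nat_lit 9, nat_lit 11, nat_lit 12, nat_lit 10, nat_lit 11,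 nat_lit 10, nat_lit 12, nat_lit 11, nat_lit 10, nat_lit 8, nat_lit 7, nat_lit 11]),
  ((nat_lit 1), [nat_lit 11, nat_lit 11, nat_lit 12, nat_lit 10, nat_lit 11, nat_lit 10, nat_lit 9, nat_lit 7, nat_lit 7, nat_lit 12, nat_lit 10, nat_lit 12, nat_lit 12, nat_lit 7, nat_lit 11, nat_lit 12, nat_lit 7, nat_lit 7, nat_lit 7, nat_lit 9, nat_lit 8, nat_lit 8]),
  ((nat_lit 2), [nat_lit 8, nat_lit 8, nat_lit 8, nat_lit 7, nat_lit 8, nat_lit 12, nat_lit 10, nat_lit 9, nat_lit 10, nat_lit 10, nat_lit 10, nat_lit 12, nat_lit 10, nat_lit 12, nat_lit 7, nat_lit 9, nat_lit 9, nat_lit 7, nat_lit 12, nat_lit 7, nat_lit 9, nat_lit 7, nat_lit 12, nat_lit 7, nat_lit 12, nat_lit 10, nat_lit 12, nat_lit 10, nat_lit 10, nat_lit 12, nat_lit 8, nat_lit 9, nat_lit 7, nat_lit 8, nat_lit 8, nat_lit 12, nat_lit 10, nat_lit 9, nat_lit 10, nat_lit 11, nat_lit 12, nat_lit 7, nat_lit 9, nat_lit 7, nat_lit 11, nat_lit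 11, nat_lit 9, nat_lit 10, nat_lit 12, nat_lit 10, nat_lit 9, nat_lit 10, nat_lit 12, nat_lit 7, nat_lit 11, nat_lit 12, nat_lit 7, nat_lit 12, nat_lit 10, nat_lit 10, nat_lit 12, nat_lit 10, nat_lit 8, nat_lit 9, nat_lit 7, nat_lit 9, nat_lit 7, nat_lit 12, nat_lit 10, nat_lit 11, nat_lit 12, nat_lit 7, nat_lit 9, nat_lit 7]),
  ((nat_lit 3), [nat_lit 8, nat_lit 8, nat_lit 9, nat_lit 7, nat_lit 9, nat_lit 10, nat_lit 9, nat_lit 11, nat_lit 7, nat_lit 11, nat_lit 9, nat_lit 7, nat_lit 9, nat_lit 10, nat_lit 9, nat_lit 10, nat_lit 11, nat_lit 10, nat_lit 9, nat_lit 9, nat_lit 7, nat_lit 9, nat_lit 10, nat_lit 10, nat_lit 9, nat_lit 7, nat_lit 9, nat_lit 10, nat_lit 12, nat_lit 10, nat_lit 9, nat_lit 11, nat_lit 11, nat_lit 9, nat_lit 7, nat_lit 7, nat_lit 11, nat_lit 12, nat_lit 7, nat_lit 9, nat_lit 10, nat_lit 8, nat_lit 8, nat_lit 10, nat_lit 11, nat_lit 11, nat_lit 10, nat_lit 12,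 nat_lit 7, nat_lit 9, nat_lit 10, nat_lit 8, nat_lit 8, nat_lit 12, nat_lit 7, nat_lit 11, nat_lit 12, nat_lit 10, nat_lit 9, nat_lit 7, nat_lit 11, nat_lit 11, nat_lit 11, nat_lit 12, nat_lit 7, nat_lit 11, nat_lit 7, nat_lit 9, nat_lit 7, nat_lit 8, nat_lit 10, nat_lit 12, nat_lit 10, nat_lit 11, nat_lit 10, nat_lit 12, nat_lit 10, nat_lit 10, nat_lit 10, nat_lit 12]),
  ((nat_lit 4), [nat_lit 10, nat_lit 10, nat_lit 9, nat_lit 8, nat_lit 9, nat_lit 10, nat_lit 11, nat_lit 11, nat_lit 9, nat_lit 10, nat_lit 10, nat_lit 9, nat_lit 7, nat_lit 9, nat_lit 7, nat_lit 12, nat_lit 11, nat_lit 12, nat_lit 10, nat_lit 12, nat_lit 10, nat_lit 12, nat_lit 11, nat_lit 11, nat_lit 9, nat_lit 7, nat_lit 9, nat_lit 10, nat_lit 9, nat_lit 7, nat_lit 12, nat_lit 10, nat_lit 12, nat_lit 7, nat_lit 8, nat_lit 12, nat_lit 7, nat_lit 9, nat_lit 10, nat_lit 9, nat_lit 10, nat_lit 11, nat_lit 11, nat_lit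 12, nat_lit 12, nat_lit 7, nat_lit 9, nat_lit 7, nat_lit 12, nat_lit 10, nat_lit 12, nat_lit 10, nat_lit 12, nat_lit 10, nat_lit 9, nat_lit 7, nat_lit 7, nat_lit 12, nat_lit 7, nat_lit 11, nat_lit 7, nat_lit 9, nat_lit 11, nat_lit 10, nat_lit 10, nat_lit 9, nat_lit 7, nat_lit 12, nat_lit 8, nat_lit 7, nat_lit 9, nat_lit 11, nat_lit 11, nat_lit 11, nat_lit 10]),
  ((nat_lit 5), [nat_lit 8, nat_lit 9, nat_lit 7, nat_lit 9, nat_lit 7, nat_lit 7, nat_lit 12, nat_lit 7, nat_lit 9, nat_lit 10, nat_lit 10, nat_lit 8, nat_lit 7, nat_lit 9, nat_lit 7, nat_lit 9, nat_lit 8, nat_lit 10, nat_lit 8, nat_lit 8, nat_lit 7, nat_lit 9, nat_lit 10, nat_lit 9, nat_lit 7, nat_lit 12, nat_lit 10, nat_lit 12, nat_lit 11, nat_lit 10, nat_lit 12, nat_lit 10, nat_lit 8, nat_lit 9, nat_lit 7, nat_lit 12, nat_lit 12, nat_lit 8, nat_lit 8, nat_lit 9, nat_lit 7, nat_lit 9, nat_lit 8, nat_lit 7, nat_lit 8, nat_lit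 9, nat_lit 7, nat_lit 8, nat_lit 7, nat_lit 9, nat_lit 7, nat_lit 11, nat_lit 11, nat_lit 12, nat_lit 7, nat_lit 11, nat_lit 9, nat_lit 7, nat_lit 12, nat_lit 7, nat_lit 12, nat_lit 10, nat_lit 9, nat_lit 11, nat_lit 7, nat_lit 12, nat_lit 10, nat_lit 10, nat_lit 10, nat_lit 9, nat_lit 7, nat_lit 9, nat_lit 7, nat_lit 9, nat_lit 7, nat_lit 12, nat_lit 7, nat_lit 7]),
  ((nat_lit 6), [nat_lit 9, nat_lit 9, nat_lit 9, nat_lit 9, nat_lit 7, nat_lit 11, nat_lit 11, nat_lit 12, nat_lit 10, nat_lit 9, nat_lit 10, nat_lit 11, nat_lit 10, nat_lit 12, nat_lit 7, nat_lit 12, nat_lit 10, nat_lit 10, nat_lit 9, nat_lit 7, nat_lit 12, nat_lit 7, nat_lit 8, nat_lit 9, nat_lit 7, nat_lit 9, nat_lit 7, nat_lit 11, nat_lit 7, nat_lit 8, nat_lit 12, nat_lit 8, nat_lit 8, nat_lit 12, nat_lit 10, nat_lit 11, nat_lit 10, nat_lit 9, nat_lit 11, nat_lit 7, nat_lit 7, nat_lit 7, nat_lit 9, nat_lit 7, nat_lit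 8, nat_lit 7, nat_lit 12, nat_lit 7, nat_lit 7, nat_lit 12, nat_lit 7, nat_lit 12, nat_lit 7, nat_lit 12, nat_lit 7, nat_lit 11, nat_lit 7, nat_lit 9, nat_lit 10, nat_lit 9, nat_lit 10, nat_lit 10, nat_lit 10, nat_lit 8, nat_lit 12, nat_lit 12, nat_lit 7, nat_lit 12, nat_lit 11, nat_lit 10, nat_lit 9, nat_lit 10, nat_lit 10, nat_lit 12, nat_lit 8, nat_lit 7, nat_lit 12])] = true := by decide +kernel

theorem ov0 : lv0.Orb H15.Co3.g H15.Co3.pt 276 := Lv.orb_scan H15.Co3.act (by decide +kernel) (sum_first ov0_0)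
theorem ov1 : lv1.Orb H15.Co3.g H15.Co3.pt 276 := Lv.orb_scan H15.Co3.act (by decide +kernel) (sum_first ov1_0)
theorem ov2 : lv2.Orb H15.Co3.g H15.Co3.pt 276 := Lv.orb_scan H15.Co3.act (by decide +kernel) (sum_first ov2_0)
theorem ov3 : lv3.Orb H15.Co3.g H15.Co3.pt 276 := Lv.orb_scan H15.Co3.act (by decide +kernel) (sum_first ov3_0)
theorem ov4 : lv4.Orb H15.Co3.g H15.Co3.pt 276 := Lv.orb_scan H15.Co3.act (by decide +kernel) (sum_first ov4_0)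
theorem ov5 : lv5.Orb H15.Co3.g H15.Co3.pt 276 := Lv.orb_scan H15.Co3.act (by decide +kernel) (sum_first ov5_0)
theorem exv : ExC H15.Co3.g H15.Co3.pt 276 7 LLv (gen H15.Co3.g 7) := exC_of H15.Co3.act H15.Co3.inj H15.Co3.card (all_cons ov0 (all_cons ov1 (all_cons ov2 (all_cons ov3 (all_cons ov4 (all_cons ov5 all_nil)))))) lcv
theorem cev : ∀ i < 276, (cenEnt H15.Co3.P V LLv Apv (nat_lit 22)) i = 0 := allZ_sound0 cev_0
theorem cenv {a} (hg : a ∈ gen H15.Co3.g 7) (h : a * evA H15.Co3.g V = evA H15.Co3.g V * a) :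
    ∃ j : ℤ, ∃ E ∈ Accv, a = evA H15.Co3.g V ^ j * evA H15.Co3.g E :=
  cen_sound H15.Co3.act H15.Co3.Blt H15.Co3.isBase exv ccv cev hg h
theorem ow0 : lw0.Orb H15.Co3.g H15.Co3.pt 276 := Lv.orb_scan H15.Co3.act (by decide +kernel) (sum_first ow0_0)
theorem ow1 : lw1.Orb H15.Co3.g H15.Co3.pt 276 := Lv.orb_scan H15.Co3.act (by decide +kernel) (sum_first ow1_0)
theorem ow2 : lw2.Orb H15.Co3.g H15.Co3.pt 276 := Lv.orb_scan H15.Co3.act (by decide +kernel) (sum_first ow2_0)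
theorem ow3 : lw3.Orb H15.Co3.g H15.Co3.pt 276 := Lv.orb_scan H15.Co3.act (by decide +kernel) (sum_first ow3_0)
theorem ow4 : lw4.Orb H15.Co3.g H15.Co3.pt 276 := Lv.orb_scan H15.Co3.act (by decide +kernel) (sum_first ow4_0)
theorem ow5 : lw5.Orb H15.Co3.g H15.Co3.pt 276 := Lv.orb_scan H15.Co3.act (by decide +kernel) (sum_first ow5_0)
theorem exw : ExC H15.Co3.g H15.Co3.pt 276 7 LLw (gen H15.Co3.g 7) := exC_of H15.Co3.act H15.Co3.inj H15.Co3.card (all_cons ow0 (all_cons ow1 (all_cons ow2 (all_cons ow3 (all_cons ow4 (all_cons ow5 all_nil)))))) lcw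
theorem cew : ∀ i < 276, (cenEnt H15.Co3.P W LLw Apw (nat_lit 10)) i = 0 := allZ_sound0 cew_0
theorem cenw {a} (hg : a ∈ gen H15.Co3.g 7) (h : a * evA H15.Co3.g W = evA H15.Co3.g W * a) :
    ∃ j : ℤ, ∃ E ∈ Accw, a = evA H15.Co3.g W ^ j * evA H15.Co3.g E :=
  cen_sound H15.Co3.act H15.Co3.Blt H15.Co3.isBase exw ccw cew hg h
theorem ar : D.ar 495766656000 :=
  ⟨by norm_num [D], by decide +kernel, by decide +kernel, by decide +kernel, by decide +kernel, by decide +kernel, by decide +kernel⟩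
theorem fl : ∀ i < 44, (D.fail H15.Co3.P [0]) i = 0 := allZ_sound0 fl_0
theorem hg (A) (h : ∀ i < 3, evA H15.Co3.g (nth [] [D.X, D.W, D.S] i) ∈ A) : gen H15.Co3.g 7 ≤ A :=
  slpX_sound H15.Co3.act H15.Co3.Blt H15.Co3.isBase gc le_rfl (Nat.zero_le _) (by rw [gen_zero]; exact bot_le) fun i hi => by
    obtain rfl | rfl | rfl : i = 0 ∨ i = 1 ∨ i = 2 := by omega
    exacts [h 0 hi, h 1 hi, h 2 hi]
theorem out : Nat.card (Cfsg.Out (gen H15.Co3.g 7)) = 1 :=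
  D.one H15.Co3.act H15.Co3.inj H15.Co3.Blt H15.Co3.isBase H15.Co3.card (by decide) dc ar cenv cenw fl hg

end H16.OCo3
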