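import Cfsg.Agent.H16.Tab
import Cfsg.Agent.H16.T.ON

/-! Generated by tools/h16 (computation kit). -/

set_option maxRecDepth 100000
set_option maxHeartbeats 0

namespace H16.OON

open scoped Pointwise
noncomputable def V : List ℕ := [nat_lit 8]
noncomputable def W : List ℕ := [nat_lit 9]
noncomputable def lvx1 : Lv := ⟨(nat_lit 1), (nat_lit 3286), (nat_lit 1), (nat_lit 1), [], fun _ => (nat_lit 0), (nat_lit 1)⟩
noncomputable def LLv : List Lv := [H16.TON.lv0 (nat_lit 0), H16.TON.lv1 (nat_lit 5), H16.TON.lv2 (nat_lit 11), lvx1]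
noncomputable def Accv : List (List ℕ) := [[]]
noncomputable def Apv : List ℕ := [nat_lit 0]
noncomputable def LLw : List Lv := [H16.TON.lv0 (nat_lit 0), H16.TON.lv1 (nat_lit 11), H16.TON.lv2 (nat_lit 8)]
noncomputable def Accw : List (List ℕ) := [[],
  [nat_lit 9, nat_lit 6, nat_lit 3, nat_lit 5, nat_lit 7, nat_lit 1, nat_lit 9, nat_lit 0, nat_lit 6, nat_lit 5, nat_lit 1, nat_lit 0, nat_lit 1, nat_lit 2, nat_lit 5, nat_lit 3, nat_lit 0, nat_lit 1, nat_lit 0, nat_lit 4, nat_lit 0, nat_lit 2, nat_lit 4, nat_lit 1, nat_lit 5, nat_lit 0, nat_lit 1, nat_lit 0, nat_lit 4, nat_lit 2, nat_lit 3],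
  [nat_lit 8, nat_lit 3, nat_lit 8, nat_lit 3, nat_lit 9, nat_lit 9, nat_lit 0, nat_lit 4, nat_lit 6, nat_lit 2, nat_lit 4, nat_lit 0, nat_lit 2, nat_lit 4, nat_lit 2, nat_lit 0, nat_lit 1, nat_lit 5, nat_lit 1, nat_lit 3, nat_lit 0, nat_lit 1, nat_lit 0, nat_lit 4, nat_lit 5, nat_lit 0, nat_lit 1, nat_lit 2, nat_lit 5, nat_lit 0, nat_lit 1, nat_lit 5, nat_lit 0, nat_lit 1, nat_lit 0, nat_lit 4, nat_lit 0]]
noncomputable def Apw : List ℕ := [nat_lit 0, nat_lit 4136, nat_lit 19320]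
noncomputable def D : OD := ⟨31, 7, 26, 11, 15, [1, 3], V, [nat_lit 1, nat_lit 5, nat_lit 1, nat_lit 8, nat_lit 4, nat_lit 9, nat_lit 9, nat_lit 8, nat_lit 1, nat_lit 0, nat_lit 2, nat_lit 3, nat_lit 4, nat_lit 2, nat_lit 1, nat_lit 0, nat_lit 5, nat_lit 1, nat_lit 0, nat_lit 2, nat_lit 5, nat_lit 4, nat_lit 0, nat_lit 1, nat_lit 0, nat_lit 5, nat_lit 1, nat_lit 0], [nat_lit 3, nat_lit 6, nat_lit 5, nat_lit 7, nat_lit 9, nat_lit 6, nat_lit 0, nat_lit 6, nat_lit 1, nat_lit 4, nat_lit 2, nat_lit 0, nat_lit 5, nat_lit 4, nat_lit 3, nat_lit 5, nat_lit 0, nat_lit 1, nat_lit 0, nat_lit 4, nat_lit 5, nat_lit 0, nat_lit 1, nat_lit 2, nat_lit 0, nat_lit 1, nat_lit 5], W, [nat_lit 6, nat_lit 6, nat_lit 8, nat_lit 6, nat_lit 4, nat_lit 8, nat_lit 9, nat_lit 9, nat_lit 1, nat_lit 3, nat_lit 5, nat_lit 3, nat_lit 5, nat_lit 2, nat_lit 4, nat_lit 0, nat_lit 1, nat_lit 0, nat_lit 5, nat_lit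 1, nat_lit 4, nat_lit 2, nat_lit 0, nat_lit 1, nat_lit 4, nat_lit 5, nat_lit 0, nat_lit 1, nat_lit 4, nat_lit 0, nat_lit 1, nat_lit 4, nat_lit 5, nat_lit 3, nat_lit 0, nat_lit 1, nat_lit 4, nat_lit 0, nat_lit 1, nat_lit 2], Accw,
  [([nat_lit 1, nat_lit 1, nat_lit 2, nat_lit 1], (nat_lit 2)), ([nat_lit 0, nat_lit 1, nat_lit 1, nat_lit 2], (nat_lit 11)), ([nat_lit 0, nat_lit 2], (nat_lit 16))], (nat_lit 0)⟩
noncomputable def Wb : List (List ℕ) := [[nat_lit 9, nat_lit 3, nat_lit 9, nat_lit 1, nat_lit 8, nat_lit 1, nat_lit 6, nat_lit 3, nat_lit 1, nat_lit 0, nat_lit 2, nat_lit 4, nat_lit 5, nat_lit 2, nat_lit 1, nat_lit 0, nat_lit 4, nat_lit 5, nat_lit 0, nat_lit 1, nat_lit 0, nat_lit 1, nat_lit 5, nat_lit 0, nat_lit 1, nat_lit 0, nat_lit 4, nat_lit 0, nat_lit 1, nat_lit 5],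
  [nat_lit 7, nat_lit 0, nat_lit 1, nat_lit 9, nat_lit 6, nat_lit 5, nat_lit 9, nat_lit 8, nat_lit 5, nat_lit 2, nat_lit 4, nat_lit 0, nat_lit 1, nat_lit 4, nat_lit 5, nat_lit 3, nat_lit 2, nat_lit 0, nat_lit 1, nat_lit 4, nat_lit 0, nat_lit 1, nat_lit 5, nat_lit 3, nat_lit 4, nat_lit 0, nat_lit 1, nat_lit 0, nat_lit 5, nat_lit 1, nat_lit 4, nat_lit 2],
  [nat_lit 1, nat_lit 5, nat_lit 0, nat_lit 4, nat_lit 2, nat_lit 8, nat_lit 6, nat_lit 4, nat_lit 1, nat_lit 5, nat_lit 2, nat_lit 4, nat_lit 0, nat_lit 1, nat_lit 0, nat_lit 5, nat_lit 1, nat_lit 4, nat_lit 2, nat_lit 0, nat_lit 1, nat_lit 2, nat_lit 5, nat_lit 0, nat_lit 1, nat_lit 4, nat_lit 0, nat_lit 1, nat_lit 5, nat_lit 3, nat_lit 0, nat_lit 1, nat_lit 0, nat_lit 5],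
  [nat_lit 7, nat_lit 9, nat_lit 8, nat_lit 9, nat_lit 3, nat_lit 5, nat_lit 9, nat_lit 6, nat_lit 1, nat_lit 5, nat_lit 1, nat_lit 3, nat_lit 5, nat_lit 0, nat_lit 1, nat_lit 0, nat_lit 5, nat_lit 4, nat_lit 1, nat_lit 0, nat_lit 1, nat_lit 0, nat_lit 2, nat_lit 4, nat_lit 5, nat_lit 2, nat_lit 3],
  [nat_lit 5, nat_lit 9, nat_lit 3, nat_lit 1, nat_lit 9, nat_lit 4, nat_lit 8, nat_lit 1, nat_lit 5, nat_lit 4, nat_lit 3, nat_lit 0, nat_lit 1, nat_lit 5, nat_lit 0, nat_lit 1, nat_lit 0, nat_lit 1, nat_lit 4, nat_lit 0, nat_lit 1, nat_lit 2, nat_lit 5, nat_lit 3, nat_lit 0, nat_lit 1, nat_lit 4, nat_lit 0, nat_lit 1],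
  [nat_lit 8, nat_lit 8, nat_lit 5, nat_lit 7, nat_lit 0, nat_lit 9, nat_lit 5, nat_lit 6, nat_lit 0, nat_lit 3, nat_lit 4, nat_lit 1, nat_lit 0, nat_lit 2, nat_lit 4, nat_lit 2, nat_lit 0, nat_lit 1, nat_lit 5, nat_lit 1, nat_lit 3, nat_lit 0, nat_lit 1, nat_lit 0, nat_lit 4, nat_lit 5, nat_lit 0, nat_lit 1, nat_lit 0, nat_lit 1, nat_lit 4, nat_lit 0, nat_lit 1, nat_lit 0, nat_lit 5, nat_lit 1, nat_lit 0, nat_lit 4, nat_lit 3, nat_lit 5],
  [nat_lit 6, nat_lit 9, nat_lit 8, nat_lit 9, nat_lit 8, nat_lit 5, nat_lit 6, nat_lit 1, nat_lit 5, nat_lit 1, nat_lit 3, nat_lit 5, nat_lit 1, nat_lit 0, nat_lit 1, nat_lit 4, nat_lit 0, nat_lit 1, nat_lit 2],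
  [nat_lit 1, nat_lit 3, nat_lit 9, nat_lit 8, nat_lit 0, nat_lit 4, nat_lit 2, nat_lit 8, nat_lit 4, nat_lit 0, nat_lit 1, nat_lit 0, nat_lit 5, nat_lit 1, nat_lit 0, nat_lit 5, nat_lit 4, nat_lit 1, nat_lit 0, nat_lit 5, nat_lit 2, nat_lit 1, nat_lit 0, nat_lit 4, nat_lit 5],
  [nat_lit 2, nat_lit 6, nat_lit 9, nat_lit 8, nat_lit 6, nat_lit 1, nat_lit 9, nat_lit 5, nat_lit 4, nat_lit 1, nat_lit 0, nat_lit 2, nat_lit 3, nat_lit 4, nat_lit 2, nat_lit 1, nat_lit 5, nat_lit 3, nat_lit 0, nat_lit 1, nat_lit 4, nat_lit 5, nat_lit 0, nat_lit 1, nat_lit 0, nat_lit 4, nat_lit 1, nat_lit 5],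
  [nat_lit 9]]

theorem lcv : lowChk H16.TON.P 122760 10 LLv [] = 0 ∧ prodN LLv = 460815505920 ∧ 0 < 460815505920 := by decide +kernel
theorem ccv : cenChk H16.TON.P 122760 10 H16.TON.B V V (nat_lit 0) LLv Accv Apv = true := by decide +kernel
theorem cev_0 : allZ (cenEnt H16.TON.P V LLv Apv (nat_lit 30)) (nat_lit 0) (nat_lit 14080) = true := by decide +kernel
theorem cev_1 : allZ (cenEnt H16.TON.P V LLv Apv (nat_lit 30)) (nat_lit 14080) (nat_lit 14080) = true := by decide +kernel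
theorem cev_2 : allZ (cenEnt H16.TON.P V LLv Apv (nat_lit 30)) (nat_lit 28160) (nat_lit 14080) = true := by decide +kernel
theorem cev_3 : allZ (cenEnt H16.TON.P V LLv Apv (nat_lit 30)) (nat_lit 42240) (nat_lit 14080) = true := by decide +kernel
theorem cev_4 : allZ (cenEnt H16.TON.P V LLv Apv (nat_lit 30)) (nat_lit 56320) (nat_lit 14080) = true := by decide +kernel
theorem cev_5 : allZ (cenEnt H16.TON.P V LLv Apv (nat_lit 30)) (nat_lit 70400) (nat_lit 14080) = true := by decide +kernel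
theorem cev_6 : allZ (cenEnt H16.TON.P V LLv Apv (nat_lit 30)) (nat_lit 84480) (nat_lit 14080) = true := by decide +kernel
theorem cev_7 : allZ (cenEnt H16.TON.P V LLv Apv (nat_lit 30)) (nat_lit 98560) (nat_lit 14080) = true := by decide +kernel
theorem cev_8 : allZ (cenEnt H16.TON.P V LLv Apv (nat_lit 30)) (nat_lit 112640) (nat_lit 10120) = true := by decide +kernel
theorem lcw : lowChk H16.TON.P 122760 10 LLw [] = 0 ∧ prodN LLw = 460815505920 ∧ 0 < 460815505920 := by decide +kernel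
theorem ccw : cenChk H16.TON.P 122760 10 H16.TON.B W W (nat_lit 0) LLw Accw Apw = true := by decide +kernel
theorem cew_0 : allZ (cenEnt H16.TON.P W LLw Apw (nat_lit 14)) (nat_lit 0) (nat_lit 12672) = true := by decide +kernel
theorem cew_1 : allZ (cenEnt H16.TON.P W LLw Apw (nat_lit 14)) (nat_lit 12672) (nat_lit 12672) = true := by decide +kernel
theorem cew_2 : allZ (cenEnt H16.TON.P W LLw Apw (nat_lit 14)) (nat_lit 25344) (nat_lit 12672) = true := by decide +kernel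
theorem cew_3 : allZ (cenEnt H16.TON.P W LLw Apw (nat_lit 14)) (nat_lit 38016) (nat_lit 12672) = true := by decide +kernel
theorem cew_4 : allZ (cenEnt H16.TON.P W LLw Apw (nat_lit 14)) (nat_lit 50688) (nat_lit 12672) = true := by decide +kernel
theorem cew_5 : allZ (cenEnt H16.TON.P W LLw Apw (nat_lit 14)) (nat_lit 63360) (nat_lit 12672) = true := by decide +kernel
theorem cew_6 : allZ (cenEnt H16.TON.P W LLw Apw (nat_lit 14)) (nat_lit 76032) (nat_lit 12672) = true := by decide +kernel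
theorem cew_7 : allZ (cenEnt H16.TON.P W LLw Apw (nat_lit 14)) (nat_lit 88704) (nat_lit 12672) = true := by decide +kernel
theorem cew_8 : allZ (cenEnt H16.TON.P W LLw Apw (nat_lit 14)) (nat_lit 101376) (nat_lit 12672) = true := by decide +kernel
theorem cew_9 : allZ (cenEnt H16.TON.P W LLw Apw (nat_lit 14)) (nat_lit 114048) (nat_lit 8712) = true := by decide +kernel
theorem dc : D.chk H16.TON.P 122760 10 H16.TON.B = true := by decide +kernel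
theorem fl_0 : allZ (D.fail H16.TON.P [0, 55]) (nat_lit 0) (nat_lit 64) = true := by decide +kernel
theorem fl_1 : allZ (D.fail H16.TON.P [0, 55]) (nat_lit 64) (nat_lit 26) = true := by decide +kernel
theorem gc : slpX H16.TON.P 10 H16.TON.B 10 0 3 [D.X, D.W, D.S, [nat_lit 4, nat_lit 1, nat_lit 0, nat_lit 4, nat_lit 1, nat_lit 3, nat_lit 5, nat_lit 3, nat_lit 1, nat_lit 2, nat_lit 4, nat_lit 0, nat_lit 1, nat_lit 4, nat_lit 5, nat_lit 3, nat_lit 2, nat_lit 5, nat_lit 3, nat_lit 0, nat_lit 1, nat_lit 0, nat_lit 4, nat_lit 0, nat_lit 1, nat_lit 5, nat_lit 3, nat_lit 0, nat_lit 1, nat_lit 0, nat_lit 4, nat_lit 5, nat_lit 0, nat_lit 1, nat_lit 0, nat_lit 4, nat_lit 2], [nat_lit 5, nat_lit 3, nat_lit 0, nat_lit 1, nat_lit 4, nat_lit 5, nat_lit 0, nat_lit 1, nat_lit 4, nat_lit 5, nat_lit 3, nat_lit 0, nat_lit 1, nat_lit 2, nat_lit 5, nat_lit 0, nat_lit 1, nat_lit 4, nat_lit 0, nat_lit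 1, nat_lit 0, nat_lit 1, nat_lit 4, nat_lit 5, nat_lit 0, nat_lit 1, nat_lit 5, nat_lit 3, nat_lit 0, nat_lit 1, nat_lit 2, nat_lit 5, nat_lit 3, nat_lit 1, nat_lit 2], [nat_lit 0, nat_lit 3, nat_lit 2, nat_lit 3, nat_lit 2, nat_lit 4, nat_lit 5, nat_lit 1, nat_lit 0, nat_lit 1, nat_lit 0, nat_lit 4, nat_lit 2, nat_lit 5, nat_lit 3, nat_lit 1, nat_lit 0, nat_lit 2, nat_lit 4, nat_lit 5, nat_lit 2, nat_lit 1, nat_lit 0, nat_lit 4, nat_lit 5, nat_lit 1, nat_lit 0, nat_lit 2, nat_lit 3, nat_lit 4, nat_lit 2, nat_lit 1, nat_lit 0, nat_lit 5, nat_lit 1, nat_lit 0, nat_lit 1, nat_lit 5, nat_lit 1], [nat_lit 3, nat_lit 5, nat_lit 0, nat_lit 1, nat_lit 0, nat_lit 4, nat_lit 0, nat_lit 1, nat_lit 2, nat_lit 5, nat_lit 3, nat_lit 0, nat_lit 1, nat_lit 0, nat_lit 4, nat_lit 0, nat_lit 1, nat_lit 5, nat_lit 3, nat_lit 0, nat_lit 1, nat_lit 0, nat_lit 1, nat_lit 2, nat_lit 4, nat_lit 1, nat_lit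 5, nat_lit 0, nat_lit 1, nat_lit 0, nat_lit 4, nat_lit 2, nat_lit 1, nat_lit 3, nat_lit 5, nat_lit 3, nat_lit 5, nat_lit 4, nat_lit 1]]
  [((nat_lit 13), [nat_lit 10, nat_lit 11, nat_lit 12, nat_lit 10, nat_lit 12, nat_lit 10, nat_lit 10, nat_lit 12, nat_lit 11, nat_lit 10, nat_lit 10, nat_lit 10, nat_lit 12, nat_lit 10, nat_lit 12]),
  ((nat_lit 14), [nat_lit 10, nat_lit 12, nat_lit 11, nat_lit 10, nat_lit 11, nat_lit 10, nat_lit 12, nat_lit 10, nat_lit 12, nat_lit 10, nat_lit 11, nat_lit 12, nat_lit 11, nat_lit 11, nat_lit 10, nat_lit 10, nat_lit 12]),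
  ((nat_lit 15), [nat_lit 13]),
  ((nat_lit 16), [nat_lit 14]),
  ((nat_lit 0), [nat_lit 16, nat_lit 16, nat_lit 15, nat_lit 14, nat_lit 15, nat_lit 14, nat_lit 13, nat_lit 13, nat_lit 13, nat_lit 16, nat_lit 13, nat_lit 13, nat_lit 14, nat_lit 15, nat_lit 16]),
  ((nat_lit 1), [nat_lit 14, nat_lit 14, nat_lit 15, nat_lit 16, nat_lit 15, nat_lit 16, nat_lit 13, nat_lit 13, nat_lit 14, nat_lit 15, nat_lit 14, nat_lit 15, nat_lit 14, nat_lit 14, nat_lit 14]),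
  ((nat_lit 2), [nat_lit 13, nat_lit 13, nat_lit 16, nat_lit 15, nat_lit 15, nat_lit 16, nat_lit 13, nat_lit 16, nat_lit 15, nat_lit 14, nat_lit 15, nat_lit 16, nat_lit 13, nat_lit 14, nat_lit 15]),
  ((nat_lit 3), [nat_lit 13, nat_lit 13, nat_lit 14, nat_lit 13, nat_lit 16, nat_lit 13, nat_lit 14, nat_lit 15, nat_lit 14, nat_lit 15, nat_lit 15, nat_lit 14, nat_lit 14]),
  ((nat_lit 4), [nat_lit 13, nat_lit 14, nat_lit 13, nat_lit 14, nat_lit 14, nat_lit 14, nat_lit 13, nat_lit 16, nat_lit 15, nat_lit 16, nat_lit 15, nat_lit 14, nat_lit 14, nat_lit 14, nat_lit 15, nat_lit 15, nat_lit 16, nat_lit 13, nat_lit 16, nat_lit 16, nat_lit 13]),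
  ((nat_lit 5), [nat_lit 15, nat_lit 15, nat_lit 14, nat_lit 13, nat_lit 13, nat_lit 13, nat_lit 16, nat_lit 15, nat_lit 14, nat_lit 14, nat_lit 13, nat_lit 14, nat_lit 14, nat_lit 13, nat_lit 16, nat_lit 16, nat_lit 16, nat_lit 16, nat_lit 13, nat_lit 16, nat_lit 16, nat_lit 15, nat_lit 16, nat_lit 13, nat_lit 16]),
  ((nat_lit 6), [nat_lit 12, nat_lit 12, nat_lit 12, nat_lit 10, nat_lit 12, nat_lit 11, nat_lit 11, nat_lit 10, nat_lit 10, nat_lit 11, nat_lit 5, nat_lit 4, nat_lit 1, nat_lit 0, nat_lit 2, nat_lit 4, nat_lit 2, nat_lit 0, nat_lit 1, nat_lit 5, nat_lit 3, nat_lit 0, nat_lit 1, nat_lit 4, nat_lit 5, nat_lit 3, nat_lit 0, nat_lit 1, nat_lit 4, nat_lit 5, nat_lit 3, nat_lit 0, nat_lit 1, nat_lit 0, nat_lit 4, nat_lit 2]),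
  ((nat_lit 7), [nat_lit 6]),
  ((nat_lit 8), [nat_lit 5, nat_lit 3, nat_lit 1, nat_lit 5, nat_lit 1, nat_lit 0, nat_lit 4, nat_lit 0, nat_lit 1, nat_lit 0, nat_lit 5, nat_lit 4, nat_lit 1, nat_lit 2, nat_lit 5, nat_lit 4, nat_lit 2, nat_lit 0, nat_lit 1, nat_lit 5, nat_lit 4, nat_lit 0, nat_lit 1, nat_lit 2, nat_lit 4, nat_lit 2, nat_lit 0, nat_lit 5, nat_lit 7, nat_lit 5, nat_lit 1, nat_lit 7, nat_lit 0, nat_lit 4, nat_lit 7, nat_lit 5, nat_lit 1, nat_lit 0, nat_lit 1, nat_lit 4, nat_lit 0, nat_lit 3]),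
  ((nat_lit 9), [nat_lit 5, nat_lit 1, nat_lit 0, nat_lit 1, nat_lit 5, nat_lit 2, nat_lit 4, nat_lit 0, nat_lit 1, nat_lit 0, nat_lit 1, nat_lit 5, nat_lit 4, nat_lit 2, nat_lit 0, nat_lit 1, nat_lit 4, nat_lit 5, nat_lit 0, nat_lit 1, nat_lit 4, nat_lit 0, nat_lit 1, nat_lit 7, nat_lit 0, nat_lit 4, nat_lit 0, nat_lit 5, nat_lit 1, nat_lit 0, nat_lit 7, nat_lit 4, nat_lit 5, nat_lit 1, nat_lit 7, nat_lit 0, nat_lit 1, nat_lit 4])] = true := by decide +kernel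
theorem ic_0 : allZ (D.inn H16.TON.P H16.TON.B 55) (nat_lit 0) (nat_lit 45) = true := by decide +kernel
theorem bc1 : D.subChk H16.TON.P 10 H16.TON.B Wb 55 = true := by decide +kernel
theorem bc2 : allL (fixL (wdsP H16.TON.P Wb) 8 H16.TON.B) H16.PON.Rl = true := by decide +kernel
theorem bc3 : autChk H16.TON.P 10 8 H16.TON.B H16.TON.Ws Wb Wb = true := by decide +kernel
theorem bc4 : ltAll 10 (nth [] Wb 0) = 0 ∧ 0 < 122760 ∧ apW H16.TON.P (nth [] Wb 0) 0 ≠ 0 := by decide +kernel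

theorem ovx1 : lvx1.Orb H16.TON.g id 122760 := Lv.orb_lst (S := [3286]) H16.TON.act (by decide +kernel)
theorem exv : ExC H16.TON.g id 122760 10 LLv (gen H16.TON.g 10) := exC_of H16.TON.act H16.TON.inj H16.TON.card (all_cons (H16.TON.o0 _) (all_cons (H16.TON.o1 _) (all_cons (H16.TON.o2 _) (all_cons ovx1 all_nil)))) lcv
theorem cev_g0 : ∀ i < 14080, (cenEnt H16.TON.P V LLv Apv (nat_lit 30)) i = 0 := allZ_sound0 cev_0
theorem cev_g1 : ∀ i < 28160, (cenEnt H16.TON.P V LLv Apv (nat_lit 30)) i = 0 := range_glue cev_g0 cev_1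
theorem cev_g2 : ∀ i < 42240, (cenEnt H16.TON.P V LLv Apv (nat_lit 30)) i = 0 := range_glue cev_g1 cev_2
theorem cev_g3 : ∀ i < 56320, (cenEnt H16.TON.P V LLv Apv (nat_lit 30)) i = 0 := range_glue cev_g2 cev_3
theorem cev_g4 : ∀ i < 70400, (cenEnt H16.TON.P V LLv Apv (nat_lit 30)) i = 0 := range_glue cev_g3 cev_4
theorem cev_g5 : ∀ i < 84480, (cenEnt H16.TON.P V LLv Apv (nat_lit 30)) i = 0 := range_glue cev_g4 cev_5
theorem cev_g6 : ∀ i < 98560, (cenEnt H16.TON.P V LLv Apv (nat_lit 30)) i = 0 := range_glue cev_g5 cev_6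
theorem cev_g7 : ∀ i < 112640, (cenEnt H16.TON.P V LLv Apv (nat_lit 30)) i = 0 := range_glue cev_g6 cev_7
theorem cev : ∀ i < 122760, (cenEnt H16.TON.P V LLv Apv (nat_lit 30)) i = 0 := range_glue cev_g7 cev_8
theorem cenv {a} (hg : a ∈ gen H16.TON.g 10) (h : a * evA H16.TON.g V = evA H16.TON.g V * a) :
    ∃ j : ℤ, ∃ E ∈ Accv, a = evA H16.TON.g V ^ j * evA H16.TON.g E :=
  cen_sound H16.TON.act H16.TON.Blt H16.TON.isBase exv ccv cev hg h
theorem exw : ExC H16.TON.g id 122760 10 LLw (gen H16.TON.g 10) := exC_of H16.TON.act H16.TON.inj H16.TON.card (all_cons (H16.TON.o0 _) (all_cons (H16.TON.o1 _) (all_cons (H16.TON.o2 _) all_nil))) lcw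
theorem cew_g0 : ∀ i < 12672, (cenEnt H16.TON.P W LLw Apw (nat_lit 14)) i = 0 := allZ_sound0 cew_0
theorem cew_g1 : ∀ i < 25344, (cenEnt H16.TON.P W LLw Apw (nat_lit 14)) i = 0 := range_glue cew_g0 cew_1
theorem cew_g2 : ∀ i < 38016, (cenEnt H16.TON.P W LLw Apw (nat_lit 14)) i = 0 := range_glue cew_g1 cew_2
theorem cew_g3 : ∀ i < 50688, (cenEnt H16.TON.P W LLw Apw (nat_lit 14)) i = 0 := range_glue cew_g2 cew_3
theorem cew_g4 : ∀ i < 63360, (cenEnt H16.TON.P W LLw Apw (nat_lit 14)) i = 0 := range_glue cew_g3 cew_4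
theorem cew_g5 : ∀ i < 76032, (cenEnt H16.TON.P W LLw Apw (nat_lit 14)) i = 0 := range_glue cew_g4 cew_5
theorem cew_g6 : ∀ i < 88704, (cenEnt H16.TON.P W LLw Apw (nat_lit 14)) i = 0 := range_glue cew_g5 cew_6
theorem cew_g7 : ∀ i < 101376, (cenEnt H16.TON.P W LLw Apw (nat_lit 14)) i = 0 := range_glue cew_g6 cew_7
theorem cew_g8 : ∀ i < 114048, (cenEnt H16.TON.P W LLw Apw (nat_lit 14)) i = 0 := range_glue cew_g7 cew_8
theorem cew : ∀ i < 122760, (cenEnt H16.TON.P W LLw Apw (nat_lit 14)) i = 0 := range_glue cew_g8 cew_9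
theorem cenw {a} (hg : a ∈ gen H16.TON.g 10) (h : a * evA H16.TON.g W = evA H16.TON.g W * a) :
    ∃ j : ℤ, ∃ E ∈ Accw, a = evA H16.TON.g W ^ j * evA H16.TON.g E :=
  cen_sound H16.TON.act H16.TON.Blt H16.TON.isBase exw ccw cew hg h
theorem ar : D.ar 460815505920 :=
  ⟨by norm_num [D], by decide +kernel, by decide +kernel, by decide +kernel, by decide +kernel, by decide +kernel, by decide +kernel⟩
theorem fl_g0 : ∀ i < 64, (D.fail H16.TON.P [0, 55]) i = 0 := allZ_sound0 fl_0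
theorem fl : ∀ i < 90, (D.fail H16.TON.P [0, 55]) i = 0 := range_glue fl_g0 fl_1
theorem hg (A) (h : ∀ i < 3, evA H16.TON.g (nth [] [D.X, D.W, D.S] i) ∈ A) : gen H16.TON.g 10 ≤ A :=
  slpX_sound H16.TON.act H16.TON.Blt H16.TON.isBase gc le_rfl (Nat.zero_le _) (by rw [gen_zero]; exact bot_le) fun i hi => by
    obtain rfl | rfl | rfl : i = 0 ∨ i = 1 ∨ i = 2 := by omega
    exacts [h 0 hi, h 1 hi, h 2 hi]
theorem ic : ∀ i < 45, (D.inn H16.TON.P H16.TON.B 55) i = 0 := allZ_sound0 ic_0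
theorem hb : ∃ β, D.Is H16.TON.g 10 55 β :=
  have ⟨β, h⟩ := aut_of_rels H16.TON.act H16.TON.Blt H16.TON.isBase H16.TON.gen_eq H16.PON.card H16.PON.rels H16.PON.bound H16.PON.simple bc3 bc2
    ⟨by decide, H16.TON.act.ne_one H16.TON.inj bc4⟩
  ⟨β, D.of_aut H16.TON.act H16.TON.Blt H16.TON.isBase (D.facts H16.TON.act H16.TON.inj H16.TON.Blt H16.TON.isBase dc).1 bc1 β h⟩
theorem out : Nat.card (Cfsg.Out (gen H16.TON.g 10)) = 2 :=
  D.two H16.TON.act H16.TON.inj H16.TON.Blt H16.TON.isBase H16.TON.card (by decide) dc ar cenv cenw fl hg hb ic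

end H16.OON
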