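import Cfsg.Agent.H16.Out
import Cfsg.Agent.H15.J2

/-! Generated by tools/h16 (computation kit). -/

set_option maxRecDepth 100000
set_option maxHeartbeats 0

namespace H16.OJ2

noncomputable def V : List ℕ := [nat_lit 0, nat_lit 2]
noncomputable def W : List ℕ := [nat_lit 0, nat_lit 2, nat_lit 3, nat_lit 2, nat_lit 4, nat_lit 2]
noncomputable def Fv0d : ℕ := nat_lit 0x85469b75b65c75965c45d6516df81651855661454c61559a65659758d59b29784f4513d244844549d65248748f4db46084d30d04d30a38e6d67a02d83947064c94da7135ce55d6164546e2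
noncomputable def Fv0 (u : ℕ) : ℕ := Nat.land (Nat.shiftRight Fv0d (Nat.mul u (nat_lit 6))) (nat_lit 63)
noncomputable def lv0 : Lv := ⟨(nat_lit 0), (nat_lit 31), (nat_lit 100), (nat_lit 5), [[nat_lit 0],
  [nat_lit 1],
  [nat_lit 2],
  [nat_lit 3],
  [nat_lit 4]], Fv0, (nat_lit 7)⟩
noncomputable def Fv1d : ℕ := nat_lit 0x9c0500000000000006000909d0ab08300ed09ad008b070000000a00ce009041908006700a0000000000d00db00db000e
noncomputable def Fv1 (u : ℕ) : ℕ := Nat.land (Nat.shiftRight Fv1d (Nat.mul u (nat_lit 4))) (nat_lit 15)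
noncomputable def lv1 : Lv := ⟨(nat_lit 1), (nat_lit 33), (nat_lit 36), (nat_lit 3), [[nat_lit 2, nat_lit 3, nat_lit 4, nat_lit 2, nat_lit 0, nat_lit 2, nat_lit 3, nat_lit 4],
  [nat_lit 0, nat_lit 2, nat_lit 0, nat_lit 4, nat_lit 2, nat_lit 4, nat_lit 2, nat_lit 3, nat_lit 4, nat_lit 2],
  [nat_lit 1, nat_lit 3, nat_lit 2, nat_lit 4, nat_lit 2, nat_lit 1, nat_lit 2, nat_lit 3, nat_lit 2, nat_lit 0]], Fv1, (nat_lit 5)⟩
noncomputable def Fv2d : ℕ := nat_lit 0x10000000000000000000002c0c000000400000000000a00000000000000000000000007000000000048000000000000000000000000000000000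
noncomputable def Fv2 (u : ℕ) : ℕ := Nat.land (Nat.shiftRight Fv2d (Nat.mul u (nat_lit 5))) (nat_lit 31)
noncomputable def lv2 : Lv := ⟨(nat_lit 4), (nat_lit 92), (nat_lit 7), (nat_lit 3), [[nat_lit 0, nat_lit 2, nat_lit 0, nat_lit 0, nat_lit 3, nat_lit 2, nat_lit 1],
  [nat_lit 3, nat_lit 0, nat_lit 2, nat_lit 0, nat_lit 2, nat_lit 1, nat_lit 2, nat_lit 1, nat_lit 3],
  [nat_lit 1, nat_lit 4, nat_lit 2, nat_lit 0, nat_lit 2, nat_lit 1, nat_lit 2, nat_lit 0, nat_lit 4]], Fv2, (nat_lit 6)⟩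
noncomputable def Fv3d : ℕ := nat_lit 0x30000000000000000000440000000000000000003a200800000000580000000000008a0000018000000004800000000000000015000120000000000
noncomputable def Fv3 (u : ℕ) : ℕ := Nat.land (Nat.shiftRight Fv3d (Nat.mul u (nat_lit 5))) (nat_lit 31)
noncomputable def lv3 : Lv := ⟨(nat_lit 6), (nat_lit 59), (nat_lit 12), (nat_lit 6), [[nat_lit 0, nat_lit 2, nat_lit 0, nat_lit 0, nat_lit 3, nat_lit 2, nat_lit 1],
  [nat_lit 1, nat_lit 2, nat_lit 1, nat_lit 2, nat_lit 3, nat_lit 2, nat_lit 0, nat_lit 2, nat_lit 0],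
  [nat_lit 1, nat_lit 2, nat_lit 1, nat_lit 3, nat_lit 2, nat_lit 1, nat_lit 2, nat_lit 1, nat_lit 3],
  [nat_lit 0, nat_lit 3, nat_lit 2, nat_lit 0, nat_lit 2, nat_lit 1, nat_lit 2, nat_lit 1, nat_lit 3],
  [nat_lit 3, nat_lit 0, nat_lit 2, nat_lit 0, nat_lit 2, nat_lit 1, nat_lit 2, nat_lit 1, nat_lit 3],
  [nat_lit 1, nat_lit 2, nat_lit 0, nat_lit 3, nat_lit 2, nat_lit 4, nat_lit 2, nat_lit 1, nat_lit 3, nat_lit 2, nat_lit 0]], Fv3, (nat_lit 4)⟩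
noncomputable def Fv4d : ℕ := nat_lit 0x800000000100000000
noncomputable def Fv4 (u : ℕ) : ℕ := Nat.land (Nat.shiftRight Fv4d (Nat.mul u (nat_lit 1))) (nat_lit 1)
noncomputable def lv4 : Lv := ⟨(nat_lit 3), (nat_lit 71), (nat_lit 2), (nat_lit 1), [[nat_lit 1, nat_lit 2, nat_lit 1, nat_lit 2, nat_lit 3, nat_lit 2, nat_lit 0, nat_lit 2, nat_lit 0]], Fv4, (nat_lit 2)⟩
noncomputable def LLv : List Lv := [lv0, lv1, lv2, lv3, lv4]
noncomputable def Accv : List (List ℕ) := [[]]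
noncomputable def Apv : List ℕ := [nat_lit 31]
noncomputable def Fw0d : ℕ := nat_lit 0xc28b2ab2ab2b9638e79678e59639278e59259e48e59e489e7e082282181e8a181e8207a282182285b65c75d71d71b65d65c6dd75c6dd7195d45566175155985d45514d14913ce34a2c7049
noncomputable def Fw0 (u : ℕ) : ℕ := Nat.land (Nat.shiftRight Fw0d (Nat.mul u (nat_lit 6))) (nat_lit 63)
noncomputable def lw0 : Lv := ⟨(nat_lit 0), (nat_lit 1), (nat_lit 100), (nat_lit 5), [[nat_lit 0],
  [nat_lit 1],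
  [nat_lit 2],
  [nat_lit 3],
  [nat_lit 4]], Fw0, (nat_lit 10)⟩
noncomputable def Fw1d : ℕ := nat_lit 0x738004b400525c85000d00000200005800d0300001da0000000240c38000001606000000180401800016002c0059800000102a40072460018010000000000
noncomputable def Fw1 (u : ℕ) : ℕ := Nat.land (Nat.shiftRight Fw1d (Nat.mul u (nat_lit 5))) (nat_lit 31)
noncomputable def lw1 : Lv := ⟨(nat_lit 1), (nat_lit 8), (nat_lit 36), (nat_lit 3), [[nat_lit 1],
  [nat_lit 3, nat_lit 4, nat_lit 2, nat_lit 1, nat_lit 2, nat_lit 0, nat_lit 4, nat_lit 3],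
  [nat_lit 4, nat_lit 2, nat_lit 3, nat_lit 2, nat_lit 0, nat_lit 2, nat_lit 0, nat_lit 3, nat_lit 4]], Fw1, (nat_lit 6)⟩
noncomputable def Fw2d : ℕ := nat_lit 0x1e001958000000826068013000000000000000b800000312000000000004018401650024068000000000000000000c701700000
noncomputable def Fw2 (u : ℕ) : ℕ := Nat.land (Nat.shiftRight Fw2d (Nat.mul u (nat_lit 5))) (nat_lit 31)
noncomputable def lw2 : Lv := ⟨(nat_lit 2), (nat_lit 71), (nat_lit 21), (nat_lit 5), [[nat_lit 4, nat_lit 2, nat_lit 3, nat_lit 2, nat_lit 4],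
  [nat_lit 4, nat_lit 2, nat_lit 0, nat_lit 0, nat_lit 2, nat_lit 4],
  [nat_lit 0, nat_lit 4, nat_lit 0, nat_lit 2, nat_lit 0, nat_lit 0, nat_lit 4],
  [nat_lit 4, nat_lit 3, nat_lit 2, nat_lit 0, nat_lit 2, nat_lit 1, nat_lit 3, nat_lit 4],
  [nat_lit 0, nat_lit 4, nat_lit 2, nat_lit 0, nat_lit 2, nat_lit 1, nat_lit 2, nat_lit 1, nat_lit 4]], Fw2, (nat_lit 6)⟩
noncomputable def Fw3d : ℕ := nat_lit 0x2c000000005c0000000000000000000000000000000000000000003800000000000000002000000000c00000004400000000340088000000000000000000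
noncomputable def Fw3 (u : ℕ) : ℕ := Nat.land (Nat.shiftRight Fw3d (Nat.mul u (nat_lit 5))) (nat_lit 31)
noncomputable def lw3 : Lv := ⟨(nat_lit 5), (nat_lit 41), (nat_lit 8), (nat_lit 6), [[nat_lit 2, nat_lit 0, nat_lit 3, nat_lit 2, nat_lit 0, nat_lit 0, nat_lit 4, nat_lit 2, nat_lit 1, nat_lit 3, nat_lit 2],
  [nat_lit 0, nat_lit 4, nat_lit 2, nat_lit 0, nat_lit 2, nat_lit 3, nat_lit 2, nat_lit 1, nat_lit 2, nat_lit 1, nat_lit 4],
  [nat_lit 0, nat_lit 2, nat_lit 1, nat_lit 3, nat_lit 2, nat_lit 4, nat_lit 2, nat_lit 0, nat_lit 3, nat_lit 2, nat_lit 1],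
  [nat_lit 2, nat_lit 0, nat_lit 3, nat_lit 2, nat_lit 0, nat_lit 0, nat_lit 4, nat_lit 2, nat_lit 3, nat_lit 1, nat_lit 2],
  [nat_lit 4, nat_lit 0, nat_lit 2, nat_lit 0, nat_lit 2, nat_lit 3, nat_lit 2, nat_lit 1, nat_lit 2, nat_lit 1, nat_lit 4],
  [nat_lit 3, nat_lit 4, nat_lit 2, nat_lit 1, nat_lit 2, nat_lit 0, nat_lit 2, nat_lit 1, nat_lit 2, nat_lit 1, nat_lit 3, nat_lit 4]], Fw3, (nat_lit 4)⟩
noncomputable def LLw : List Lv := [lw0, lw1, lw2, lw3]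
noncomputable def Accw : List (List ℕ) := [[],
  [nat_lit 1, nat_lit 2, nat_lit 4, nat_lit 1, nat_lit 3, nat_lit 2, nat_lit 1, nat_lit 2, nat_lit 1, nat_lit 3, nat_lit 2, nat_lit 0, nat_lit 4, nat_lit 2, nat_lit 4]]
noncomputable def Apw : List ℕ := [nat_lit 1, nat_lit 53]
noncomputable def D : OD := ⟨7, 3, 4, 1, 6, [1], V, [nat_lit 2, nat_lit 0, nat_lit 0, nat_lit 3, nat_lit 2, nat_lit 4, nat_lit 2, nat_lit 1, nat_lit 4, nat_lit 2, nat_lit 0], [nat_lit 2, nat_lit 1, nat_lit 3, nat_lit 2, nat_lit 0, nat_lit 0, nat_lit 4, nat_lit 2, nat_lit 0, nat_lit 2, nat_lit 0, nat_lit 4, nat_lit 2, nat_lit 4, nat_lit 2, nat_lit 3, nat_lit 1], W, [nat_lit 2, nat_lit 4, nat_lit 1, nat_lit 2, nat_lit 0, nat_lit 2, nat_lit 4, nat_lit 2, nat_lit 0, nat_lit 2, nat_lit 1, nat_lit 4], Accw,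
  [([nat_lit 1, nat_lit 2, nat_lit 1, nat_lit 2], (nat_lit 1)), ([nat_lit 0, nat_lit 2], (nat_lit 7))], (nat_lit 0)⟩
noncomputable def Wb : List (List ℕ) := [[nat_lit 0, nat_lit 2, nat_lit 1, nat_lit 3, nat_lit 2, nat_lit 1, nat_lit 2, nat_lit 1, nat_lit 3, nat_lit 4, nat_lit 2, nat_lit 0, nat_lit 2, nat_lit 1, nat_lit 4, nat_lit 2, nat_lit 3],
  [nat_lit 2, nat_lit 3, nat_lit 2, nat_lit 0, nat_lit 2, nat_lit 1, nat_lit 2, nat_lit 1, nat_lit 2, nat_lit 3, nat_lit 2, nat_lit 0, nat_lit 4, nat_lit 2, nat_lit 0, nat_lit 2, nat_lit 0, nat_lit 4, nat_lit 0],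
  [nat_lit 4, nat_lit 2, nat_lit 3, nat_lit 2, nat_lit 0, nat_lit 2, nat_lit 1, nat_lit 1, nat_lit 3, nat_lit 4, nat_lit 2, nat_lit 4, nat_lit 2, nat_lit 0, nat_lit 2, nat_lit 0],
  [nat_lit 0, nat_lit 2, nat_lit 1, nat_lit 2, nat_lit 3, nat_lit 2, nat_lit 0, nat_lit 2, nat_lit 1],
  [nat_lit 1, nat_lit 2, nat_lit 0, nat_lit 3, nat_lit 2, nat_lit 4, nat_lit 2, nat_lit 3, nat_lit 1, nat_lit 2, nat_lit 0]]

theorem ov0_0 : Nat.beq (loop2 (lv0.scan H16.J2.P) (nat_lit 0) (nat_lit 100)) (nat_lit 100) = true := by decide +kernel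
theorem ov1_0 : Nat.beq (loop2 (lv1.scan H16.J2.P) (nat_lit 0) (nat_lit 100)) (nat_lit 36) = true := by decide +kernel
theorem ov2_0 : Nat.beq (loop2 (lv2.scan H16.J2.P) (nat_lit 0) (nat_lit 100)) (nat_lit 7) = true := by decide +kernel
theorem ov3_0 : Nat.beq (loop2 (lv3.scan H16.J2.P) (nat_lit 0) (nat_lit 100)) (nat_lit 12) = true := by decide +kernel
theorem ov4c : 0 < lv4.K ∧ allL (ltAll 5) lv4.Ws = true ∧ [nat_lit 71, nat_lit 32].length = lv4.n ∧ lv4.lst H16.J2.P [nat_lit 71, nat_lit 32] 100 = 0 := by decide +kernel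
theorem lcv : lowChk H16.J2.P 100 5 LLv [] = 0 ∧ prodN LLv = 604800 ∧ 0 < 604800 := by decide +kernel
theorem ccv : cenChk H16.J2.P 100 5 H16.J2.B V V (nat_lit 31) LLv Accv Apv = true := by decide +kernel
theorem cev_0 : allZ (cenEnt H16.J2.P V LLv Apv (nat_lit 6)) (nat_lit 0) (nat_lit 100) = true := by decide +kernel
theorem ow0_0 : Nat.beq (loop2 (lw0.scan H16.J2.P) (nat_lit 0) (nat_lit 100)) (nat_lit 100) = true := by decide +kernel
theorem ow1_0 : Nat.beq (loop2 (lw1.scan H16.J2.P) (nat_lit 0) (nat_lit 100)) (nat_lit 36) = true := by decide +kernel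
theorem ow2_0 : Nat.beq (loop2 (lw2.scan H16.J2.P) (nat_lit 0) (nat_lit 100)) (nat_lit 21) = true := by decide +kernel
theorem ow3_0 : Nat.beq (loop2 (lw3.scan H16.J2.P) (nat_lit 0) (nat_lit 100)) (nat_lit 8) = true := by decide +kernel
theorem lcw : lowChk H16.J2.P 100 5 LLw [] = 0 ∧ prodN LLw = 604800 ∧ 0 < 604800 := by decide +kernel
theorem ccw : cenChk H16.J2.P 100 5 H16.J2.B W W (nat_lit 1) LLw Accw Apw = true := by decide +kernel
theorem cew_0 : allZ (cenEnt H16.J2.P W LLw Apw (nat_lit 5)) (nat_lit 0) (nat_lit 100) = true := by decide +kernel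
theorem dc : D.chk H16.J2.P 100 5 H16.J2.B = true := by decide +kernel
theorem fl_0 : allZ (D.fail H16.J2.P [0, 3]) (nat_lit 0) (nat_lit 12) = true := by decide +kernel
theorem gc : slpX H16.J2.P 5 H16.J2.B 5 0 3 [D.X, D.W, D.S, [nat_lit 0, nat_lit 3, nat_lit 2, nat_lit 4, nat_lit 2, nat_lit 4, nat_lit 1, nat_lit 2, nat_lit 1, nat_lit 2, nat_lit 4, nat_lit 1, nat_lit 1, nat_lit 2, nat_lit 3, nat_lit 0, nat_lit 2], [nat_lit 2, nat_lit 4, nat_lit 2, nat_lit 3, nat_lit 2, nat_lit 1], [nat_lit 4, nat_lit 0, nat_lit 2, nat_lit 1, nat_lit 2, nat_lit 4, nat_lit 2, nat_lit 1, nat_lit 2, nat_lit 0, nat_lit 4, nat_lit 2]]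
  [((nat_lit 8), [nat_lit 5]),
  ((nat_lit 9), [nat_lit 6]),
  ((nat_lit 10), [nat_lit 7]),
  ((nat_lit 0), [nat_lit 7, nat_lit 8, nat_lit 8, nat_lit 6, nat_lit 7, nat_lit 5, nat_lit 10, nat_lit 8, nat_lit 10, nat_lit 8, nat_lit 10, nat_lit 5, nat_lit 5, nat_lit 5]),
  ((nat_lit 1), [nat_lit 8, nat_lit 6, nat_lit 7, nat_lit 5, nat_lit 10, nat_lit 8, nat_lit 8, nat_lit 7, nat_lit 8, nat_lit 7, nat_lit 5, nat_lit 9, nat_lit 5, nat_lit 10, nat_lit 8, nat_lit 8]),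
  ((nat_lit 2), [nat_lit 5, nat_lit 6, nat_lit 7, nat_lit 5, nat_lit 5, nat_lit 7, nat_lit 8, nat_lit 7, nat_lit 5, nat_lit 7, nat_lit 5, nat_lit 10, nat_lit 8, nat_lit 7, nat_lit 8, nat_lit 7, nat_lit 8, nat_lit 10, nat_lit 5, nat_lit 10, nat_lit 5, nat_lit 9]),
  ((nat_lit 3), [nat_lit 5, nat_lit 9, nat_lit 8, nat_lit 7, nat_lit 5, nat_lit 10, nat_lit 5, nat_lit 10, nat_lit 8, nat_lit 10, nat_lit 5, nat_lit 6, nat_lit 5, nat_lit 7, nat_lit 8, nat_lit 7, nat_lit 5, nat_lit 10, nat_lit 5, nat_lit 10, nat_lit 8]),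
  ((nat_lit 4), [nat_lit 5, nat_lit 10, nat_lit 8, nat_lit 7, nat_lit 5, nat_lit 7, nat_lit 5, nat_lit 10, nat_lit 5, nat_lit 10, nat_lit 8, nat_lit 8, nat_lit 8, nat_lit 7, nat_lit 9, nat_lit 5, nat_lit 7, nat_lit 5])] = true := by decide +kernel
theorem ic_0 : allZ (D.inn H16.J2.P H16.J2.B 3) (nat_lit 0) (nat_lit 12) = true := by decide +kernel
theorem bc1 : D.subChk H16.J2.P 5 H16.J2.B Wb 3 = true := by decide +kernel
theorem bc2 : allL (fixL (wdsP H16.J2.P Wb) 5 H16.J2.B) H16.J2.Rl = true := by decide +kernel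

theorem ov0 : lv0.Orb H16.J2.g (ptF 100) 100 := Lv.orb_scan H16.J2.act (by decide +kernel) (sum_first ov0_0)
theorem ov1 : lv1.Orb H16.J2.g (ptF 100) 100 := Lv.orb_scan H16.J2.act (by decide +kernel) (sum_first ov1_0)
theorem ov2 : lv2.Orb H16.J2.g (ptF 100) 100 := Lv.orb_scan H16.J2.act (by decide +kernel) (sum_first ov2_0)
theorem ov3 : lv3.Orb H16.J2.g (ptF 100) 100 := Lv.orb_scan H16.J2.act (by decide +kernel) (sum_first ov3_0)
theorem ov4 : lv4.Orb H16.J2.g (ptF 100) 100 := Lv.orb_lst H16.J2.act ov4c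
theorem exv : ExC H16.J2.g (ptF 100) 100 5 LLv (gen H16.J2.g 5) := exC_of H16.J2.act (ptF_inj 100) H16.J2.card (all_cons ov0 (all_cons ov1 (all_cons ov2 (all_cons ov3 (all_cons ov4 all_nil))))) lcv
theorem cev : ∀ i < 100, (cenEnt H16.J2.P V LLv Apv (nat_lit 6)) i = 0 := allZ_sound0 cev_0
theorem cenv {a} (hg : a ∈ gen H16.J2.g 5) (h : a * evA H16.J2.g V = evA H16.J2.g V * a) :
    ∃ j : ℤ, ∃ E ∈ Accv, a = evA H16.J2.g V ^ j * evA H16.J2.g E :=
  cen_sound H16.J2.act H16.J2.Blt H16.J2.isBase exv ccv cev hg h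
theorem ow0 : lw0.Orb H16.J2.g (ptF 100) 100 := Lv.orb_scan H16.J2.act (by decide +kernel) (sum_first ow0_0)
theorem ow1 : lw1.Orb H16.J2.g (ptF 100) 100 := Lv.orb_scan H16.J2.act (by decide +kernel) (sum_first ow1_0)
theorem ow2 : lw2.Orb H16.J2.g (ptF 100) 100 := Lv.orb_scan H16.J2.act (by decide +kernel) (sum_first ow2_0)
theorem ow3 : lw3.Orb H16.J2.g (ptF 100) 100 := Lv.orb_scan H16.J2.act (by decide +kernel) (sum_first ow3_0)
theorem exw : ExC H16.J2.g (ptF 100) 100 5 LLw (gen H16.J2.g 5) := exC_of H16.J2.act (ptF_inj 100) H16.J2.card (all_cons ow0 (all_cons ow1 (all_cons ow2 (all_cons ow3 all_nil)))) lcw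
theorem cew : ∀ i < 100, (cenEnt H16.J2.P W LLw Apw (nat_lit 5)) i = 0 := allZ_sound0 cew_0
theorem cenw {a} (hg : a ∈ gen H16.J2.g 5) (h : a * evA H16.J2.g W = evA H16.J2.g W * a) :
    ∃ j : ℤ, ∃ E ∈ Accw, a = evA H16.J2.g W ^ j * evA H16.J2.g E :=
  cen_sound H16.J2.act H16.J2.Blt H16.J2.isBase exw ccw cew hg h
theorem ar : D.ar 604800 :=
  ⟨by norm_num [D], by decide +kernel, by decide +kernel, by decide +kernel, by decide +kernel, by decide +kernel, by decide +kernel⟩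
theorem fl : ∀ i < 12, (D.fail H16.J2.P [0, 3]) i = 0 := allZ_sound0 fl_0
theorem hg (A) (h : ∀ i < 3, evA H16.J2.g (nth [] [D.X, D.W, D.S] i) ∈ A) : gen H16.J2.g 5 ≤ A :=
  slpX_sound H16.J2.act H16.J2.Blt H16.J2.isBase gc le_rfl (Nat.zero_le _) (by rw [gen_zero]; exact bot_le) fun i hi => by
    obtain rfl | rfl | rfl : i = 0 ∨ i = 1 ∨ i = 2 := by omega
    exacts [h 0 hi, h 1 hi, h 2 hi]
theorem ic : ∀ i < 12, (D.inn H16.J2.P H16.J2.B 3) i = 0 := allZ_sound0 ic_0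
theorem out : Nat.card (Cfsg.Out (gen H16.J2.g 5)) = 2 :=
  D.two H16.J2.act (ptF_inj 100) H16.J2.Blt H16.J2.isBase H16.J2.card (by decide) dc ar cenv cenw fl hg (D.of_rels H16.J2.act (ptF_inj 100) H16.J2.Blt H16.J2.isBase H16.J2.card dc ar H16.J2.rels H16.J2.bound H16.J2.simple bc1 bc2) ic

end H16.OJ2
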