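import Cfsg.Agent.H16.Out
import Cfsg.Agent.H16.P.Fi22L

/-! Generated by tools/h16 (computation kit). -/

set_option maxRecDepth 100000
set_option maxHeartbeats 0

namespace H16.OFi22

noncomputable def V : List ℕ := [nat_lit 0, nat_lit 2, nat_lit 7, nat_lit 6, nat_lit 5, nat_lit 4, nat_lit 3, nat_lit 1]
noncomputable def W : List ℕ := [nat_lit 2, nat_lit 6, nat_lit 1, nat_lit 5, nat_lit 0, nat_lit 8, nat_lit 4]
noncomputable def Fv0d : BT := (.node (.node (.node (.leaf (nat_lit 0x756b6b7d6b6b756b6b93808071858392a38392a693808172716e60736073726e6d607070737e7460747360746d6c60727073746e6f706e6d5e735c73716e6f855e735e5d6c5e5d735e745e735e5d5e5d5d735b5a5a5d5d5aaa98918686867e7e867e8674917e91907e868686868674747e74747474749c89897a7a7a7c8c9b8c9d8a787b7776697c697c69767569797c697d697c6975697d6577796575677c68657c7a7767677c676667676767666663668fa19a878f8f8f7d877d7d9a87878f7d7d8f7d8f7d7d7d7d92838383738383859594818186847f7e7285727285727e72727272707f6e81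706e717085716e83707070706e6f98989898a39098988686869086908686868686868c8c7c8c8c7c8c8e8b8a8a7b8d7b877b7b8e7b7b7b7b797678797a797a7a797977a1a18fa1998f8f8f8f99998f8f8f8f8f8f8595958595858594949384848484848484827f818183838382eeaaa29898aaa298989898a2a2989898988e9e8e8e8e8b9d8d8d8d8d8d8d8c8b8c8a8ce4a1aba1a1a1ababa1a1a1beaba1a1a19797979797949496969696939595efeddab4aac7b4aaaab4aac7b4aaaaaab4aaa0a0a0a09d9d9f9f9f9ee3e3d0d0bdb3b3bdb3d0bdb3b3bdb3b3a9a9a9a9a6a6a8a4ecd9ecd9c6d9c6bcc6bcbcc6bcbcb2b2b2afb1e2cfe2cfc5cfc5c5c5b9bbbbb8ebd8ced8cecec0c2c4e1d7d7cdcbeae0d4e9daf2e2ea)) (.leaf (nat_lit 0x54425454472f2f47443447443545413235352e4735405451472e354640433344444745472132223423304735341f334434441d2e354446343443332f4635423042463f1d3222313535341f0c0a0f2022102223111d23231e1e352235200e23222244202f341f0921222232232335461e2f3433201d342235212d3431213447453546353365593341402f54424735402d303f2d44432d3f42413f354132313232351f2134202135352f1b1b2d442d2d472d352333352332321f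32341f213444342f4433315e504e4d293a3d263e2b4e4f4f38373c4f3d3d253b3d3a39363c4d4f3d3d28252a3d2b4f3a3c3d3a4f4c4e4a3b3a3b3d4c3c4d4d3b4c3e37503e3b393e384d3d483e5d4b26373e3d3e3e3b3b3b3e2c3e375c715c4b503e3c373d4d3c3a504e3e3d142a3b2b2b2c273e2c273e3d3e3a262a3d2b3b3a2c3e4f39384f28142b2b2b2c2c253e2c1601181919261a1a2c3d15262b2c17142b3d3e262a16142b3e2c2c3d36263d26263e2b182b3d362a3d3a2a3e3e3c3e495c503e4c3c38294b3e3e393624364d363650364a3e3b3b283b293c3e3e282a293e2c2a38242436363e3c3e2b2c3b2b2c282a3d3d2a28383d393d5744444555475332423420352f352e1c344441454646432f334634312d443434432d33463433311c34434546464333444344323f44443133465645434747444444473547303435472f46535147))) (.node (.leaf (nat_lit 0x4642344734454458594646424158586b6b6b636b6b504f604e4d4a384a62504f4f4f3b383c4e3d4f4f4c3b4a505050393e50394c4f3c2638503e4b37393c4c3d504f4f3d4e4f4d394f4b5e4e3c273d4f3b3a393b3d2928393b3b3c3c4e4e4d3d4c484f4b3d4f4b61713c3e3d4d6250504f5a5037504f503d383e50374d5f503b4f503c4e504e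5f4e61623d29283e3e27293e3b3b504a27293e293e38394b3850494b3c503c4e5d614e604b3d503d504d61624f3d503d4e4d5a4f4f4a4961618671746c48625a626262625a746c6262626262595759585855595857524153544159585858444258452f41455546584656476b5955454159594644594330435947554356422f4742414558465558465959534546564641455746323142444430324441455757544658465868536a7a6a2f4756465946474068594458592f444744564158594559576857633032473247414159526a32472f47405142544051544559455757574659465956635846594656585852516b7d7d686b63637d6b51636b5151595959635963636b6b63596b615e5f606274624c4e6250604e4c614f5e615d62614e4f5f495b5d4a4b62616171614e4a4f4d4c394c4b384e614f4f5c39505f4f624c624b4a624d624c3a504c5c39504a4a4e5a4f62624f60615a5b385f4f4f384d4e393b4d4a3b4a494e60604f61714f6171615b7338504f6238504d5f4a)) (.leaf (nat_lit 0x4c4a4a4b4b59424042413f4040424747554341414142473f424241404142404041414b494b4838485038503e385037363738393b3837383e3b4a37383b4b3b4a3738383e3b4a3e3b4c4b5b50626e4a5c70495d4b393b49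3a3b383e3b3b50393b49383937393b383b3939373b3e373b5341656651595240663f404147414440424440474141534444522e322f35472f2f434732322f323542473247444741422f322f3432473235323444413234444134444132323235413444443535344247435347596865445644676744544244303444422d342e3235342d34472d30344440302e3534323234302f34343435322e344d5c4a4b3b384a4a5f6f5d504d50504d494d505d504d504d37383b3e3d3b383d3b383b3e505f3b4d3b5c3b4d3d4a3d4f26292b29293b2c3938293d3e2b382b3829292b2c2c3d3b3e2b3d3d3e3b38292b2929292b3e2c2b2c2b2a2a3d3b3b2b3d3d283d3b292b2b2b362c3b283b3d2c293b3d2c3d395a4d5c3649503e50615f4d3d4f3d615e4d3d4f3e3d3b27292a2c293d392424252b2738243d3e3e3d2c26372a2c3d37262c3d3d282b26292b272827382b3828252a383d2b44465656444144343244445346)))) (.node (.node (.leaf (nat_lit 0x61623b504a5f495a4e6260603b503850495a495a385037484b484e4e4f624f5f614f4f5a6c5a62747474627474746c8671746c5a74626c745a5a62625a50626c62625557556a586665596b556b58686b566b574559575555586b6b65685452565758406858665254546b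6a6a7a6a42685855545356554342575858644359586b556b5459536b4359556442595353576958676a586a6341584144574453524152515769586a7a6a586a634259586b4459536852634159525157694159405151403f5758585875aba1887a758f7d7d756375637d636b6b7d7d6b6b6b6b7d6b6375637d6b636b6b6359596b80916e5e61715f604e5e5e616e6d4e62617460745f745c744e62605e5e706170736d6c5d715d6c5e5d5b5f4b716149616e5d5d5d737383734c615e5d5c4c4b6061616c4c6261745e624b625b4c625e4b5c606173614b614d4a604a5b5a495a60617361624b62614a625b5a495a6049484861b498aa867e7e7e6c74868686a27f98808674748674746c7e6c6c746c746274747462746c6c746c746262777a89899a8a7768677a6a576a6968655767676a7675576b6a7d696b657d64576b696779676a7c75776666676665556a546a7a6566667c7c556a6754645554696a6a6b556b6a556b54635567546a546a5352695263516a546b546a52635151b3a17d8f758775877d757d7d7d889988758f7d7d8f7d6b7d75757d)) (.leaf (nat_lit 0x535658665859444146444147464741464747585140475646594746462f34322f354434313241343244344735475856443446343133455644344646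1e2f20222022202234352323301f2134323522343520233432202222233220333132343446351b3432202222221f21231e35352334301f303232343444322020213234223423322d353234323433232f343544515947463547543f2d4047553345305658464654314256584641354633342f1d3432311b1c2030341b341b2f2d2d35352d302e2f35343123332f352f31341f213222221e333432312134343b394d4d3d4d4f4d4f263d3b3b3d2b3d4d3d4f5c4a3d3a4e5f4f4f61504f4f504b615d4f50383e3d3b503d503a3c4a3e38503e3e3d4b48503e4d373e3c4f3d3e3c3a504f28293b2b263e2c3d2a3b2b3d252c3e4d3b2b3d3e4c2a3c274d4f3d3d28393c4d4f3d4d2b3d1215182b2917191919281a2c2c1a2b2716272c292b2b3b2917171a292b192c29293a2b3e28151318292b192b2c1a262c2c2727382b3629172a2b2b29242c2b362a2b3b293e382a2c3d5a49383d5d3a50503e24373e4b49363d4c3c384f364b394f362c4a383c3d282a262b2b2b2c27122624243b2424362c383e2c2a2c292c2a2c29282916182b2b273b3b282a3b2f3558464646342e424546564446464631301d3344343434563346464353584131464345584655474540584746464144))) (.leaf (nat_lit 0x54462e2e344434354735354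745405353686853464033424647473430351d2134223035233546302f4733311e34473535463f411f1c2134222e352335210d0b2235232334351d341d1d302f34201f35352f32302f3434473435343421333333334745554132594747433332473547412d2d3f3f473f44344431333247353332223133332d2d464735343534463331303146464d4e4d3b4e4a50503d3b3d3e29293e3e373e3d25253d3e3c3d394d3d383c4f3d3c3a273d3a242a3d2b3c3a243d3d29283d3d4f4c3c3c3c4a3b4d4d3a3c3b4d3d364f3c3a4b4f5c4f37504d3d4d503e3e273d3e50374f484a5a503d3e253e3d3e3e385062504b5e4e5f4a5f3c3c4f502a2b392c3e2a28152b3e2c2c3d3e383d29283e3e384d2a28132b3e2c2c2b17162c2c262927263927293e3b393d3d2a3e3e2a2a3c3c4b4e4c3c3b503e503b2b3a3a3e36364f503e3d3b2b3a3c3e392b3e364f503e3d393a394f4f58445745444147594646463245463247322f33423547472e40302e45344646454746464342464133344543304646323133311b3446323130324646334545455545445646564434433f464243584147595153464740474647473046474746405147592e324647425545475945576856455859331e3447353534201f35352f473032474434201f35351e203532304232474142333347334545545744344343474234473f5859))))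
noncomputable def Fv0 (u : ℕ) : ℕ := force (Nat.shiftRight u (nat_lit 9)) fun j => Nat.land (Nat.shiftRight (Fv0d.get j) (Nat.mul (Nat.land u (nat_lit 511)) (nat_lit 8))) (nat_lit 255)
noncomputable def lv0 : Lv := ⟨(nat_lit 0), (nat_lit 2229), (nat_lit 3510), (nat_lit 9), [[nat_lit 0],
  [nat_lit 1],
  [nat_lit 2],
  [nat_lit 3],
  [nat_lit 4],
  [nat_lit 5],
  [nat_lit 6],
  [nat_lit 7],
  [nat_lit 8]], Fv0, (nat_lit 27)⟩
noncomputable def Fv1d : BT := (.node (.node (.node (.leaf (nat_lit 0x900110000000014000009000000000001e0000000000000000000000000000000000130000f001ef0000000010a8017b81a0058000000000000000000000005810050000000000010bd260002c0002200540078000001d4000000000000200000000000000000000000000004c130000088000a000000000a02f7000000000004e6000000000000001398000a80000000004c16000160000004e40a0000000000000000280000150000090000000000440000000000000001100000000130001000000051c0000000001480000a481900007b000004c008800000291000000000000000000000000000000000000001300000780000000000000000000000000240000000000005a93000008800d002200000000000b0000000000001204dc000260002a00000000000000150000004a8000000780000026000000))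 (.leaf (nat_lit 0x50000018003410880000000e000000000000000000000001704400050000001205c0000000800000000000000000000000005000000000000000000000000024002c0000000002800026003000000170000000000000140000000014880000000000000a00000000000000000000000000000000000000000000781c0000000001300000b4c10700009800000000051e0000139b800000000000905c000000000000000009800000000002e00000000200001e09ce40001a00025400000a800000000002530541104c0b6cc16948000020d00000002cf0027100000b801700011001ec000009cdd2630007b2400401404a8000000782b30020005a4d7829400000000000027205a400000004000900000000000000a0000000000440000000000000001200000000000000058000980000400003c0000000a8016))) (.node (.leaf (nat_lit 0xa25e0000006581100000980000000000000000000028005011756a003ee0840009000000000780160000c0000000000900000026000000000000000004953000000000000016000000000000000000000000000000000000000000000000000000000000000000018000000680000000000000001e000000000000000000000000000001500011000000000000016902000000000012000000000000000000000522000000000000000005d9060015980140022000012001e000000000007cc100000803280002b200000000000000080012680000029405280bc80005015002200327105ef5000000000063540880007000000000000008000005200000000000000000a8000002c0bc000000000000000000a00000000000000b80000000000220a000000000882600000000000000156800000000001ef00000))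 (.leaf (nat_lit 0x160540000280a001300000080f3000000001000000000000020000000000000000000000000009000000000000000000000000001e00400000000000009028048011000000181500120002408280004de0000140000e002f200000050000000000000982800000070000a0000000006000c0000098000002e00000f002a09000000000000000001700000002009001500000000000000000000b8000000000000005000880000000005814034000541700000800000001000000002b00400005000a01e0abdc000000002208d80000010582730024000000a00006800000000000080000000000ad0000014005c1068011901c00000f0001300000050000540000000028160000fa3000a000004c00)))) (.node (.node (.leaf (nat_lit 0x120000004a800441600000000000000000000000000000000000000000026000000001e003e2074aa005260040000000000280902e00001400000000000000000000880009a415a5c00a00000022078000000119800d002c07c00000016045f3000000000d04c00000000000004c0000000000009000000000880000000000000b8232000000000070240002cf0000000015000000027700000000000000000000000000000000280048000000b0001200000000000000000000a0000000000000000000000100000000000002e090000000000000f0000005c0000000000000000005800052e000000002400000000000000000000000000046800000000240045a09da6002ab300000b000001c0f0001300213000000000090000ac400ac4000000000000002a00162004000000000001364c000028f8000000000))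 (.leaf (nat_lit 0x300000017301d7036320000000180030000001393c11000000000000000000009d800000000000000000000000000a0000000000000000000000000000000000000000700000000000000000000001200000054000024005000781f58c2000000000000000008000000000002000000000000000000380000000000120000000000000000001600000000000500000000c0000000160000000000000008800000000000000000000000000009480d002c00000098000000000000000000501e0001c00000005e20000049000093e6078212900130001500e5585c00002a09c63405000a00000000bb0000bb4000328000000044000000000000702000000000000802c00480000000bd4007800b00000001f00026094c13640009801103800902e0000000000000000000000580090000a000000000050000001404c0080000))) (.leaf (nat_lit 0x882200368000000000130000005a8090015000000340003c0005000780000540000000000000000000000000000026000000000000000000000800006000000000000000000000000000000000000000000000001400240000008d8c800280000000000004def0001305000001af000000000090000580000001700260b0000002c0000000000070017000000000000000b00000000000214000000024000000000000000000000040130000003c0f88000980009828000240000000481005000000000000005e2004809bbe120001303de0000000001400000000000528005e20c8000000000000000000000000000000000000148480000000602800000000000a020e00000000000000000000044000000002c000340f00140b48000000000274b800090000000000000004c000028075920000008c6e0b00000001000000))))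
noncomputable def Fv1 (u : ℕ) : ℕ := force (Nat.shiftRight u (nat_lit 9)) fun j => Nat.land (Nat.shiftRight (Fv1d.get j) (Nat.mul (Nat.land u (nat_lit 511)) (nat_lit 5))) (nat_lit 31)
noncomputable def lv1 : Lv := ⟨(nat_lit 4), (nat_lit 3487), (nat_lit 693), (nat_lit 3), [[nat_lit 7, nat_lit 5, nat_lit 2, nat_lit 3, nat_lit 5, nat_lit 1, nat_lit 5, nat_lit 7, nat_lit 2, nat_lit 5, nat_lit 2, nat_lit 3, nat_lit 1, nat_lit 2, nat_lit 4, nat_lit 6, nat_lit 0, nat_lit 8, nat_lit 0, nat_lit 1, nat_lit 2, nat_lit 3, nat_lit 4, nat_lit 0, nat_lit 1, nat_lit 8, nat_lit 2, nat_lit 5, nat_lit 7, nat_lit 2, nat_lit 3, nat_lit 4, nat_lit 6, nat_lit 2, nat_lit 1, nat_lit 5, nat_lit 7, nat_lit 3, nat_lit 2, nat_lit 1, nat_lit 0, nat_lit 8, nat_lit 0, nat_lit 3, nat_lit 2, nat_lit 8, nat_lit 0, nat_lit 1, nat_lit 2, nat_lit 1, nat_lit 3, nat_lit 4, nat_lit 0, nat_lit 1, nat_lit 8, nat_lit 2, nat_lit 5, nat_lit 7, nat_lit 2, nat_lit 3, nat_lit 4, nat_lit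 5, nat_lit 2, nat_lit 3, nat_lit 0, nat_lit 1, nat_lit 8, nat_lit 0, nat_lit 2, nat_lit 1, nat_lit 5, nat_lit 7, nat_lit 5, nat_lit 6, nat_lit 7],
  [nat_lit 3, nat_lit 6, nat_lit 2, nat_lit 5, nat_lit 7, nat_lit 5, nat_lit 2, nat_lit 3, nat_lit 5, nat_lit 1, nat_lit 5, nat_lit 7, nat_lit 2, nat_lit 5, nat_lit 2, nat_lit 3, nat_lit 1, nat_lit 2, nat_lit 7, nat_lit 2, nat_lit 1, nat_lit 5, nat_lit 7, nat_lit 2, nat_lit 3, nat_lit 4, nat_lit 6, nat_lit 4, nat_lit 3, nat_lit 2, nat_lit 7, nat_lit 5, nat_lit 1, nat_lit 2, nat_lit 7, nat_lit 5, nat_lit 3, nat_lit 2, nat_lit 3, nat_lit 4, nat_lit 6, nat_lit 2, nat_lit 3, nat_lit 4, nat_lit 2, nat_lit 5, nat_lit 7, nat_lit 0, nat_lit 1, nat_lit 2, nat_lit 8, nat_lit 3, nat_lit 5, nat_lit 0, nat_lit 1, nat_lit 2, nat_lit 3, nat_lit 5, nat_lit 2, nat_lit 1, nat_lit 0, nat_lit 8, nat_lit 2, nat_lit 1, nat_lit 2, nat_lit 1, nat_lit 5, nat_lit 7, nat_lit 2, nat_lit 3, nat_lit 4, nat_lit 6, nat_lit 4,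 nat_lit 3, nat_lit 2, nat_lit 7, nat_lit 5, nat_lit 1, nat_lit 2, nat_lit 7, nat_lit 5, nat_lit 0, nat_lit 1, nat_lit 2, nat_lit 3, nat_lit 2, nat_lit 1, nat_lit 5, nat_lit 2, nat_lit 0, nat_lit 1, nat_lit 2, nat_lit 1, nat_lit 3, nat_lit 4, nat_lit 7],
  [nat_lit 6, nat_lit 0, nat_lit 1, nat_lit 2, nat_lit 5, nat_lit 8, nat_lit 0, nat_lit 1, nat_lit 2, nat_lit 3, nat_lit 2, nat_lit 1, nat_lit 5, nat_lit 2, nat_lit 0, nat_lit 1, nat_lit 8, nat_lit 0, nat_lit 1, nat_lit 5, nat_lit 7, nat_lit 5, nat_lit 4, nat_lit 0, nat_lit 1, nat_lit 2, nat_lit 8, nat_lit 3, nat_lit 5, nat_lit 0, nat_lit 1, nat_lit 2, nat_lit 3, nat_lit 5, nat_lit 2, nat_lit 1, nat_lit 0, nat_lit 8, nat_lit 2, nat_lit 1, nat_lit 0, nat_lit 2, nat_lit 3, nat_lit 4, nat_lit 2, nat_lit 5, nat_lit 7, nat_lit 0, nat_lit 1, nat_lit 2, nat_lit 8, nat_lit 3, nat_lit 5, nat_lit 0, nat_lit 1, nat_lit 2, nat_lit 3, nat_lit 5, nat_lit 2, nat_lit 1, nat_lit 0, nat_lit 8, nat_lit 2, nat_lit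 8, nat_lit 0, nat_lit 2, nat_lit 3, nat_lit 4, nat_lit 2, nat_lit 3, nat_lit 5, nat_lit 7, nat_lit 2, nat_lit 3, nat_lit 4, nat_lit 6, nat_lit 0, nat_lit 1, nat_lit 8, nat_lit 2, nat_lit 5, nat_lit 7, nat_lit 2, nat_lit 3, nat_lit 4, nat_lit 5, nat_lit 2, nat_lit 3, nat_lit 0, nat_lit 1, nat_lit 8, nat_lit 2, nat_lit 5, nat_lit 7, nat_lit 0, nat_lit 1, nat_lit 2, nat_lit 5, nat_lit 7, nat_lit 2, nat_lit 1]], Fv1, (nat_lit 9)⟩
noncomputable def Fv2d : BT := (.node (.node (.node (.leaf (nat_lit 0xf0000000010000000000000000002c000000000000000000000000000000000000000100001200000000129800d002a0050000000000000000000000000000058000000000012741e000220001a005c0000000001d500000000000028000000000000000000000000000480500000880008800000000b826c0000000000000800000000000000000000088000000000000000014000000466060000000000000000220000000000000000000000500000000000000001100000000100001300000001a000000000109000060006000149800000000b000000010000000000000000000000000000000000000000b000009000000000000000000000000000000000000000049ef00000b801600260000000000000000000000001505260002a0001c000000000000000d000000460000000000000016000000))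 (.leaf (nat_lit 0x260048000000000000000000000000000000000001203c0004c000000004c000000000000000000000000000000000480000000000000000000000001e004000000000028000000000000001600000000000000a000000000f000000000000000b00000000000000000000000000000000000000000000a02c000000000120000004400b0000a800000000002000000f6b000000000001104c0000000000000000000000000000000000000002400018003c000000000274000000000000000000090000e04c11050107c0000001400000002520025000000800140000d0025400000902f6bc00004800000000424000000002770000004c00981e000000000000020c03e400000003800a00000000000000a80000000000000000000000000000000000000000000400000000004c00058000000098000))) (.node (.leaf (nat_lit 0x25c0000009c00000000000000000000000000000000004c12882a00564078000900000000000013000120000000000900000022000000000000000004c1000000000000001200000000000000000000000000000000000000000000000000000000000000000002c0000000000000000000000000000000000000000000000000000000c0001300000000000001200200000000000d0000000000000000000004c00000000000000000059f398000800130020000010002400000000000b441600013032c0000140000000000000009001288000001f203c60948000001000260055e00020c00000000007dac060000000000000000000a8000002a00000000000000003800000000ad000000000000000000980000000000000b800000000002e07800000000002400000000000000000000000000001a000000))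 (.leaf (nat_lit 0xa0000000000480000000000260000000000000000000000018000000000000000000000000006000000000000000000000000002e004800000000000088240900120000004c000026000000000000400000000000000000e000000280000000000009800000000000000000000000580000000070000001200001100280880000000000000000140000000000880100000000000000000000078000000000000005800600000000004c13054000500f00000a000000009000000019705c0004400002809b5e000000002208b4000000088240002400000000000000000000000013000000000074800001c0000108800e782400000f00008000000400004c000000004c0000015030007800001c00)))) (.node (.node (.leaf (nat_lit 0x24005412000000000000000000000000000000000000000000000000000000004dc0a2de003dc0000000000000000982600000d000000000000000000000000003c090440000000000007800000012980000026063000000130428c00000000140400000000000000640000000000008800000000000000000000000a00130000000000981e000010000000001000000002920000000000000000000000000000000000005c00000150000000000000000000000000900000000000000000000000000000000000020098000000000000a0000004c000000000000000000500005a600000000280000000000000000000000000004c00000000022005400342400500e00000b80000580f000140000c0000000000700008c4009540000000000000000004e400400000000000158cc00002140000000000))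 (.leaf (nat_lit 0x50000000090000046f2000000000002000000109a8160000000000000000000074800000000000000000000000000000000000000000000000000000000000000000000000000000000000000000017000000440000260000006829004c00000000000000000a8000000000028000000000000000004c00000000000f00000000000000000012000000000004c0000000a00000000f0000000000000006800000000000000000000000000008d4000020000000b800000000000000000088200002400000004a40000009000073e60802aea000b0001000000a4000001a0bb80105000780000001700000b80000412000000040000000000000a020000000000009000003c000000000000900130000000015000c00500f00000000130480048200000000000000000000000000090000900000000002800000000000060000))) (.leaf (nat_lit 0x882e0045a000000000120000004ae0900140000005000040000480068000000000000000000000000000000000002400000000000000000000060000b000000000000000000000000000000000000000000000000000280000008bdb0001e0000000000004a930000b05c00001f6000000000000000800000000000000a0000001e00000000000a00140000000000000009800000000001a00000000220000000000000000000000000e000000480f3800070000a0200000000000004c14000000000000000001600280f7c5f400000001800000000012000000000004a400340090000000000000000000000000000000000000110440000000002a000000000009028f0000000000000000000004400000000440005c11002408300000000002110000070000000000000005000002406c8000000055000000000000000000))))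
noncomputable def Fv2 (u : ℕ) : ℕ := force (Nat.shiftRight u (nat_lit 9)) fun j => Nat.land (Nat.shiftRight (Fv2d.get j) (Nat.mul (Nat.land u (nat_lit 511)) (nat_lit 5))) (nat_lit 31)
noncomputable def lv2 : Lv := ⟨(nat_lit 6), (nat_lit 2712), (nat_lit 512), (nat_lit 3), [[nat_lit 3, nat_lit 7, nat_lit 2, nat_lit 1, nat_lit 4, nat_lit 5, nat_lit 2, nat_lit 3, nat_lit 0, nat_lit 1, nat_lit 2, nat_lit 8, nat_lit 3, nat_lit 5, nat_lit 0, nat_lit 1, nat_lit 2, nat_lit 3, nat_lit 5, nat_lit 2, nat_lit 1, nat_lit 0, nat_lit 8, nat_lit 2, nat_lit 1, nat_lit 0, nat_lit 2, nat_lit 5, nat_lit 1, nat_lit 2, nat_lit 3, nat_lit 6, nat_lit 4, nat_lit 2, nat_lit 3, nat_lit 5, nat_lit 7, nat_lit 2, nat_lit 3, nat_lit 4, nat_lit 6, nat_lit 0, nat_lit 8, nat_lit 0, nat_lit 1, nat_lit 2, nat_lit 3, nat_lit 4, nat_lit 0, nat_lit 1, nat_lit 8, nat_lit 2, nat_lit 5, nat_lit 7, nat_lit 2, nat_lit 3, nat_lit 4, nat_lit 6, nat_lit 2, nat_lit 1, nat_lit 5, nat_lit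 7, nat_lit 3, nat_lit 2, nat_lit 1, nat_lit 0, nat_lit 8, nat_lit 0, nat_lit 4, nat_lit 6, nat_lit 0, nat_lit 8, nat_lit 3, nat_lit 4],
  [nat_lit 8, nat_lit 1, nat_lit 5, nat_lit 7, nat_lit 5, nat_lit 2, nat_lit 1, nat_lit 4, nat_lit 5, nat_lit 2, nat_lit 3, nat_lit 2, nat_lit 5, nat_lit 1, nat_lit 3, nat_lit 5, nat_lit 7, nat_lit 2, nat_lit 4, nat_lit 3, nat_lit 6, nat_lit 4, nat_lit 0, nat_lit 1, nat_lit 2, nat_lit 8, nat_lit 3, nat_lit 5, nat_lit 0, nat_lit 1, nat_lit 2, nat_lit 3, nat_lit 5, nat_lit 2, nat_lit 1, nat_lit 0, nat_lit 8, nat_lit 2, nat_lit 1, nat_lit 0, nat_lit 4, nat_lit 3, nat_lit 6, nat_lit 4, nat_lit 2, nat_lit 3, nat_lit 4, nat_lit 2, nat_lit 0, nat_lit 1, nat_lit 2, nat_lit 5, nat_lit 7, nat_lit 0, nat_lit 1, nat_lit 8, nat_lit 0, nat_lit 2, nat_lit 3, nat_lit 4, nat_lit 0, nat_lit 1, nat_lit 2, nat_lit 5, nat_lit 7, nat_lit 0, nat_lit 1, nat_lit 2, nat_lit 3, nat_lit 4, nat_lit 6, nat_lit 0, nat_lit 1, nat_lit 2,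 nat_lit 5, nat_lit 7, nat_lit 1, nat_lit 8, nat_lit 7],
  [nat_lit 6, nat_lit 1, nat_lit 5, nat_lit 7, nat_lit 5, nat_lit 2, nat_lit 1, nat_lit 4, nat_lit 5, nat_lit 2, nat_lit 3, nat_lit 2, nat_lit 5, nat_lit 1, nat_lit 2, nat_lit 4, nat_lit 3, nat_lit 6, nat_lit 5, nat_lit 1, nat_lit 2, nat_lit 3, nat_lit 4, nat_lit 0, nat_lit 1, nat_lit 2, nat_lit 8, nat_lit 0, nat_lit 1, nat_lit 2, nat_lit 5, nat_lit 3, nat_lit 2, nat_lit 1, nat_lit 0, nat_lit 5, nat_lit 3, nat_lit 8, nat_lit 2, nat_lit 1, nat_lit 0, nat_lit 6, nat_lit 4, nat_lit 3, nat_lit 2, nat_lit 1, nat_lit 2, nat_lit 0, nat_lit 1, nat_lit 8, nat_lit 1, nat_lit 2, nat_lit 3, nat_lit 4, nat_lit 0, nat_lit 1, nat_lit 2, nat_lit 5, nat_lit 0, nat_lit 1, nat_lit 2, nat_lit 3, nat_lit 0, nat_lit 1, nat_lit 2, nat_lit 3, nat_lit 4, nat_lit 6, nat_lit 0, nat_lit 1, nat_lit 2, nat_lit 5, nat_lit 7, nat_lit 0, nat_lit 8, nat_lit 0, nat_lit 1, nat_lit 2, nat_lit 5, nat_lit 1, nat_lit 2, nat_lit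 3, nat_lit 4, nat_lit 0, nat_lit 1, nat_lit 2, nat_lit 3, nat_lit 0, nat_lit 1, nat_lit 2, nat_lit 5, nat_lit 7, nat_lit 0, nat_lit 1, nat_lit 2, nat_lit 5, nat_lit 4, nat_lit 6, nat_lit 5]], Fv2, (nat_lit 9)⟩
noncomputable def Fv3d : BT := (.node (.node (.node (.leaf (nat_lit 0x130022000000000110000000000000000000fb8000001e000000028000000000000000120000005c004d80000000600000000000000000000000004c00b0000000000000000000a000000000000100000000000b00000022c0000000200000000000000000800000001700000639e0a8000a0000000000000004400000008c4007000000000000000020000c00050000000090000000000000000000000000001100000000000000068000001e0000000000098000002e000000000000340000000000000380000000000000000000000000000000000000a80000000065800002400000000000000000029100000000000000074808014120000000000000000000000000000000000000000000000020000000a00000000000000a80000000000000000000000005400a0120a0000000000000000000000110680000000)) (.leaf (nat_lit 0x200000000000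00500000000000100000000216000000000005a13001a000000000e00000000000800000000000000000000000000000000000000000000680000028000000001e0000000000d00000002f16800000000000000500000000000000260090000900000000000000000000000070140000000000003a310000000000055f0000000000000260000000000000000000000000000000002e00580000000000006000f00000001205000060000000000000f0480000000000000000070240058000022000000702c00000000000000000000000000000000000000000000000000000000000000000000000000000000088010700120000000000000000000004c190000050000000000280000000000000000000000000000000000004bc00098013044000000000000002ae00200000000001500000b026004000))) (.node (.leaf (nat_lit 0x980178b01300000038000000088000000007440000249a40000000000000000000000000000000000000000000d5e0000000000000000000000030000000000260000000000004c00d000000000000000024000000400000000001800000000000000000000000000000000000000000000000000000000080000000000000000000000110028000000000000000000000000000000085000000000440004652002e0934000000003ea0d000000000880000440000000000120000000000000008000000000000000000c000000028d00000bd18000000036143000088011002200000004400780008000000000000000001000000000000400000120000000000000000000000000000013000100028005c000000000000000000341a0000000000000000000000000000000000000000000000000004000000000000000000))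 (.leaf (nat_lit 0x2cf03c00000000000000000b00000000000000b8000000000000000000000000001000000000009c8000000000000000168800d801e000000000000000005000000000020000000000000000000000b8280000007c4000540000000000000000000000002200000000000000000000000000000130000098000b8000000000000000000000000000f00000000000000000000000000000000000000000000000000002e0032600000000000000000000000000780000000000000b8000000000000000000001e0b3000001f69bc0000000000000497a001a00000000000000000000003a6000000980000020004660000000000000000780000000000000000000000000000000000000000000)))) (.node (.node (.leaf (nat_lit 0x22000000000000000000000000000000000014780000001158000000000000000000038000000090000000000000000000000140580000000001800020000253000000000000014000000000c0022d0000000000001a003c006800000000b82400000000000000000000d00000001c00000000000000000000000000000000000000000000000000003c0004c000000000000000008000000000000000028088000001d4000000000000000a800800000002c09000000000000000000000140000000000003c0000000780005000000000000000000060000a000000000901e004c00000000000000011000009800000000800000000000013002600000006800000110001400000000000000000000000000000000000000000000a000000000000000000000000000000000000000004980000000000000000000007d00f))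 (.leaf (nat_lit 0x4c000000000000b00000000000000900000000000000000000000000000000000000000000000000000000000000000001400000000000001300000000000000000000000000000f0000000000000000000000000000000000000000000000480000000000140480000000000009000000134000000000000000048000000e00000980007816000000b0000002200500003a80782800000005c000001200001000005800003d6005000000005d8000000e0000000000002d3002c0000130000005c0000000002200000d00000000000280000000000000001358000000009801604c0d00000002e00000e00012000000000000000a000000012980000018000000001b190000002200000064c00000000000000000000000000000000000000000000000002a0002a00000000000000000000000000030000000000000))) (.leaf (nat_lit 0xa80000000e8801200000b80000000000000002c00001400000000000000000000000000000000000000000000000000600000001a000000380000000000130000000000000000300000000000000000000000000000000e002c0000000000f0000000000000000000000220000150024000000000000000093c00048000540080000a800000013b000000260064000480000000680000000000320000000400000000602e000000000000000003c00000000000003ec000000800000000000014a2c0004813025a00500000000000000024001c000440c000000000000000000007800001800948004800000000000000000070000000000000000000058150000000000000140000080000000160000700000000007800000012))))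
noncomputable def Fv3 (u : ℕ) : ℕ := force (Nat.shiftRight u (nat_lit 9)) fun j => Nat.land (Nat.shiftRight (Fv3d.get j) (Nat.mul (Nat.land u (nat_lit 511)) (nat_lit 5))) (nat_lit 31)
noncomputable def lv3 : Lv := ⟨(nat_lit 12), (nat_lit 2812), (nat_lit 432), (nat_lit 3), [[nat_lit 2, nat_lit 7, nat_lit 5, nat_lit 4, nat_lit 3, nat_lit 2, nat_lit 1, nat_lit 4, nat_lit 5, nat_lit 2, nat_lit 3, nat_lit 2, nat_lit 5, nat_lit 1, nat_lit 2, nat_lit 4, nat_lit 6, nat_lit 4, nat_lit 3, nat_lit 4, nat_lit 2, nat_lit 1, nat_lit 5, nat_lit 2, nat_lit 3, nat_lit 2, nat_lit 5, nat_lit 4, nat_lit 1, nat_lit 2, nat_lit 5, nat_lit 1, nat_lit 0, nat_lit 1, nat_lit 2, nat_lit 5, nat_lit 8, nat_lit 0, nat_lit 1, nat_lit 2, nat_lit 3, nat_lit 2, nat_lit 1, nat_lit 5, nat_lit 2, nat_lit 0, nat_lit 1, nat_lit 8, nat_lit 0, nat_lit 1, nat_lit 5, nat_lit 2, nat_lit 3, nat_lit 5, nat_lit 1, nat_lit 5, nat_lit 7, nat_lit 2, nat_lit 5, nat_lit 2, nat_lit 3, nat_lit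 1, nat_lit 2, nat_lit 4, nat_lit 3, nat_lit 6, nat_lit 4, nat_lit 0, nat_lit 1, nat_lit 2, nat_lit 8, nat_lit 3, nat_lit 5, nat_lit 0, nat_lit 1, nat_lit 2, nat_lit 3, nat_lit 5, nat_lit 2, nat_lit 1, nat_lit 0, nat_lit 8, nat_lit 2, nat_lit 1, nat_lit 0, nat_lit 4, nat_lit 3, nat_lit 6, nat_lit 4, nat_lit 3, nat_lit 2, nat_lit 1, nat_lit 3, nat_lit 4, nat_lit 3, nat_lit 4, nat_lit 2, nat_lit 1, nat_lit 5, nat_lit 7, nat_lit 2, nat_lit 3, nat_lit 5, nat_lit 7, nat_lit 0, nat_lit 8, nat_lit 0, nat_lit 1, nat_lit 2, nat_lit 3, nat_lit 4, nat_lit 0, nat_lit 1, nat_lit 2],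
  [nat_lit 8, nat_lit 2, nat_lit 1, nat_lit 5, nat_lit 3, nat_lit 4, nat_lit 6, nat_lit 2, nat_lit 3, nat_lit 5, nat_lit 7, nat_lit 2, nat_lit 3, nat_lit 4, nat_lit 0, nat_lit 1, nat_lit 2, nat_lit 8, nat_lit 3, nat_lit 5, nat_lit 0, nat_lit 1, nat_lit 2, nat_lit 3, nat_lit 5, nat_lit 2, nat_lit 1, nat_lit 0, nat_lit 8, nat_lit 2, nat_lit 1, nat_lit 0, nat_lit 4, nat_lit 3, nat_lit 2, nat_lit 6, nat_lit 4, nat_lit 3, nat_lit 2, nat_lit 1, nat_lit 2, nat_lit 4, nat_lit 2, nat_lit 1, nat_lit 5, nat_lit 2, nat_lit 3, nat_lit 5, nat_lit 7, nat_lit 4, nat_lit 3, nat_lit 2, nat_lit 7, nat_lit 5, nat_lit 1, nat_lit 2, nat_lit 7, nat_lit 5, nat_lit 2, nat_lit 3, nat_lit 4, nat_lit 5, nat_lit 0, nat_lit 1, nat_lit 2, nat_lit 8, nat_lit 3, nat_lit 5, nat_lit 0, nat_lit 1, nat_lit 2, nat_lit 3, nat_lit 5, nat_lit 2, nat_lit 1, nat_lit 0, nat_lit 8, nat_lit 2, nat_lit 1, nat_lit 0, nat_lit 2, nat_lit 5, nat_lit 2, nat_lit 5, nat_lit 7, nat_lit 2, nat_lit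 3, nat_lit 4, nat_lit 6, nat_lit 2, nat_lit 3, nat_lit 4, nat_lit 5, nat_lit 2, nat_lit 3, nat_lit 2, nat_lit 1, nat_lit 2, nat_lit 3, nat_lit 5, nat_lit 0, nat_lit 1, nat_lit 2, nat_lit 5, nat_lit 7, nat_lit 0, nat_lit 1, nat_lit 2, nat_lit 3, nat_lit 0, nat_lit 1, nat_lit 2, nat_lit 5, nat_lit 0, nat_lit 1, nat_lit 2, nat_lit 5, nat_lit 7, nat_lit 0, nat_lit 1, nat_lit 2, nat_lit 3, nat_lit 8, nat_lit 0, nat_lit 1, nat_lit 8],
  [nat_lit 4, nat_lit 3, nat_lit 2, nat_lit 1, nat_lit 4, nat_lit 5, nat_lit 2, nat_lit 3, nat_lit 2, nat_lit 5, nat_lit 1, nat_lit 2, nat_lit 4, nat_lit 6, nat_lit 4, nat_lit 3, nat_lit 4, nat_lit 2, nat_lit 1, nat_lit 5, nat_lit 2, nat_lit 3, nat_lit 2, nat_lit 5, nat_lit 4, nat_lit 1, nat_lit 2, nat_lit 5, nat_lit 1, nat_lit 0, nat_lit 1, nat_lit 2, nat_lit 5, nat_lit 8, nat_lit 0, nat_lit 1, nat_lit 2, nat_lit 3, nat_lit 2, nat_lit 1, nat_lit 5, nat_lit 2, nat_lit 0, nat_lit 1, nat_lit 8, nat_lit 0, nat_lit 1,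 nat_lit 3, nat_lit 5, nat_lit 7, nat_lit 5, nat_lit 0, nat_lit 1, nat_lit 2, nat_lit 8, nat_lit 3, nat_lit 5, nat_lit 0, nat_lit 1, nat_lit 2, nat_lit 3, nat_lit 5, nat_lit 2, nat_lit 1, nat_lit 0, nat_lit 8, nat_lit 2, nat_lit 1, nat_lit 0, nat_lit 2, nat_lit 1, nat_lit 3, nat_lit 4, nat_lit 3, nat_lit 4, nat_lit 2, nat_lit 5, nat_lit 7, nat_lit 3, nat_lit 4, nat_lit 6, nat_lit 0, nat_lit 1, nat_lit 2, nat_lit 8, nat_lit 3, nat_lit 5, nat_lit 0, nat_lit 1, nat_lit 2, nat_lit 3, nat_lit 5, nat_lit 2, nat_lit 1, nat_lit 0, nat_lit 8, nat_lit 2, nat_lit 1, nat_lit 0, nat_lit 2, nat_lit 1, nat_lit 5, nat_lit 7, nat_lit 2, nat_lit 5, nat_lit 2, nat_lit 3, nat_lit 4, nat_lit 5, nat_lit 1, nat_lit 3, nat_lit 4, nat_lit 5, nat_lit 7, nat_lit 0, nat_lit 1, nat_lit 2, nat_lit 3, nat_lit 0, nat_lit 8, nat_lit 0, nat_lit 1, nat_lit 2, nat_lit 6, nat_lit 7, nat_lit 5]], Fv3, (nat_lit 9)⟩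
noncomputable def Fv4d : BT := (.node (.node (.node (.leaf (nat_lit 0xa050000000000000000000000000000000000000000000000000000000000000000000000000000000000000000000000000000000000000000000000000000000000000000000000000000000000000000000000000000000000000000000000000000000000000000000000000000000000000000000000000000000000000000000000000000000000000000000000000000000000000000000000000000000000000000000000000000000000200000000000000000)) (.leaf (nat_lit 0xb0000000000000006800000000000000000000000000000000000000000000000000000000000000000000000000000000000000000000000000000000000000000000000000000000000000000000000000000000000000000000000000000000000000000000000000000000000000000000000000000000000000000000000000000000000000000000000000005000000000000000000000000000000000000000000000000000000000000000000000000000000000000000000000000000000000000000000000000000000000000000000000000000000000000000000000000000000000000000000000000000000000000000000000000000000000000000000000000000000000000000000003800000000000000000000000000000000000000000000000000000000000000000000000000000)))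 (.node (.leaf (nat_lit 0x1000000000000480000000000000880000000000000000000000000000000000000000000000000000000000000000000000000000000000000000000000000000000000000000b00000000000000000000000000000000000700000000003400000000000000000000000000000000000000000000000000000000000000040000000000000000000000000000000000000000000000000000b0000000000000000000000000000000000000000000000000000000000000000000000000000000000000000000000000000000000000000014000000000000000000000000000000000000000000000000000000000000000000000000000000000000000000000000000000000000000000000000034000000000000000000000000000000000000000000000000000000000)) (.leaf (nat_lit 0x80000)))) (.node (.node (.leaf (nat_lit 0x78000000000000000000001c00000000000000000000000000000000000000000000000000000000000000000000000000000000000000000000000000000001c0000000000000000000000000000000000000000000000000c0000000000000000000000000000000000000000000000000000000000000000000000000000000000000000000000000000000000000000000000000000000000000000000000000000000000000000000000000000000000000000000000000000000000000000000000000000000000000000000000000000000000000000000000000000000000000000000000000000000000000000000000000000000000000000000000000000000000000000000000000000000000000000000000000000000000000000000000000000000000000000000000000000))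 (.leaf (nat_lit 0x80000000000000000000000000000000000000000000000000000000000000000000000000000000000000000000000000000000000000000000000000000000000000000000000000000000000000000000000000000000000000000000000000000000000000000000000000000000000000000000000000000000000000000000000000000000000000000000000000000000000000000000000000000000000000000000000000000000000000000003800000000000000000000000000000000000000000000000000000000000000000000000000000000000000000000000000000000000000000000000000000000000000000000000000000000000000000000000000000000000000000000000000000000000000002c000000000000000000000000000000000000001c00))) (.leaf (nat_lit 0x78000000000000000000000000000000000000000000000000000000000000000000000000000000000000000000000000000000000000000000000000000000000000000000000000000000000000000000000000000000000000000000000000000000000000000000000000000000000000000000000001000000000000000000000000000000000000000000000000000000000000000000000000000000000000000000000000000000000000000000000000000000000000000000000000000000000000000000000000000000000040000000000000000000000000000000000000000000000000000000000000000000000000000000000000000000000000000000000000000000000000000000000000000000000006000000000000000000000000000000000000000))))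
noncomputable def Fv4 (u : ℕ) : ℕ := force (Nat.shiftRight u (nat_lit 9)) fun j => Nat.land (Nat.shiftRight (Fv4d.get j) (Nat.mul (Nat.land u (nat_lit 511)) (nat_lit 5))) (nat_lit 31)
noncomputable def lv4 : Lv := ⟨(nat_lit 11), (nat_lit 3047), (nat_lit 30), (nat_lit 3), [[nat_lit 8, nat_lit 6, nat_lit 1, nat_lit 5, nat_lit 4, nat_lit 2, nat_lit 3, nat_lit 4, nat_lit 2, nat_lit 5, nat_lit 2, nat_lit 3, nat_lit 4, nat_lit 6, nat_lit 0, nat_lit 1, nat_lit 2, nat_lit 8, nat_lit 3, nat_lit 5, nat_lit 0, nat_lit 1, nat_lit 2, nat_lit 3, nat_lit 5, nat_lit 2, nat_lit 1, nat_lit 0, nat_lit 8, nat_lit 2, nat_lit 1, nat_lit 0, nat_lit 2, nat_lit 3, nat_lit 4, nat_lit 2, nat_lit 5, nat_lit 7, nat_lit 0, nat_lit 1, nat_lit 8, nat_lit 2, nat_lit 5, nat_lit 7, nat_lit 2, nat_lit 3, nat_lit 4, nat_lit 6, nat_lit 2, nat_lit 1, nat_lit 5, nat_lit 7, nat_lit 0, nat_lit 1, nat_lit 2, nat_lit 3, nat_lit 2, nat_lit 1, nat_lit 5, nat_lit 2, nat_lit 0, nat_lit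 1, nat_lit 8, nat_lit 0, nat_lit 2, nat_lit 3, nat_lit 4, nat_lit 2, nat_lit 3, nat_lit 4, nat_lit 6, nat_lit 2, nat_lit 1],
  [nat_lit 6, nat_lit 7, nat_lit 5, nat_lit 4, nat_lit 3, nat_lit 2, nat_lit 1, nat_lit 4, nat_lit 5, nat_lit 2, nat_lit 3, nat_lit 2, nat_lit 5, nat_lit 1, nat_lit 2, nat_lit 4, nat_lit 6, nat_lit 4, nat_lit 3, nat_lit 4, nat_lit 2, nat_lit 1, nat_lit 5, nat_lit 2, nat_lit 3, nat_lit 2, nat_lit 5, nat_lit 4, nat_lit 1, nat_lit 2, nat_lit 5, nat_lit 1, nat_lit 6, nat_lit 7, nat_lit 2, nat_lit 1, nat_lit 5, nat_lit 3, nat_lit 4, nat_lit 0, nat_lit 1, nat_lit 2, nat_lit 3, nat_lit 4, nat_lit 6, nat_lit 2, nat_lit 1, nat_lit 3, nat_lit 5, nat_lit 0, nat_lit 1, nat_lit 2, nat_lit 7, nat_lit 5, nat_lit 4, nat_lit 3, nat_lit 2, nat_lit 1, nat_lit 4, nat_lit 5, nat_lit 2, nat_lit 3, nat_lit 2, nat_lit 5, nat_lit 1, nat_lit 2, nat_lit 4, nat_lit 6, nat_lit 4, nat_lit 3, nat_lit 4, nat_lit 2, nat_lit 1, nat_lit 5, nat_lit 2,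 nat_lit 3, nat_lit 2, nat_lit 5, nat_lit 4, nat_lit 1, nat_lit 2, nat_lit 5, nat_lit 1, nat_lit 6, nat_lit 7],
  [nat_lit 0, nat_lit 2, nat_lit 3, nat_lit 2, nat_lit 1, nat_lit 5, nat_lit 2, nat_lit 5, nat_lit 3, nat_lit 1, nat_lit 2, nat_lit 5, nat_lit 1, nat_lit 4, nat_lit 3, nat_lit 6, nat_lit 4, nat_lit 0, nat_lit 1, nat_lit 2, nat_lit 8, nat_lit 3, nat_lit 5, nat_lit 0, nat_lit 1, nat_lit 2, nat_lit 3, nat_lit 5, nat_lit 2, nat_lit 1, nat_lit 0, nat_lit 8, nat_lit 2, nat_lit 1, nat_lit 0, nat_lit 4, nat_lit 3, nat_lit 6, nat_lit 4, nat_lit 7, nat_lit 5, nat_lit 2, nat_lit 3, nat_lit 5, nat_lit 1, nat_lit 5, nat_lit 7, nat_lit 2, nat_lit 5, nat_lit 2, nat_lit 3, nat_lit 1, nat_lit 2, nat_lit 7, nat_lit 2, nat_lit 1, nat_lit 3, nat_lit 5, nat_lit 7, nat_lit 0, nat_lit 1, nat_lit 2, nat_lit 1, nat_lit 3, nat_lit 4, nat_lit 2, nat_lit 1, nat_lit 5, nat_lit 7, nat_lit 2, nat_lit 5, nat_lit 0, nat_lit 1, nat_lit 8, nat_lit 0, nat_lit 1, nat_lit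 2, nat_lit 3, nat_lit 4, nat_lit 6, nat_lit 2, nat_lit 1, nat_lit 4, nat_lit 5, nat_lit 2, nat_lit 3, nat_lit 2, nat_lit 5, nat_lit 1, nat_lit 2, nat_lit 4, nat_lit 3]], Fv4, (nat_lit 7)⟩
noncomputable def Fv5d : BT := (.node (.node (.leaf (nat_lit 0x900000000000000000000000000000000000000000000000000000000000000000000000000000000000000000000000000000000000000000000000000000000000000000000000000000000000000000000000000000000000000000000000000000000000000000000000000000000000000000000000000000000000000000000000000000000000000000000000000000000000000000000000000000000000000000000000000000000000000000000000000000000000000000000000000000000000000000000000000000000000000000000000000000000000000000000000000000000000000000000000000000000000000000000000000000000000000000000000000000000000000000000000000000000000000000000000000000000000000000000000000000000000000000000000000000000000000000000000000000000000000000000000000000000000000000000000000000000000000000000000000000000000000000000000000000000000000000000000000000000000000000000000000000000000000000000000000000000000000000000000000000000000000000000000000000000e000000000000000000))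 (.leaf (nat_lit 0x500000000000000000000000000000000000000000000000000000000000000000000000000000000000000000000000000000000000000000000000000000000000000000000000000000000000000000000000000000000000000000000000000000000000000000000000000000000000000000000000000000000000000000000000000000000000000000000000000000000000000000000000000000000000000000000000000000000000000000000000000000000000000000000000000000000000000000000000000000000000000000000000000000000000000000000000000000000000000000000000000000000000000000000000000000000000000000000000000000000000000000000000000000000000000000000000000))) (.node (.leaf (nat_lit 0)) (.leaf (nat_lit 0x1000000000000000000000000000000000000000000000000000000000000000000000000000000000000000000000000000000000000000000000000000000000000000000000000000000000000000000000000000000000000000000000000000000000000))))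
noncomputable def Fv5 (u : ℕ) : ℕ := force (Nat.shiftRight u (nat_lit 10)) fun j => Nat.land (Nat.shiftRight (Fv5d.get j) (Nat.mul (Nat.land u (nat_lit 1023)) (nat_lit 4))) (nat_lit 15)
noncomputable def lv5 : Lv := ⟨(nat_lit 9), (nat_lit 3276), (nat_lit 4), (nat_lit 5), [[nat_lit 8, nat_lit 6, nat_lit 1, nat_lit 5, nat_lit 4, nat_lit 2, nat_lit 3, nat_lit 4, nat_lit 2, nat_lit 5, nat_lit 2, nat_lit 3, nat_lit 4, nat_lit 6, nat_lit 0, nat_lit 1, nat_lit 2, nat_lit 8, nat_lit 3, nat_lit 5, nat_lit 0, nat_lit 1, nat_lit 2, nat_lit 3, nat_lit 5, nat_lit 2, nat_lit 1, nat_lit 0, nat_lit 8, nat_lit 2, nat_lit 1, nat_lit 0, nat_lit 2, nat_lit 3, nat_lit 4, nat_lit 2, nat_lit 5, nat_lit 7, nat_lit 0, nat_lit 1, nat_lit 8, nat_lit 2, nat_lit 5, nat_lit 7, nat_lit 2, nat_lit 3, nat_lit 4, nat_lit 6, nat_lit 2, nat_lit 1, nat_lit 5, nat_lit 7, nat_lit 0, nat_lit 1, nat_lit 2, nat_lit 3, nat_lit 2, nat_lit 1, nat_lit 5, nat_lit 2, nat_lit 0, nat_lit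 1, nat_lit 8, nat_lit 0, nat_lit 2, nat_lit 3, nat_lit 4, nat_lit 2, nat_lit 3, nat_lit 4, nat_lit 6, nat_lit 2, nat_lit 1],
  [nat_lit 8, nat_lit 6, nat_lit 1, nat_lit 5, nat_lit 4, nat_lit 2, nat_lit 3, nat_lit 4, nat_lit 2, nat_lit 5, nat_lit 2, nat_lit 3, nat_lit 4, nat_lit 6, nat_lit 0, nat_lit 1, nat_lit 2, nat_lit 8, nat_lit 3, nat_lit 5, nat_lit 0, nat_lit 1, nat_lit 2, nat_lit 3, nat_lit 5, nat_lit 2, nat_lit 1, nat_lit 0, nat_lit 8, nat_lit 2, nat_lit 1, nat_lit 0, nat_lit 2, nat_lit 3, nat_lit 4, nat_lit 2, nat_lit 5, nat_lit 7, nat_lit 0, nat_lit 1, nat_lit 8, nat_lit 2, nat_lit 5, nat_lit 7, nat_lit 2, nat_lit 3, nat_lit 4, nat_lit 6, nat_lit 2, nat_lit 1, nat_lit 5, nat_lit 7, nat_lit 0, nat_lit 1, nat_lit 2, nat_lit 3, nat_lit 2, nat_lit 1, nat_lit 5, nat_lit 2, nat_lit 0, nat_lit 1, nat_lit 8, nat_lit 0, nat_lit 2, nat_lit 3, nat_lit 4, nat_lit 2, nat_lit 3, nat_lit 4, nat_lit 6, nat_lit 8, nat_lit 2, nat_lit 1, nat_lit 8],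
  [nat_lit 8, nat_lit 6, nat_lit 1, nat_lit 3, nat_lit 7, nat_lit 5, nat_lit 4, nat_lit 2, nat_lit 3, nat_lit 4, nat_lit 2, nat_lit 5, nat_lit 2, nat_lit 3, nat_lit 4, nat_lit 6, nat_lit 0, nat_lit 1, nat_lit 2, nat_lit 8, nat_lit 3, nat_lit 5, nat_lit 0, nat_lit 1, nat_lit 2, nat_lit 3, nat_lit 5, nat_lit 2, nat_lit 1, nat_lit 0, nat_lit 8, nat_lit 2, nat_lit 1, nat_lit 0, nat_lit 2, nat_lit 3, nat_lit 4, nat_lit 2, nat_lit 5, nat_lit 7, nat_lit 0, nat_lit 1, nat_lit 8, nat_lit 2, nat_lit 5, nat_lit 7, nat_lit 2, nat_lit 3, nat_lit 4, nat_lit 6, nat_lit 2, nat_lit 1, nat_lit 5, nat_lit 7, nat_lit 0, nat_lit 1, nat_lit 2, nat_lit 3, nat_lit 2, nat_lit 1, nat_lit 5, nat_lit 2, nat_lit 0, nat_lit 1, nat_lit 8, nat_lit 0, nat_lit 2, nat_lit 3, nat_lit 4, nat_lit 2, nat_lit 3, nat_lit 4, nat_lit 6, nat_lit 2, nat_lit 7, nat_lit 3, nat_lit 1],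
  [nat_lit 8, nat_lit 6, nat_lit 1, nat_lit 7, nat_lit 5, nat_lit 4, nat_lit 6, nat_lit 2, nat_lit 3, nat_lit 4, nat_lit 2, nat_lit 5, nat_lit 2, nat_lit 3, nat_lit 4, nat_lit 6, nat_lit 0, nat_lit 1, nat_lit 2, nat_lit 8, nat_lit 3, nat_lit 5, nat_lit 0, nat_lit 1, nat_lit 2, nat_lit 3, nat_lit 5, nat_lit 2, nat_lit 1, nat_lit 0, nat_lit 8, nat_lit 2, nat_lit 1, nat_lit 0, nat_lit 2, nat_lit 3, nat_lit 4, nat_lit 2, nat_lit 5, nat_lit 7, nat_lit 0, nat_lit 1, nat_lit 8, nat_lit 2, nat_lit 5, nat_lit 7, nat_lit 2, nat_lit 3, nat_lit 4, nat_lit 6, nat_lit 2, nat_lit 1, nat_lit 5, nat_lit 7, nat_lit 0, nat_lit 1, nat_lit 2, nat_lit 3, nat_lit 2, nat_lit 1, nat_lit 5, nat_lit 2, nat_lit 0, nat_lit 1, nat_lit 8, nat_lit 0, nat_lit 2, nat_lit 3, nat_lit 4, nat_lit 2, nat_lit 3, nat_lit 4, nat_lit 6, nat_lit 4, nat_lit 7, nat_lit 2, nat_lit 1],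
  [nat_lit 5, nat_lit 4, nat_lit 0, nat_lit 1, nat_lit 2, nat_lit 8, nat_lit 3, nat_lit 5, nat_lit 0, nat_lit 1, nat_lit 2, nat_lit 3, nat_lit 5, nat_lit 2, nat_lit 1, nat_lit 0, nat_lit 8, nat_lit 2, nat_lit 1, nat_lit 0, nat_lit 7, nat_lit 2, nat_lit 1, nat_lit 4, nat_lit 5, nat_lit 2, nat_lit 3, nat_lit 2, nat_lit 5, nat_lit 1, nat_lit 2, nat_lit 6, nat_lit 4, nat_lit 3, nat_lit 2, nat_lit 1, nat_lit 5, nat_lit 3, nat_lit 4, nat_lit 0, nat_lit 1, nat_lit 8, nat_lit 0, nat_lit 2, nat_lit 3, nat_lit 5, nat_lit 2, nat_lit 3, nat_lit 4, nat_lit 6, nat_lit 0, nat_lit 1, nat_lit 8, nat_lit 2, nat_lit 3, nat_lit 4, nat_lit 5, nat_lit 2, nat_lit 7, nat_lit 5, nat_lit 0, nat_lit 1, nat_lit 2, nat_lit 8, nat_lit 3, nat_lit 5, nat_lit 0, nat_lit 1, nat_lit 2, nat_lit 3, nat_lit 5, nat_lit 2, nat_lit 1, nat_lit 0, nat_lit 8, nat_lit 2, nat_lit 1, nat_lit 0, nat_lit 4]], Fv5, (nat_lit 3)⟩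
noncomputable def lvx1 : Lv := ⟨(nat_lit 1), (nat_lit 2601), (nat_lit 1), (nat_lit 1), [], fun _ => (nat_lit 0), (nat_lit 1)⟩
noncomputable def LLv : List Lv := [lv0, lv1, lv2, lv3, lv4, lv5, lvx1]
noncomputable def Accv : List (List ℕ) := [[]]
noncomputable def Apv : List ℕ := [nat_lit 2229]
noncomputable def Fw0d : BT := (.node (.node (.node (.leaf (nat_lit 0x6b6b6b6b6b6b7d6b6b97838571978585977183a99684817272707272726072605e60605e6060606060606060605e605a60606e6e6f706e5c70706e5c836e6f6e5e5e5e5d5d5e5d5e5e5f5e5e5e5d5e5d5d5d5b5a5a5d5d5a988684747474727474747474866e90908686747486747474747474747474a08d8e7a7c688e7c8e7a9d8d787b7b677b7b69696969676969696969696969696965657779656579677a65657a77676767676667676767666663667d8f8f7b7d7d7d7d7d7d7d877d878f7d7d7d7d8f7d7d7d7d97848571857371858594846f728472708472727272727272727272707f6e81706e837070716e83707070706e6f86869886908686868686869086908686868686868e7b8e7c7a7c7c8e8b7b787b8d7b7b8d7b7b7b7b7b7b797678797a797a7a7979778f8f8f8f998f8f8f8f99998f8f8f8f8f8f9785848585858594828484848484848484827f818183838382ee98a2989898a298989898a2a2989898988e8e8e8e8e8b8b8d8d8d8d8d8d8c8b8c8a8ce4a1aba1a1a1ababa1a1a1beaba1a1a19797979797949496969696939595efeddab4aac7b4aaaab4aac7b4aaaaaab4aaa0a0a0a09d9d9f9f9f9ee3e3d0d0bdb3b3bdb3d0bdb3b3bdb3b3a9a9a9a9a6a6a8a4ecd9ecd9c6d9c6bcc6bcbcc6bcbcb2b2b2afb1e2cfe2cfc5cfc5c5c5b9bbbbb8ebd8ced8cecec0c2c4e1d7d7cdcbeae0d4e9daf2e2ea))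 (.leaf (nat_lit 0x46583345455159594747474746463331595947474747342f304747353534341b474747354644452f41475347355159594747595946565941305858475447595951593f34312141352323464634343331331f3232353335474747353535353523233f353f2d4646343331473f4735473f3f2d3f2d2d1b1d473535233234203547352f3f2d46434744472f4646433559593f414259585847583f42464130342023233434211f3535234132413335474733412d343523343421220b0d22220a1d41341e32225f5f5f623b38362c1a1a4f4e3861614f5b4a393d3a2a4f4f3d3d3c3a3c284f4f3d3c3a263b3d293d293d3d2a282b14162b2b1350396162506250394b3e4f50383d4f3c3c5050503e3e3d3d2a5050503e3e264d3d3d38503e3e2c273b2b3e503e2c4f3d4d38274b3e4a3e5050503e624f3d4a39506150505062484b3d2b281716382c2c2c2c3e3d2b2a283829382c503e3e2c3e2c2c1a2c48363b3d3d2a3e483e3c50362936241a292b172c3e2c293b2b3e3e3d363a4f3e2c503d38274f3e3e4b4f4b393e50503a4b4f4f3d392b18142c2c1a2b2b182c382c2a38383e3e3d38263e2c2a3b2b1919011529192b382b2956686856686b6b444244322f353523231142584641306a58465342463431201f4646343331444646333234203244343034211d3434212222091e322259474642596b5959463042354647334646)))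 (.node (.leaf (nat_lit 0x4422203532424259544141202f4040636b636b5959625c5b4a5f5c5c6e86744a5c4d3b383839383839263b504a4a5039394c3e503a39383839253e2c2c263a394c503926393e273d38264d3d3b3d3a3a4d4f4f5f2a3b2b3d3b4d2b293b4a283b3d3d4d2b293b293849384a384a62503e3a4d4f50624d622a3d3e503d4d4a4d504a622b3b3e3b4a504962283b3d3e4c3d4d3a504d5e5c2b29393b39503e504a5d5b49293e38505a5a495a2b3b3e3b4c4c625e4a293e384b4b5d494926374848625a626c4b5a7474625a625e6c7462626262505759575945456b535264536578657d5253664442434241412f4342422f3041685559424141564241564342434343474731422f30353530434343473047473041415333463444314446465656343244533241523444443241522f4051514155544159314746535659536b344447445359526b3247415259633444434443595367646332414142596647515263512f4740515451324741555567522f47405451512e3f6b596b636b75516b63557d7d535963516b5159516b6b6b5159474e4e3a6260725f4e4e4e4e50503a4e4e4e503c745b49495b5b6d6f5c6f745b5d5d5d4b4a4b4a4c4b4c4b38394c4c39394b4c5e4c5d4c4c4b4a4d4b504c4c3a3e3a39383e3e39483a5050394a5048394a5d4a3a3d4d3b3d4d4d5c3b4a5b38495a3b4a5b38495a5a37484a5d4b503d504d5c62))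 (.leaf (nat_lit 0x5e5c5e494b59545255515755555153536751585958545955555453404141414141415d5b5d5e4e5a624c485050505d5e624960504a494a4a485c505048494c4e4b4b494b484a49485a5d60625d4a4a4a4a4a4a5e50504f4b4f4f504f4e4f50504e4e4c484b3e383b383b3b3b383b3b57524154636b5751416752535457596669516b5353595247595959454242574154515943514747463f4747473f5952575945574744594444473f5459473f474743454042404647403f47423f403f594154595959445344445744534444554747474646473f4646474744454644474745453f434235323230323230312d323230314e4b5b604e60493b3b4e4b605a62624e4e4c623b503b5050624a4d4b50505d485a62504d4d4d4d4d505b50503e625050503c3c393b3d3d48504848503a5048363e3e3e3d3e363e3e3e3e36504c4e503c4e3b50394f4d3a393e48484b4e503e3e504f3c37383637363e3e37483e3e494839373636503b3b625050485050394d4d3a394e3a4d4d3639483e383e504d504d393d3d3e3e364f3e39363d3a393b3b39504f3c3c3a363a2c3e242929273d3d3d2927283d3d3d2925284545424455575445574440412d)))) (.node (.node (.leaf (nat_lit 0x5b743b4d4a5b626c385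0495a3b4c4a4c62705b6c384a495a485a37483850495e5a3748365a4a48625a50746262505a746c747e5f746c5a625e626c746262505a62505757435757454357695757576969555957574547454345595945666b52525454526652786466667d66546666546755555453545555424243424255545559555654444259434347434241473f4253435559425142535446444144536441526340514152636340513f54544259445653646b75415652634051415552636340513f40513f63998f8878877d7d5966566355595951596b63597d6b596b596663687d756b6b596b6b59596e7f6e6060725e60604e4c4e4e4c60606062606060624c624e4e504e4c5e4e60624e4c5d6f747e5e5d5b5d5d705e5b5d806f5d6f6e5d6f6f5e5e5e5d4b4c4b4b4c4b4b5e4b4c5d5e4d4b4d4b4c4c504b484b4c5a4b5d4b4d4a494a5b6c495a48495a485f4b5d4b4a5f5b6c495a48495a4848a2869862726c6c6062746c62907f9880867e867462625d745f6262625a626262746262717462747462627a7a7a778c8c7967697b696969696955575755575755695757696957576b55575759576955576357776675676665676766658c7766786566675567545455545455545655545555565454555154555454535251526351515468545452635151a18f6b6b697d69756b6b636b6b76998f778f7d7d7d6b6b6b686b6b))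 (.leaf (nat_lit 0x3232304542575159515959594545434359593032474732314747473559414459544747515159515959474441404256564342474759595959474759464345332f3332304534343f5146513f47473f474747442d35353535353f47473f3535352d59464345434745314646464746474235584747474540473f463f40442f2e2d2d473535352f2e4735403f3f2d2d473144442e5959595347473f464646585642423f464646564342443f35472f332e3534444744443433312d463f3541442d2d4647323031463f46333331351b3434201c1f34341e3134341d1f244f4c4e3c383c3b394f4c4e4c4b4e3a3837383c37243d3d2925284a494a504d4f3c3c4e4e5a6248505050504f4f3c3c3a5050503e3d273b503e3e3e3d262850503e3e3e4f4e3b38504a483e5a504850504f4f624d5050384f4f4f505f4b4b3e505062625050482a363d3d3d3a383c3c2a283b3b2b3c3a2c484850503e3e3e3e363e3e3b2c2c2c2c3e3e362c364f504f3d3c3c3a28494f3e3e3e49504836363736362424263e3e2c2c3d263e3e2c483636243a503b3e3d3d4d3a395050484d5050364f4f484b4a4f4f4c36484d383e293d3e2a2a282c2c3b3b362a3a503e4f363b36243d3d272c3d3d2a282b132b2b14162b3d262b2b122d23415352413346464643414545333158585846454543312f462f3246333331341c34341d1f585858595359473f4144)))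 (.leaf (nat_lit 0x4559474735334434475947354730342f445646354735343247471e35354634413042584242595947474458464247515943595834222220213535352332353421332f2f354735233523353f33443447474647342d200e23352320322235353432474446311e4735354634303542473142464759465531444622220f233523213222352f342f4742343534320c2010222032325f4d715f5c6274744d3b4d393b29372c3e371a2c1a3e3726264f39274f3d4a394d614f4b3d2b2b292a3b3d3d2a3c4d3d2917293b2b3d3b3a273d392b2b182a3b2b1529192b293a6250503a4d4f5062623d293e3e50373d3c4d4f3e503e3d3b5050272c503e254d3d3b3d4d3e3e3b502b2a3e3e3e3b4f3d393a394f3e50503a4d4f50624f5f292b2b182c372c2a3e2b3d263e3e2c2c3e3d3b504d3b1729192c2c2b293e3b504a3d2b272c3e3e283b3d3e503d4c504c3d4d1829192c2c2b293e39504b3b3b19172938386b56535368656b7d535644322f2f4442322f2f472e2e4235352323302f2f472e4235301d463230343344584642435658323434213344344644203222343244463430314446213222343222203247475946434759594656596b342f35473346444656474744591d44343547344441444741593234313542473147464643475946565956213222352e3432304735474454534122203532474159521f32343547344447435955))))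
noncomputable def Fw0 (u : ℕ) : ℕ := force (Nat.shiftRight u (nat_lit 9)) fun j => Nat.land (Nat.shiftRight (Fw0d.get j) (Nat.mul (Nat.land u (nat_lit 511)) (nat_lit 8))) (nat_lit 255)
noncomputable def lw0 : Lv := ⟨(nat_lit 0), (nat_lit 2132), (nat_lit 3510), (nat_lit 9), [[nat_lit 0],
  [nat_lit 1],
  [nat_lit 2],
  [nat_lit 3],
  [nat_lit 4],
  [nat_lit 5],
  [nat_lit 6],
  [nat_lit 7],
  [nat_lit 8]], Fw0, (nat_lit 27)⟩
noncomputable def Fw1d : BT := (.node (.node (.node (.leaf (nat_lit 0xe0000c000000000005a2098280001209000000231a3400000130020003c0000000000006800f980000000405c00002ae000140000004000a5c000000000000000000000000000000007828000000000000000000000000009800000000000000000000000000000000000000000000000000014000f3000000001600280980100000005e4003a80bd0000000000000956809d5a0000000026000000046000000005c160000000000001c00000000000002c004000000009580000000a00000024e0001468000002400000000000000006000000000000120000002800000120000000000000000000000000000000000004800000009001504180b00000000c00012001a0a02a00000000000000120000000000000000000000252bd80000000000090027000000000150400000000000008001100000000000000000200))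 (.leaf (nat_lit 0x28004c009cc00001c000000a00000000000000000139800000000000000000005000800000001400000000000000000000000008c4000000003e2098000002c060000050000001405c200000004812000000001304c000001400010000000000000000000000581404d40000000000000000000116000098291048007a6a00524000000940158001048000050000026000000002d300010000000001200000000000000000016050120000000000002a060120b8000000009822001800000000000003a000380fa8011946c078260b8000001a0ad800002e0a0000000000026e9d000001f2000000000000000000000028003ef40200005c16050009cc1000000000000000003500b82600000000000002a080000000000001400000034000000004800001e0000000000000010000000000004a00052cb0001100013))) (.node (.leaf (nat_lit 0x340003c000000f04a800000000000002406000a03c000000000000001e0002f402c0090000002b1000000000000000002c00001404f359d0000480f0027100000002600001400000002c0000000000f0000f9480000000000000440d0001000015a01a00000094c000000004400000160000088000900000000000000000000000000000000000000000000000000000000010002609cc00a8000045cf001e000280a824000014000006800050000000000000000000000000001200000880000029288010000000000000013050000000004800000000026000000025f2000009800003800500000000090013044119800000000002800540004c0004c000000000195a4e8f03c0000000000000000088000000000000000000000000000000000002a000000000120012000000000000000080294049800400088000))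 (.leaf (nat_lit 0x4c00000000000080000000000000000300002600024000280782e00000d0000090000038000001000000000000000088013000000000004c0000000000000000005c000001794800002e000220002b4000000000e002806826094016d00000000000000b000000000000177c8000028000000a02e00025003d600000004140b0016b3800001f2000000022003c0000200b0000002000000d80000000000480e7801704c0000000000000480004c00000007800f0000000000000000000000000a000000000b82600000000000048000000003c0000000b8012a000e000000000000220000105800088000800000000000000000000001400000054000000004a20000000000004400000000000000000)))) (.node (.node (.leaf (nat_lit 0x9000000000b0400000213000000000000000b800003000b941405240002407800000012000000000000000045f100000802600000000000000000000000000000008800005d605000000000a0007881e000256880000000000000000008d2a070012000000000000000002c004c0084c00002e00020000000000000000003400002c000000000000000000016001c0ad4000000000016038000000000000000009800000000b21e003c000033300014600000000000214a1a5400000000000000068000050000000004c0004eec04c00000000000004816002a000000000000000f048000000004800000000000090000000000500000000802600000000000882008000005000000000000004e400001300000049e00000000000180140000003800002209000000000a1c0000000001a000000000000028000000))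 (.leaf (nat_lit 0x2803000000000000000000000000654000020005c000000000000000000000f00016000000001100000a0000bb20000000000000001500260000000000090000a801405813a001000000000000026000000000007800a00000b540000000000000000003c00982a0000000026000000b024000280000006000000000000000001300280000100581400010049ab982349001402c00000000000093400000007801600000a0000045a078013a00000000000000054000001705400003200000000014000000000004a9304de003400a4c0000000002a0001ed0000000180000120000000000000009d9e00000000017000000000004000000000000000000a0000000000000000251b0000000000000000000ac400000170018005000000000000005c0000000000000000000000000000000000000000000018c00280))) (.leaf (nat_lit 0x5001500000000170000004aa0000000000005000000000440000000a0000000000000000000000000001204000002a00000083c0000000000007800000000902f203ee004800000000534000000000000000000260000000000098015a024000000048000000f4de8005400a4800000140000004180b82160001304c00a00000581500015b4817000000000000000000000000000012030000000000000002009bc000020000000000160000d0029588240000148800004c000000004660bc8100566000000000000000003c0004a6f781900000004a60000000000000000a0000000000000000000000000000000000038000023303c0000000000000000000015a0000000000000000000a00000000004680002400000000000000000480000019680000556000000000000000000000000000000000000000170001500000))))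
noncomputable def Fw1 (u : ℕ) : ℕ := force (Nat.shiftRight u (nat_lit 9)) fun j => Nat.land (Nat.shiftRight (Fw1d.get j) (Nat.mul (Nat.land u (nat_lit 511)) (nat_lit 5))) (nat_lit 31)
noncomputable def lw1 : Lv := ⟨(nat_lit 1), (nat_lit 2437), (nat_lit 693), (nat_lit 3), [[nat_lit 6, nat_lit 5, nat_lit 2, nat_lit 3, nat_lit 4, nat_lit 7, nat_lit 2, nat_lit 3, nat_lit 4, nat_lit 6, nat_lit 2, nat_lit 3, nat_lit 4, nat_lit 5, nat_lit 2, nat_lit 3, nat_lit 2, nat_lit 1, nat_lit 2, nat_lit 3, nat_lit 5, nat_lit 2, nat_lit 4, nat_lit 6, nat_lit 4, nat_lit 0, nat_lit 1, nat_lit 2, nat_lit 8, nat_lit 3, nat_lit 5, nat_lit 0, nat_lit 1, nat_lit 2, nat_lit 3, nat_lit 5, nat_lit 2, nat_lit 1, nat_lit 0, nat_lit 8, nat_lit 2, nat_lit 1, nat_lit 0, nat_lit 7, nat_lit 2, nat_lit 1, nat_lit 4, nat_lit 5, nat_lit 2, nat_lit 3, nat_lit 2, nat_lit 5, nat_lit 1, nat_lit 3, nat_lit 5, nat_lit 7, nat_lit 2, nat_lit 3, nat_lit 4, nat_lit 0, nat_lit 1, nat_lit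 2, nat_lit 5, nat_lit 7, nat_lit 0, nat_lit 1, nat_lit 8, nat_lit 0, nat_lit 2, nat_lit 3, nat_lit 4, nat_lit 0, nat_lit 1, nat_lit 2, nat_lit 5, nat_lit 7, nat_lit 0, nat_lit 1, nat_lit 8, nat_lit 0, nat_lit 1, nat_lit 2, nat_lit 1, nat_lit 3, nat_lit 4, nat_lit 5, nat_lit 0],
  [nat_lit 8, nat_lit 1, nat_lit 7, nat_lit 5, nat_lit 2, nat_lit 1, nat_lit 5, nat_lit 2, nat_lit 3, nat_lit 5, nat_lit 7, nat_lit 4, nat_lit 3, nat_lit 2, nat_lit 7, nat_lit 5, nat_lit 1, nat_lit 2, nat_lit 7, nat_lit 5, nat_lit 2, nat_lit 1, nat_lit 3, nat_lit 4, nat_lit 2, nat_lit 0, nat_lit 1, nat_lit 2, nat_lit 8, nat_lit 3, nat_lit 5, nat_lit 0, nat_lit 1, nat_lit 2, nat_lit 3, nat_lit 5, nat_lit 2, nat_lit 1, nat_lit 0, nat_lit 8, nat_lit 2, nat_lit 1, nat_lit 0, nat_lit 2, nat_lit 1, nat_lit 5, nat_lit 7, nat_lit 0, nat_lit 1, nat_lit 2, nat_lit 1, nat_lit 3, nat_lit 4, nat_lit 0, nat_lit 1, nat_lit 2, nat_lit 5, nat_lit 7, nat_lit 0, nat_lit 1, nat_lit 2,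 nat_lit 8, nat_lit 3, nat_lit 5, nat_lit 0, nat_lit 1, nat_lit 2, nat_lit 3, nat_lit 4, nat_lit 6, nat_lit 0, nat_lit 1, nat_lit 8, nat_lit 2, nat_lit 5, nat_lit 7, nat_lit 2, nat_lit 3, nat_lit 4, nat_lit 5, nat_lit 2, nat_lit 3, nat_lit 0, nat_lit 1, nat_lit 2, nat_lit 3, nat_lit 2, nat_lit 1, nat_lit 5, nat_lit 2, nat_lit 0, nat_lit 1, nat_lit 2, nat_lit 5, nat_lit 7, nat_lit 0, nat_lit 1, nat_lit 8, nat_lit 0, nat_lit 2, nat_lit 1, nat_lit 5, nat_lit 7, nat_lit 0, nat_lit 1, nat_lit 2, nat_lit 3, nat_lit 4, nat_lit 6, nat_lit 2, nat_lit 1],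
  [nat_lit 8, nat_lit 2, nat_lit 3, nat_lit 2, nat_lit 1, nat_lit 5, nat_lit 2, nat_lit 5, nat_lit 3, nat_lit 1, nat_lit 2, nat_lit 5, nat_lit 2, nat_lit 5, nat_lit 2, nat_lit 5, nat_lit 2, nat_lit 3, nat_lit 4, nat_lit 6, nat_lit 0, nat_lit 1, nat_lit 2, nat_lit 8, nat_lit 3, nat_lit 5, nat_lit 0, nat_lit 1, nat_lit 2, nat_lit 3, nat_lit 5, nat_lit 2, nat_lit 1, nat_lit 0, nat_lit 8, nat_lit 2, nat_lit 1, nat_lit 0, nat_lit 7, nat_lit 5, nat_lit 6, nat_lit 2, nat_lit 3, nat_lit 4, nat_lit 6, nat_lit 2, nat_lit 3, nat_lit 4, nat_lit 0, nat_lit 1, nat_lit 2, nat_lit 8, nat_lit 3, nat_lit 5, nat_lit 0, nat_lit 1, nat_lit 2, nat_lit 3, nat_lit 5, nat_lit 2, nat_lit 1, nat_lit 0, nat_lit 8, nat_lit 2, nat_lit 1, nat_lit 0, nat_lit 7, nat_lit 5, nat_lit 2, nat_lit 1, nat_lit 3, nat_lit 0, nat_lit 1, nat_lit 2, nat_lit 3, nat_lit 4, nat_lit 6, nat_lit 0, nat_lit 1, nat_lit 2, nat_lit 5, nat_lit 7, nat_lit 2, nat_lit 1, nat_lit 4, nat_lit 5, nat_lit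 2, nat_lit 3, nat_lit 2, nat_lit 5, nat_lit 1, nat_lit 2, nat_lit 4, nat_lit 3, nat_lit 0, nat_lit 1, nat_lit 2, nat_lit 3, nat_lit 4, nat_lit 6, nat_lit 0, nat_lit 1, nat_lit 8, nat_lit 2, nat_lit 5, nat_lit 7, nat_lit 2, nat_lit 3, nat_lit 4, nat_lit 5, nat_lit 2, nat_lit 3, nat_lit 5, nat_lit 2, nat_lit 6, nat_lit 5]], Fw1, (nat_lit 9)⟩
noncomputable def Fw2d : BT := (.node (.node (.node (.leaf (nat_lit 0x26080000000000000000000980000028004400000000028005000002a00000000000000000000003240780000000000000000000000000000002c003800000000020000200000000400f00290000000024f000000000000000001a000271002919000000000000000022000000000000000000000000008580098000000000000000000000000000000000000000000000000000000000e0000f00000a80000000000000001f30000000000000120000000254000140025000015051a005c00034000380000000000000001300000040000000000260000000000000000000000000000000001e0034000000000010000000000004c0088000000000000004000000150000000000000000000000000000000000f040009000000000001e00000000000001c0002a00024000000000000000000000000110000b00000))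 (.leaf (nat_lit 0x9800aa0011002400380fb82ae00000b020c0018f9800004c00000000000000013002710000000000b801770000000000028003800001a000011b0012000000001704c120001200000a000802e11001c0002a000000000000000000000000000000000000a800f000000000000000a00070000d00000044130000000000000000000f000000000005000000000001205400000008800000000b500000000000000000000000000000000000000000000000000000000140000003c000000000000002e00000058000002e000000000000000000000000000000000000000000000000000000000000000000002a06d5a085010000000022f000008000000000000000000000000000000000000000000000000000000000000000000000882740000000000a00000000000000002e000000000000000000000001a005800))) (.node (.leaf (nat_lit 0x90240781600018000000000000500000000000008800002640000000000000000000000300b000000000000000500000000004e80000000000000000a30003000000000054000000000000000000000000000000000000000214000000000000000000000000f000000000000000001e0000000400000014000000000004c0c0000000000000000000fa0220001c00000d000006800c001e00000c00000000000000f03c000420090000000000022000000000000012000000002400020000000000000000005c0068008a02600000000000001c00000000000880000000005c0000000000000540000000000000026000000000000000000000801c0000000000000000000000000000000851c005800000000000003e400000005c0000000000000000000000044000000000000001e00000000000000009828000000))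 (.leaf (nat_lit 0x220000000000005000000000000000000b8000000007c80004c0000011000000580000160000000000078020000000000000000040000020000000000000000005014b00099440000012040000000004800a01e08480000000000000000000000000000000000220a5c0000000000000001100000000160000000000b000c000120000000016000000000004000000000000000000000006d000000000000000000000000000003c00000000000000000000000000004800000000000000180002800024000000000000000000000901e005800702600000005000000000000000000000000000000000000000026000260000000000000240040130026c0000d00000880000400000010000000022005000)))) (.node (.node (.leaf (nat_lit 0x3800000000000000000000000000003c0002800b820000000b0000002a000000000000000070000330000001204c1700000000000000094a400480000000881c00000000000000000001200000000000000000000600000280d042800001204ded0000f001e00000000000000007000098227000000000000000000000000000000000000000000000000000000000000000000017204c000000000000002e0000000000000000000000000000011000000500000000a00000000000000000000580000000000000000000260000100000000000000128800f001a00000000000bbc1000000480000518000000a49e000000000130000000280000000340000000b480c000000001300012a8014a0000000000026078240000000000000000000007500c000000580000000002800000004c0000000048000000000000881f2))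 (.leaf (nat_lit 0x1411000140501448000050000000d00012000009800c0024f554000026000000000000000004000050000001000014000130000000000a800ab500000140000000522000000000000000000011a000090000000130000004012001207824000000bcc000000004c000000c000000000000014b000005c0000000a01e0002800000000012980000000000000000000000004800a02200000004a0d000000000003c0000000000009000000000000000000000000000000000080000000000000000000582e00000000000a80000000000000000000240000000000000001303400000000000000000000000000000000000000000000000000000000000000001e0044000000000000000009822000000001c00000000000000000000000000001920000000000000000000005013000000000000000000000000084400))) (.leaf (nat_lit 0x8d0150000000000000127de60a3c0000000000000000004c00000000000000000000140001588000882c0ab000b50130001300010002060000f85c00000000000000000000170000000000000000381600000412a000000002200400000000002630000000000002400014000000000000000000000001e000280000000000000000000000022f001310026000000002600000000000000000000060000000009c0000481100000002e0a0000050000000000000000000000000000000000000000000002730000000000a0000000000000000000000090440003a2004000000000000000000048000000000010000000000000000000000000000000000000522000000000006dda00000000000000000001404c0000250000000026000000000000000000000000000380004c000024000012a500000000a0000000e0))))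
noncomputable def Fw2 (u : ℕ) : ℕ := force (Nat.shiftRight u (nat_lit 9)) fun j => Nat.land (Nat.shiftRight (Fw2d.get j) (Nat.mul (Nat.land u (nat_lit 511)) (nat_lit 5))) (nat_lit 31)
noncomputable def lw2 : Lv := ⟨(nat_lit 2), (nat_lit 3441), (nat_lit 512), (nat_lit 3), [[nat_lit 1, nat_lit 5, nat_lit 7, nat_lit 5, nat_lit 2, nat_lit 3, nat_lit 5, nat_lit 1, nat_lit 5, nat_lit 7, nat_lit 2, nat_lit 5, nat_lit 2, nat_lit 3, nat_lit 1, nat_lit 2, nat_lit 7, nat_lit 2, nat_lit 3, nat_lit 2, nat_lit 3, nat_lit 5, nat_lit 7, nat_lit 0, nat_lit 1, nat_lit 2, nat_lit 8, nat_lit 3, nat_lit 5, nat_lit 0, nat_lit 1, nat_lit 2, nat_lit 3, nat_lit 5, nat_lit 2, nat_lit 1, nat_lit 0, nat_lit 8, nat_lit 2, nat_lit 1, nat_lit 0, nat_lit 2, nat_lit 3, nat_lit 4, nat_lit 6, nat_lit 2, nat_lit 3, nat_lit 4, nat_lit 6, nat_lit 2, nat_lit 3, nat_lit 4, nat_lit 5, nat_lit 2, nat_lit 3, nat_lit 0, nat_lit 1, nat_lit 2, nat_lit 5, nat_lit 7, nat_lit 0, nat_lit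 1, nat_lit 8, nat_lit 0, nat_lit 2, nat_lit 3, nat_lit 4, nat_lit 0, nat_lit 1, nat_lit 8, nat_lit 0, nat_lit 2, nat_lit 3, nat_lit 5, nat_lit 2, nat_lit 3, nat_lit 4, nat_lit 6, nat_lit 0, nat_lit 1, nat_lit 5, nat_lit 2, nat_lit 0],
  [nat_lit 6, nat_lit 5, nat_lit 2, nat_lit 3, nat_lit 4, nat_lit 7, nat_lit 2, nat_lit 3, nat_lit 4, nat_lit 6, nat_lit 2, nat_lit 3, nat_lit 4, nat_lit 5, nat_lit 2, nat_lit 3, nat_lit 2, nat_lit 1, nat_lit 2, nat_lit 3, nat_lit 5, nat_lit 2, nat_lit 4, nat_lit 6, nat_lit 3, nat_lit 4, nat_lit 5, nat_lit 0, nat_lit 1, nat_lit 2, nat_lit 8, nat_lit 3, nat_lit 5, nat_lit 0, nat_lit 1, nat_lit 2, nat_lit 3, nat_lit 5, nat_lit 2, nat_lit 1, nat_lit 0, nat_lit 8, nat_lit 2, nat_lit 1, nat_lit 0, nat_lit 7, nat_lit 2, nat_lit 1, nat_lit 4, nat_lit 5, nat_lit 2, nat_lit 3, nat_lit 2, nat_lit 5, nat_lit 1, nat_lit 2, nat_lit 4, nat_lit 6, nat_lit 7, nat_lit 0, nat_lit 1, nat_lit 2, nat_lit 8, nat_lit 3, nat_lit 5,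 nat_lit 0, nat_lit 1, nat_lit 2, nat_lit 3, nat_lit 5, nat_lit 2, nat_lit 1, nat_lit 0, nat_lit 8, nat_lit 2, nat_lit 1, nat_lit 0, nat_lit 4, nat_lit 3, nat_lit 6, nat_lit 2, nat_lit 5, nat_lit 0, nat_lit 1, nat_lit 2, nat_lit 3, nat_lit 4, nat_lit 6, nat_lit 0, nat_lit 8, nat_lit 0, nat_lit 1, nat_lit 8, nat_lit 0, nat_lit 2, nat_lit 3, nat_lit 4, nat_lit 5, nat_lit 3],
  [nat_lit 2, nat_lit 3, nat_lit 2, nat_lit 1, nat_lit 5, nat_lit 2, nat_lit 5, nat_lit 3, nat_lit 1, nat_lit 2, nat_lit 5, nat_lit 2, nat_lit 3, nat_lit 4, nat_lit 7, nat_lit 2, nat_lit 3, nat_lit 4, nat_lit 6, nat_lit 2, nat_lit 3, nat_lit 4, nat_lit 5, nat_lit 2, nat_lit 3, nat_lit 2, nat_lit 1, nat_lit 2, nat_lit 3, nat_lit 5, nat_lit 2, nat_lit 4, nat_lit 6, nat_lit 3, nat_lit 4, nat_lit 2, nat_lit 1, nat_lit 3, nat_lit 4, nat_lit 3, nat_lit 4, nat_lit 2, nat_lit 5, nat_lit 7, nat_lit 2, nat_lit 3, nat_lit 1, nat_lit 2, nat_lit 0, nat_lit 1, nat_lit 2, nat_lit 8, nat_lit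 0, nat_lit 1, nat_lit 2, nat_lit 5, nat_lit 3, nat_lit 2, nat_lit 1, nat_lit 0, nat_lit 5, nat_lit 3, nat_lit 8, nat_lit 2, nat_lit 1, nat_lit 0, nat_lit 7, nat_lit 6, nat_lit 4, nat_lit 2, nat_lit 1, nat_lit 3, nat_lit 4, nat_lit 2, nat_lit 0, nat_lit 1, nat_lit 2, nat_lit 8, nat_lit 3, nat_lit 5, nat_lit 0, nat_lit 1, nat_lit 2, nat_lit 3, nat_lit 5, nat_lit 2, nat_lit 1, nat_lit 0, nat_lit 8, nat_lit 2, nat_lit 1, nat_lit 0, nat_lit 2, nat_lit 5, nat_lit 7, nat_lit 2, nat_lit 3, nat_lit 5, nat_lit 1, nat_lit 3, nat_lit 0, nat_lit 1, nat_lit 8, nat_lit 0, nat_lit 7, nat_lit 8, nat_lit 5]], Fw2, (nat_lit 8)⟩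
noncomputable def Fw3d : BT := (.node (.node (.node (.leaf (nat_lit 0xbe66000000056b00000fb0000000000000000012000000034078000a0000b000d05256782b6002a005c10a000000320a480004c00000000000000017a4814902d698016c00120601598000000009e4009d2e08c80093c00b00130401705407bd8009ac00001e090280b82d8a4c11bc5f2d5400c000004c00a4273002c005810001c004abaa00130001800280b5a55002d6000100001395a97a800000120a800000317b800005697bd000c000005012c4b0005000900000400000000c5aa000000000009026000000bc01200296b02a095de0000159c6a0b5c0004f37a8300049c090260b02b3882e0bd813a82c0056cf6cdc0882740581600280000000028095aa0a0000948000480098000981a0a82e0be01798016bd0008801405800002808500006600b54007800fa80000001505eaea02c0002a09a64dcd200d00009d000)) (.leaf (nat_lit 0x540004800002800001300000040000664005000ac800002800000000016b0012acee000000055b7000000340005eb200240ac800b001500014046e00000004a400000000000b82a004000000009000000000ac416000000020000000b8260ad2f905a5704c0d002a07000000000cd29904c00a680004a000000000000880140001400000b8013000000000004dd6b8280b8000bbc000440000000001e003c00a80000032dbdaf7a0000b02c004800bd81983c120440000240ade9300018982000021705c13a0000001e0054000000a0000c0014084815002f790000056a0a5260b0000002cd9dc009cab09c015c60000000000000b8000000009824000014002c0003120500005c1a900000580084e97066b7ae000000177d240bdee09021400000b82f1c026000000001d7002e00580000017cbc140001500000b000000240)))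 (.node (.leaf (nat_lit 0x6bc00000170000b05400880000025100254ad81100000002d3000009501360000a8000001600028005000b028068019002e00000d9800000000001e0b0340000000001500017a0220c3c140481505410b82c002c00002a0ad800bb000002607ce40048000540fa02a0002770381200000a8000a4c00001c0056c00001798016002c0982d290012abb52bcaa004c00b480003220000000500000013002e000000bcc169b80000011b0000058000024005c16002e0a4ad758018bc4169cc00ae417002a0ad400003408028f0000000000801209b72da8000982807dc1303d80000009818e0027300280002578564002c009800004f4004e54bcc1ad000f0000a002b30400005400000008833ab000000012c82c0002b7a825500015002f4d030b052d004f13d48008cc14002c000000bca2c7d80003eb600000000170001604e20)) (.leaf (nat_lit 0x8801304ef70029805412002530564000013bc41800012880000000004800000110540000000054000580000280052d404800a00100540000011000177801200240000000022000320b0000bbc17900000580e00000b001604810002a0052da8d2c0ba6810400000312b02600029248000a492000000900000001400000000000022000000cdc0094800a8000001f6a500805eb5bdc110028005c14900130014004980002a0002009d0117824f00017002d300000d02a000011000000000db8000000000581202811a0000ace00000168030f000009c26000000002e0b030f92634a8010ade20000130280004c15000009c2ea0001504000002800000000200880000029300255881e0ad01265817c0000))))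 (.node (.node (.leaf (nat_lit 0x1efa0260782a0c66c0000179cc0000240c83540540000000001c00000098000a541704c00000000000405c00002a0d0000b83160501300000a0280002600000d602909de560541500000002b6852f6056e005c0004c0000000d001a75800780000000004800bcef0050000001500017000000001405c169001594e80bd815002f2b001978014022a002a137de5aad2a09d415000000027088000781e0c0000000150480003c16b800f0000090000000000000000280036d395400000006ca9578016be31505293b8210b0000782c000000780008d00005ee090000cd400ae017002c0a5240002f700014d020000000a0000002a000237a80157812000000ade600020005817052c0b000005de0038009000fb40000581600000b00110000004e20002c0b026000000032cf06811002b79800c80017c82b3adc00a800004000)) (.leaf (nat_lit 0x1700000001a0b028000000a8280be6e000200d5c0000180b540000240058000400094000061f000220a8340002e0000008458094e12902c005000002eab4800002f30000098280032c0bb9e07d66004014002d67d2a006a6000280000170581105c0000250b001600017a000098012b55ce0000004815701c004e57000009801405ea08cc0002000b82c0a6a400000005c00002e00000005a70a000000193002e0003409eeb7051ac0001604b00052b6adc118e415002c094ea000359a00003c673acec000014a6af600000000009827400277903609800090000a02a00580078220001f0702c0b9c0f0001800000b000003275b82a0002c07501695c00902d20540f18010032eea8000052d50640ca5ed705411000007d0008001700013002600400000000052f4002a08800db0000acc009c8170501203c189000000011)))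 (.leaf (nat_lit 0x1e000000ad80005815000000000000220002f385620a83209001904c15b6aa0056a00540034c00000000001300015002c00000006000b0000002e000000064000001200015055e090014bd69468000001e0054110000d03e580540000000bc81700000900000000f00013000000540005a970000000000ae0000000001800d02a0902200000004400ad00003c00b5f00c5c11b5400b03206cf0fcac00000170000000000c82c090260980000000000015a02e00033660255056c00000000000a000ea0215b0000b5e52b82f60000002c009b2e048000d0000000128801000000a00110481604f11a8017bd2c095ae0881c07b800902d69e60028294ab6f39d64000014d02b7056d500015056c003310b001305c00a801400000a4d926801565e00002c000000bd620940060000078280a4c11b5a800018000000002e0d0012))))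
noncomputable def Fw3 (u : ℕ) : ℕ := force (Nat.shiftRight u (nat_lit 9)) fun j => Nat.land (Nat.shiftRight (Fw3d.get j) (Nat.mul (Nat.land u (nat_lit 511)) (nat_lit 5))) (nat_lit 31)
noncomputable def lw3 : Lv := ⟨(nat_lit 4), (nat_lit 3348), (nat_lit 1440), (nat_lit 3), [[nat_lit 8, nat_lit 2, nat_lit 3, nat_lit 2, nat_lit 1, nat_lit 5, nat_lit 2, nat_lit 5, nat_lit 3, nat_lit 1, nat_lit 2, nat_lit 5, nat_lit 1, nat_lit 6, nat_lit 3, nat_lit 5, nat_lit 7, nat_lit 5, nat_lit 2, nat_lit 3, nat_lit 5, nat_lit 1, nat_lit 5, nat_lit 7, nat_lit 2, nat_lit 5, nat_lit 2, nat_lit 3, nat_lit 1, nat_lit 5, nat_lit 2, nat_lit 5, nat_lit 2, nat_lit 3, nat_lit 4, nat_lit 6, nat_lit 0, nat_lit 1, nat_lit 2, nat_lit 8, nat_lit 3, nat_lit 5, nat_lit 0, nat_lit 1, nat_lit 2, nat_lit 3, nat_lit 5, nat_lit 2, nat_lit 1, nat_lit 0, nat_lit 8, nat_lit 2, nat_lit 1, nat_lit 0, nat_lit 7, nat_lit 5, nat_lit 2, nat_lit 1, nat_lit 3, nat_lit 4, nat_lit 3, nat_lit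 4, nat_lit 2, nat_lit 5, nat_lit 7, nat_lit 2, nat_lit 3, nat_lit 1, nat_lit 2, nat_lit 4, nat_lit 3, nat_lit 6, nat_lit 2, nat_lit 1, nat_lit 3, nat_lit 5, nat_lit 7, nat_lit 0, nat_lit 1, nat_lit 2, nat_lit 5, nat_lit 7, nat_lit 0, nat_lit 1, nat_lit 2, nat_lit 3, nat_lit 2, nat_lit 1, nat_lit 5, nat_lit 2, nat_lit 0, nat_lit 1, nat_lit 2, nat_lit 3, nat_lit 4, nat_lit 1, nat_lit 4],
  [nat_lit 6, nat_lit 1, nat_lit 7, nat_lit 4, nat_lit 0, nat_lit 1, nat_lit 2, nat_lit 8, nat_lit 3, nat_lit 5, nat_lit 0, nat_lit 1, nat_lit 2, nat_lit 3, nat_lit 5, nat_lit 2, nat_lit 1, nat_lit 0, nat_lit 8, nat_lit 2, nat_lit 1, nat_lit 0, nat_lit 7, nat_lit 4, nat_lit 3, nat_lit 2, nat_lit 1, nat_lit 4, nat_lit 5, nat_lit 2, nat_lit 3, nat_lit 2, nat_lit 5, nat_lit 1, nat_lit 2, nat_lit 4, nat_lit 3, nat_lit 6, nat_lit 2, nat_lit 3, nat_lit 5, nat_lit 7, nat_lit 2, nat_lit 5, nat_lit 2, nat_lit 1, nat_lit 2, nat_lit 3, nat_lit 4, nat_lit 6, nat_lit 0,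 nat_lit 1, nat_lit 2, nat_lit 8, nat_lit 3, nat_lit 5, nat_lit 0, nat_lit 1, nat_lit 2, nat_lit 3, nat_lit 5, nat_lit 2, nat_lit 1, nat_lit 0, nat_lit 8, nat_lit 2, nat_lit 1, nat_lit 0, nat_lit 4, nat_lit 3, nat_lit 2, nat_lit 3, nat_lit 5, nat_lit 7, nat_lit 3, nat_lit 2, nat_lit 1, nat_lit 0, nat_lit 1, nat_lit 2, nat_lit 3, nat_lit 4, nat_lit 6, nat_lit 0, nat_lit 1, nat_lit 8, nat_lit 2, nat_lit 5, nat_lit 7, nat_lit 0, nat_lit 8, nat_lit 0, nat_lit 1, nat_lit 2, nat_lit 5, nat_lit 1, nat_lit 2, nat_lit 3, nat_lit 4, nat_lit 6, nat_lit 2, nat_lit 8, nat_lit 3],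
  [nat_lit 8, nat_lit 0, nat_lit 1, nat_lit 2, nat_lit 3, nat_lit 5, nat_lit 0, nat_lit 1, nat_lit 2, nat_lit 8, nat_lit 3, nat_lit 5, nat_lit 0, nat_lit 1, nat_lit 0, nat_lit 8, nat_lit 2, nat_lit 1, nat_lit 0, nat_lit 5, nat_lit 3, nat_lit 2, nat_lit 1, nat_lit 0, nat_lit 2, nat_lit 5, nat_lit 3, nat_lit 1, nat_lit 3, nat_lit 5, nat_lit 7, nat_lit 2, nat_lit 3, nat_lit 4, nat_lit 6, nat_lit 2, nat_lit 3, nat_lit 4, nat_lit 5, nat_lit 2, nat_lit 3, nat_lit 2, nat_lit 1, nat_lit 5, nat_lit 2, nat_lit 7, nat_lit 5, nat_lit 1, nat_lit 2, nat_lit 4, nat_lit 0, nat_lit 1, nat_lit 2, nat_lit 8, nat_lit 3, nat_lit 5, nat_lit 0, nat_lit 1, nat_lit 2, nat_lit 3, nat_lit 5, nat_lit 2, nat_lit 1, nat_lit 0, nat_lit 8, nat_lit 2, nat_lit 1, nat_lit 0, nat_lit 4, nat_lit 6, nat_lit 2, nat_lit 1, nat_lit 5, nat_lit 3, nat_lit 4, nat_lit 6, nat_lit 2, nat_lit 3, nat_lit 4, nat_lit 0, nat_lit 1, nat_lit 2, nat_lit 8, nat_lit 3, nat_lit 5, nat_lit 0, nat_lit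 1, nat_lit 2, nat_lit 3, nat_lit 5, nat_lit 2, nat_lit 1, nat_lit 0, nat_lit 8, nat_lit 2, nat_lit 8, nat_lit 2, nat_lit 5, nat_lit 7, nat_lit 2, nat_lit 3, nat_lit 4, nat_lit 5, nat_lit 2, nat_lit 3, nat_lit 8, nat_lit 4, nat_lit 2]], Fw3, (nat_lit 10)⟩
noncomputable def Fw4d : BT := (.node (.node (.leaf (nat_lit 0x800000000000000000000000000000000000000000000000000000000000000000000000000000000000000000000000000000000000000000000000000000000000000000000000000000000000000000000000000000000000000000000000000000000000000000000000000000000000000000000000000000000000000000000000000000000000000000000000000000000000000000000000000000000000000000000000000000000000000000000000000000000000000000000000000000000000000000000000000000000000000000000000000000000000000000000000000000000009000000000000000000000000000000000000000000000000000000000000000000000000000000000000000000000000000000000000000000000000000000000000000000000000000000000000000000000000000000000000000000000000000000000000000000000000000000000000600000000000000000000000000000000000000000000000000000000000000000000000000000000000000000000000000000000000000000000000000000000000000000000000000000000000000000000000000000000000000000000000000000000000000000000000000000000000000000000000000000000000000000000000000000000000000000000000000000000000000000000000000000000))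 (.leaf (nat_lit 0x10000000000000000000000000400000000000000000000000000000000000000000000000000000000000000000000000000000000000000000000000000000000000000000000000000000000000000000000000000000000000000000000000000000000000000000000000000000000000000000000000000000000000000000000000000000000000000000000000000000000000000000000000000000000000000000000000000000000000000000000000000000000000000000000000000000000000000000000000000000000000000000000000000000000000000000000000000000000000000000000000000000000000000000000000000000000000000000000000000000000000000000000000000000000000000000000000000000000000000000000000000000000000000000000000000000000000000000000000000000000000000000000000))) (.node (.leaf (nat_lit 0x700000000000000000000000000000000000000000000000000000000600000000000000000000000000000000000000000300000000000000000000000000000000000000000000000000000000000000000000000)) (.leaf (nat_lit 0x7000000000000000000000000000000000000000000000000000000000000000000000000000000000000000000000000000000000000000000000000000000000000000000000000000000000000000000000000000000000000000000000000000000000000000000000000000000000000000000000000000000000000000000000000000000000000000000000000000000000))))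
noncomputable def Fw4 (u : ℕ) : ℕ := force (Nat.shiftRight u (nat_lit 10)) fun j => Nat.land (Nat.shiftRight (Fw4d.get j) (Nat.mul (Nat.land u (nat_lit 1023)) (nat_lit 4))) (nat_lit 15)
noncomputable def lw4 : Lv := ⟨(nat_lit 5), (nat_lit 2721), (nat_lit 9), (nat_lit 3), [[nat_lit 8, nat_lit 6, nat_lit 3, nat_lit 2, nat_lit 3, nat_lit 4, nat_lit 7, nat_lit 2, nat_lit 3, nat_lit 4, nat_lit 6, nat_lit 2, nat_lit 3, nat_lit 4, nat_lit 5, nat_lit 2, nat_lit 3, nat_lit 2, nat_lit 1, nat_lit 2, nat_lit 3, nat_lit 5, nat_lit 2, nat_lit 4, nat_lit 6, nat_lit 3, nat_lit 4, nat_lit 5, nat_lit 4, nat_lit 3, nat_lit 2, nat_lit 1, nat_lit 5, nat_lit 7, nat_lit 0, nat_lit 1, nat_lit 2, nat_lit 8, nat_lit 3, nat_lit 5, nat_lit 0, nat_lit 1, nat_lit 2, nat_lit 3, nat_lit 5, nat_lit 2, nat_lit 1, nat_lit 0, nat_lit 8, nat_lit 2, nat_lit 1, nat_lit 0, nat_lit 2, nat_lit 5, nat_lit 7, nat_lit 0, nat_lit 1, nat_lit 2, nat_lit 3, nat_lit 4, nat_lit 6, nat_lit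 0, nat_lit 1, nat_lit 2, nat_lit 5, nat_lit 7, nat_lit 0, nat_lit 3, nat_lit 4, nat_lit 2, nat_lit 3, nat_lit 2, nat_lit 1, nat_lit 5, nat_lit 7, nat_lit 2, nat_lit 5, nat_lit 3, nat_lit 2, nat_lit 4, nat_lit 3, nat_lit 1, nat_lit 2, nat_lit 6, nat_lit 2],
  [nat_lit 8, nat_lit 7, nat_lit 5, nat_lit 2, nat_lit 3, nat_lit 5, nat_lit 1, nat_lit 5, nat_lit 7, nat_lit 2, nat_lit 5, nat_lit 2, nat_lit 3, nat_lit 1, nat_lit 2, nat_lit 4, nat_lit 2, nat_lit 1, nat_lit 5, nat_lit 7, nat_lit 2, nat_lit 3, nat_lit 4, nat_lit 6, nat_lit 4, nat_lit 3, nat_lit 2, nat_lit 7, nat_lit 5, nat_lit 1, nat_lit 2, nat_lit 7, nat_lit 5, nat_lit 0, nat_lit 1, nat_lit 2, nat_lit 8, nat_lit 3, nat_lit 5, nat_lit 0, nat_lit 1, nat_lit 2, nat_lit 3, nat_lit 5, nat_lit 2, nat_lit 1, nat_lit 0, nat_lit 8, nat_lit 2, nat_lit 1, nat_lit 0, nat_lit 7, nat_lit 4, nat_lit 3, nat_lit 6, nat_lit 4, nat_lit 2, nat_lit 1, nat_lit 3, nat_lit 4, nat_lit 6, nat_lit 0, nat_lit 1,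 nat_lit 8, nat_lit 0, nat_lit 2, nat_lit 3, nat_lit 5, nat_lit 2, nat_lit 3, nat_lit 4, nat_lit 6, nat_lit 0, nat_lit 1, nat_lit 2, nat_lit 1, nat_lit 3, nat_lit 4, nat_lit 2, nat_lit 3, nat_lit 2, nat_lit 1, nat_lit 5, nat_lit 7, nat_lit 2, nat_lit 5, nat_lit 3, nat_lit 2, nat_lit 4, nat_lit 3, nat_lit 1, nat_lit 2, nat_lit 5, nat_lit 1, nat_lit 4, nat_lit 7],
  [nat_lit 3, nat_lit 4, nat_lit 5, nat_lit 8, nat_lit 2, nat_lit 3, nat_lit 2, nat_lit 1, nat_lit 5, nat_lit 2, nat_lit 5, nat_lit 3, nat_lit 1, nat_lit 2, nat_lit 5, nat_lit 1, nat_lit 6, nat_lit 1, nat_lit 7, nat_lit 4, nat_lit 0, nat_lit 1, nat_lit 2, nat_lit 8, nat_lit 3, nat_lit 5, nat_lit 0, nat_lit 1, nat_lit 2, nat_lit 3, nat_lit 5, nat_lit 2, nat_lit 1, nat_lit 0, nat_lit 8, nat_lit 2, nat_lit 1, nat_lit 0, nat_lit 7, nat_lit 2, nat_lit 5, nat_lit 2, nat_lit 3, nat_lit 4, nat_lit 6, nat_lit 2, nat_lit 3, nat_lit 5, nat_lit 7, nat_lit 0, nat_lit 1, nat_lit 2, nat_lit 8, nat_lit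 3, nat_lit 5, nat_lit 0, nat_lit 1, nat_lit 2, nat_lit 3, nat_lit 5, nat_lit 2, nat_lit 1, nat_lit 0, nat_lit 8, nat_lit 2, nat_lit 1, nat_lit 2, nat_lit 1, nat_lit 5, nat_lit 7, nat_lit 2, nat_lit 3, nat_lit 4, nat_lit 6, nat_lit 4, nat_lit 3, nat_lit 2, nat_lit 7, nat_lit 5, nat_lit 1, nat_lit 2, nat_lit 7, nat_lit 5, nat_lit 0, nat_lit 1, nat_lit 2, nat_lit 3, nat_lit 2, nat_lit 1, nat_lit 5, nat_lit 2, nat_lit 0, nat_lit 1, nat_lit 2, nat_lit 1, nat_lit 3, nat_lit 4, nat_lit 3, nat_lit 5]], Fw4, (nat_lit 4)⟩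
noncomputable def Fw5d : BT := (.node (.node (.node (.leaf (nat_lit 0)) (.leaf (nat_lit 0x880000000000000000000000000000000000000000000000000000000000000000000000000000000000000000000000000000000000000000000000000000000000000000000000000000000000000000000000000000000000000000000000000000000000000000000000000000000000000000000000000000000000000000000000000000000000000000000000000000000000000000000000000000000000000000000000000000000000000000000000000000000000000000000000000000000000000000000000000000000000000000000000000018000000000000000000000000000000000000000000))) (.node (.leaf (nat_lit 0)) (.leaf (nat_lit 0x20000000000000000000000000000000000000000000000000000000000000000000000000000000000000000000000000000000000000000000000000000000000000000000000000000000000000000000000000000000000000000000000000000000000000000000000000000000000000000000000000000000000000000000000000000000000000000000000000000000000000000000000000000000000000000000000000000000000000000000000000000000000000000000000000000000000000000000000000000000000000000000000000000000000000000000000000000000000000000000000000000000000000000000000000000000000000000000000))))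 (.node (.node (.leaf (nat_lit 0)) (.leaf (nat_lit 0xb0000000000000000000000000))) (.leaf (nat_lit 0))))
noncomputable def Fw5 (u : ℕ) : ℕ := force (Nat.shiftRight u (nat_lit 9)) fun j => Nat.land (Nat.shiftRight (Fw5d.get j) (Nat.mul (Nat.land u (nat_lit 511)) (nat_lit 5))) (nat_lit 31)
noncomputable def lw5 : Lv := ⟨(nat_lit 3), (nat_lit 3493), (nat_lit 4), (nat_lit 6), [[nat_lit 3, nat_lit 4, nat_lit 6, nat_lit 8, nat_lit 2, nat_lit 3, nat_lit 2, nat_lit 1, nat_lit 5, nat_lit 2, nat_lit 5, nat_lit 3, nat_lit 1, nat_lit 2, nat_lit 7, nat_lit 4, nat_lit 0, nat_lit 1, nat_lit 2, nat_lit 8, nat_lit 3, nat_lit 5, nat_lit 0, nat_lit 1, nat_lit 2, nat_lit 3, nat_lit 5, nat_lit 2, nat_lit 1, nat_lit 0, nat_lit 8, nat_lit 2, nat_lit 1, nat_lit 0, nat_lit 7, nat_lit 2, nat_lit 5, nat_lit 2, nat_lit 3, nat_lit 4, nat_lit 6, nat_lit 2, nat_lit 3, nat_lit 5, nat_lit 7, nat_lit 0, nat_lit 1, nat_lit 2, nat_lit 8, nat_lit 3, nat_lit 5, nat_lit 0, nat_lit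 1, nat_lit 2, nat_lit 3, nat_lit 5, nat_lit 2, nat_lit 1, nat_lit 0, nat_lit 8, nat_lit 2, nat_lit 1, nat_lit 2, nat_lit 1, nat_lit 5, nat_lit 7, nat_lit 2, nat_lit 3, nat_lit 4, nat_lit 6, nat_lit 4, nat_lit 3, nat_lit 2, nat_lit 7, nat_lit 5, nat_lit 1, nat_lit 2, nat_lit 7, nat_lit 5, nat_lit 0, nat_lit 1, nat_lit 2, nat_lit 3, nat_lit 2, nat_lit 1, nat_lit 5, nat_lit 2, nat_lit 0, nat_lit 1, nat_lit 2, nat_lit 1, nat_lit 3, nat_lit 4, nat_lit 3, nat_lit 5],
  [nat_lit 3, nat_lit 4, nat_lit 8, nat_lit 2, nat_lit 3, nat_lit 2, nat_lit 1, nat_lit 5, nat_lit 2, nat_lit 5, nat_lit 3, nat_lit 1, nat_lit 2, nat_lit 5, nat_lit 1, nat_lit 6, nat_lit 1, nat_lit 5, nat_lit 7, nat_lit 4, nat_lit 0, nat_lit 1, nat_lit 2, nat_lit 8, nat_lit 3, nat_lit 5, nat_lit 0, nat_lit 1, nat_lit 2, nat_lit 3, nat_lit 5, nat_lit 2, nat_lit 1, nat_lit 0, nat_lit 8, nat_lit 2, nat_lit 1, nat_lit 0, nat_lit 7, nat_lit 2, nat_lit 5, nat_lit 2, nat_lit 3, nat_lit 4,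 nat_lit 6, nat_lit 2, nat_lit 3, nat_lit 5, nat_lit 7, nat_lit 0, nat_lit 1, nat_lit 2, nat_lit 8, nat_lit 3, nat_lit 5, nat_lit 0, nat_lit 1, nat_lit 2, nat_lit 3, nat_lit 5, nat_lit 2, nat_lit 1, nat_lit 0, nat_lit 8, nat_lit 2, nat_lit 1, nat_lit 2, nat_lit 1, nat_lit 5, nat_lit 7, nat_lit 2, nat_lit 3, nat_lit 4, nat_lit 6, nat_lit 4, nat_lit 3, nat_lit 2, nat_lit 7, nat_lit 5, nat_lit 1, nat_lit 2, nat_lit 7, nat_lit 5, nat_lit 0, nat_lit 1, nat_lit 2, nat_lit 3, nat_lit 2, nat_lit 1, nat_lit 5, nat_lit 2, nat_lit 0, nat_lit 1, nat_lit 2, nat_lit 1, nat_lit 3, nat_lit 4, nat_lit 3, nat_lit 5],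
  [nat_lit 5, nat_lit 3, nat_lit 4, nat_lit 8, nat_lit 2, nat_lit 3, nat_lit 2, nat_lit 1, nat_lit 5, nat_lit 2, nat_lit 5, nat_lit 3, nat_lit 1, nat_lit 2, nat_lit 5, nat_lit 1, nat_lit 6, nat_lit 1, nat_lit 7, nat_lit 4, nat_lit 0, nat_lit 1, nat_lit 2, nat_lit 8, nat_lit 3, nat_lit 5, nat_lit 0, nat_lit 1, nat_lit 2, nat_lit 3, nat_lit 5, nat_lit 2, nat_lit 1, nat_lit 0, nat_lit 8, nat_lit 2, nat_lit 1, nat_lit 0, nat_lit 7, nat_lit 2, nat_lit 5, nat_lit 2, nat_lit 3, nat_lit 4, nat_lit 6, nat_lit 2, nat_lit 3, nat_lit 5, nat_lit 7, nat_lit 0, nat_lit 1, nat_lit 2, nat_lit 8, nat_lit 3, nat_lit 5, nat_lit 0, nat_lit 1, nat_lit 2, nat_lit 3, nat_lit 5, nat_lit 2, nat_lit 1, nat_lit 0, nat_lit 8, nat_lit 2, nat_lit 1, nat_lit 2, nat_lit 1, nat_lit 5, nat_lit 7, nat_lit 2, nat_lit 3, nat_lit 4, nat_lit 6, nat_lit 4, nat_lit 3, nat_lit 2, nat_lit 7, nat_lit 5, nat_lit 1, nat_lit 2, nat_lit 7, nat_lit 5, nat_lit 0, nat_lit 1, nat_lit 2, nat_lit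 3, nat_lit 2, nat_lit 1, nat_lit 5, nat_lit 2, nat_lit 0, nat_lit 1, nat_lit 2, nat_lit 1, nat_lit 3, nat_lit 4, nat_lit 3, nat_lit 5],
  [nat_lit 7, nat_lit 3, nat_lit 7, nat_lit 4, nat_lit 8, nat_lit 2, nat_lit 3, nat_lit 2, nat_lit 1, nat_lit 5, nat_lit 2, nat_lit 5, nat_lit 3, nat_lit 1, nat_lit 2, nat_lit 5, nat_lit 1, nat_lit 6, nat_lit 1, nat_lit 5, nat_lit 7, nat_lit 4, nat_lit 0, nat_lit 1, nat_lit 2, nat_lit 8, nat_lit 3, nat_lit 5, nat_lit 0, nat_lit 1, nat_lit 2, nat_lit 3, nat_lit 5, nat_lit 2, nat_lit 1, nat_lit 0, nat_lit 8, nat_lit 2, nat_lit 1, nat_lit 0, nat_lit 7, nat_lit 2, nat_lit 5, nat_lit 2, nat_lit 3, nat_lit 4, nat_lit 6, nat_lit 2, nat_lit 3, nat_lit 5, nat_lit 7, nat_lit 0, nat_lit 1, nat_lit 2, nat_lit 8, nat_lit 3, nat_lit 5, nat_lit 0, nat_lit 1, nat_lit 2, nat_lit 3, nat_lit 5, nat_lit 2, nat_lit 1, nat_lit 0, nat_lit 8, nat_lit 2, nat_lit 1, nat_lit 2, nat_lit 1, nat_lit 5, nat_lit 7, nat_lit 2, nat_lit 3,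 nat_lit 4, nat_lit 6, nat_lit 4, nat_lit 3, nat_lit 2, nat_lit 7, nat_lit 5, nat_lit 1, nat_lit 2, nat_lit 7, nat_lit 5, nat_lit 0, nat_lit 1, nat_lit 2, nat_lit 3, nat_lit 2, nat_lit 1, nat_lit 5, nat_lit 2, nat_lit 0, nat_lit 1, nat_lit 2, nat_lit 1, nat_lit 3, nat_lit 4, nat_lit 3, nat_lit 5],
  [nat_lit 1, nat_lit 4, nat_lit 3, nat_lit 4, nat_lit 8, nat_lit 2, nat_lit 3, nat_lit 2, nat_lit 1, nat_lit 5, nat_lit 2, nat_lit 5, nat_lit 3, nat_lit 1, nat_lit 2, nat_lit 5, nat_lit 1, nat_lit 6, nat_lit 3, nat_lit 5, nat_lit 7, nat_lit 4, nat_lit 0, nat_lit 1, nat_lit 2, nat_lit 8, nat_lit 3, nat_lit 5, nat_lit 0, nat_lit 1, nat_lit 2, nat_lit 3, nat_lit 5, nat_lit 2, nat_lit 1, nat_lit 0, nat_lit 8, nat_lit 2, nat_lit 1, nat_lit 0, nat_lit 7, nat_lit 2, nat_lit 5, nat_lit 2, nat_lit 3, nat_lit 4, nat_lit 6, nat_lit 2, nat_lit 3, nat_lit 5, nat_lit 7, nat_lit 0, nat_lit 1, nat_lit 2, nat_lit 8, nat_lit 3, nat_lit 5, nat_lit 0, nat_lit 1, nat_lit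 2, nat_lit 3, nat_lit 5, nat_lit 2, nat_lit 1, nat_lit 0, nat_lit 8, nat_lit 2, nat_lit 1, nat_lit 2, nat_lit 1, nat_lit 5, nat_lit 7, nat_lit 2, nat_lit 3, nat_lit 4, nat_lit 6, nat_lit 4, nat_lit 3, nat_lit 2, nat_lit 7, nat_lit 5, nat_lit 1, nat_lit 2, nat_lit 7, nat_lit 5, nat_lit 0, nat_lit 1, nat_lit 2, nat_lit 3, nat_lit 2, nat_lit 1, nat_lit 5, nat_lit 2, nat_lit 0, nat_lit 1, nat_lit 2, nat_lit 1, nat_lit 3, nat_lit 4, nat_lit 3, nat_lit 5],
  [nat_lit 6, nat_lit 1, nat_lit 3, nat_lit 7, nat_lit 2, nat_lit 3, nat_lit 2, nat_lit 3, nat_lit 4, nat_lit 6, nat_lit 2, nat_lit 3, nat_lit 4, nat_lit 0, nat_lit 1, nat_lit 2, nat_lit 8, nat_lit 3, nat_lit 5, nat_lit 0, nat_lit 1, nat_lit 2, nat_lit 3, nat_lit 5, nat_lit 2, nat_lit 1, nat_lit 0, nat_lit 8, nat_lit 2, nat_lit 1, nat_lit 0, nat_lit 4, nat_lit 6, nat_lit 3, nat_lit 4, nat_lit 2, nat_lit 1, nat_lit 5, nat_lit 7, nat_lit 2, nat_lit 3, nat_lit 4, nat_lit 6, nat_lit 4, nat_lit 3,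 nat_lit 2, nat_lit 7, nat_lit 5, nat_lit 1, nat_lit 2, nat_lit 7, nat_lit 5, nat_lit 3, nat_lit 2, nat_lit 1, nat_lit 0, nat_lit 1, nat_lit 2, nat_lit 8, nat_lit 1, nat_lit 2, nat_lit 8, nat_lit 2, nat_lit 3, nat_lit 5, nat_lit 7, nat_lit 2, nat_lit 1, nat_lit 5, nat_lit 7, nat_lit 2, nat_lit 3, nat_lit 4, nat_lit 6, nat_lit 4, nat_lit 3, nat_lit 2, nat_lit 7, nat_lit 5, nat_lit 1, nat_lit 2, nat_lit 4, nat_lit 3, nat_lit 6, nat_lit 4, nat_lit 0, nat_lit 1, nat_lit 2, nat_lit 8, nat_lit 3, nat_lit 5, nat_lit 0, nat_lit 1, nat_lit 2, nat_lit 3, nat_lit 5, nat_lit 2, nat_lit 1, nat_lit 0, nat_lit 8, nat_lit 2, nat_lit 1, nat_lit 0, nat_lit 4, nat_lit 3, nat_lit 6, nat_lit 4, nat_lit 7, nat_lit 6]], Fw5, (nat_lit 3)⟩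
noncomputable def LLw : List Lv := [lw0, lw1, lw2, lw3, lw4, lw5]
noncomputable def Accw : List (List ℕ) := [[],
  [nat_lit 6, nat_lit 4],
  [nat_lit 4, nat_lit 6],
  [nat_lit 8, nat_lit 2, nat_lit 3, nat_lit 2, nat_lit 1, nat_lit 5, nat_lit 2, nat_lit 5, nat_lit 3, nat_lit 1, nat_lit 2, nat_lit 5, nat_lit 1, nat_lit 6, nat_lit 0, nat_lit 1, nat_lit 2, nat_lit 5, nat_lit 8, nat_lit 0, nat_lit 1, nat_lit 2, nat_lit 3, nat_lit 2, nat_lit 1, nat_lit 5, nat_lit 2, nat_lit 0, nat_lit 1, nat_lit 8, nat_lit 0, nat_lit 4, nat_lit 3, nat_lit 6, nat_lit 4, nat_lit 0, nat_lit 1, nat_lit 2, nat_lit 8, nat_lit 3, nat_lit 5, nat_lit 0, nat_lit 1, nat_lit 2, nat_lit 3, nat_lit 5, nat_lit 2, nat_lit 1, nat_lit 0, nat_lit 8, nat_lit 2, nat_lit 1, nat_lit 0, nat_lit 4, nat_lit 3, nat_lit 6, nat_lit 4, nat_lit 5, nat_lit 2, nat_lit 3, nat_lit 5, nat_lit 1, nat_lit 5, nat_lit 7, nat_lit 2, nat_lit 5, nat_lit 2, nat_lit 3, nat_lit 4, nat_lit 5, nat_lit 2, nat_lit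 3, nat_lit 2, nat_lit 5, nat_lit 1, nat_lit 2, nat_lit 4, nat_lit 6, nat_lit 4, nat_lit 2, nat_lit 1, nat_lit 3, nat_lit 4, nat_lit 0, nat_lit 1, nat_lit 2, nat_lit 3, nat_lit 4, nat_lit 6, nat_lit 0, nat_lit 1, nat_lit 8, nat_lit 2, nat_lit 5, nat_lit 7, nat_lit 2, nat_lit 3, nat_lit 5, nat_lit 7, nat_lit 2, nat_lit 5, nat_lit 0, nat_lit 1, nat_lit 2, nat_lit 3, nat_lit 4, nat_lit 6, nat_lit 0, nat_lit 8, nat_lit 0, nat_lit 1, nat_lit 2, nat_lit 5, nat_lit 1, nat_lit 2, nat_lit 3, nat_lit 4, nat_lit 6, nat_lit 0, nat_lit 8, nat_lit 2, nat_lit 3, nat_lit 2, nat_lit 1, nat_lit 5, nat_lit 2, nat_lit 5, nat_lit 3, nat_lit 1, nat_lit 2, nat_lit 5, nat_lit 1, nat_lit 6, nat_lit 0, nat_lit 1, nat_lit 2, nat_lit 5, nat_lit 8, nat_lit 0, nat_lit 1, nat_lit 2, nat_lit 3, nat_lit 2, nat_lit 1, nat_lit 5, nat_lit 2, nat_lit 0, nat_lit 1, nat_lit 8, nat_lit 0, nat_lit 3],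
  [nat_lit 4, nat_lit 3, nat_lit 2, nat_lit 1, nat_lit 4, nat_lit 5, nat_lit 2, nat_lit 3, nat_lit 2, nat_lit 5, nat_lit 1, nat_lit 2, nat_lit 4, nat_lit 6, nat_lit 4, nat_lit 3, nat_lit 4, nat_lit 2, nat_lit 1, nat_lit 5, nat_lit 2, nat_lit 3, nat_lit 2, nat_lit 5, nat_lit 4, nat_lit 1, nat_lit 2, nat_lit 5, nat_lit 1, nat_lit 6, nat_lit 2, nat_lit 3, nat_lit 4, nat_lit 7, nat_lit 2, nat_lit 3, nat_lit 4, nat_lit 6, nat_lit 2, nat_lit 3, nat_lit 4, nat_lit 5, nat_lit 2, nat_lit 3, nat_lit 2, nat_lit 1, nat_lit 2, nat_lit 3, nat_lit 5, nat_lit 2, nat_lit 4, nat_lit 6, nat_lit 3, nat_lit 4, nat_lit 5, nat_lit 4, nat_lit 0, nat_lit 1, nat_lit 2, nat_lit 8, nat_lit 3, nat_lit 5, nat_lit 0, nat_lit 1, nat_lit 2, nat_lit 3, nat_lit 5, nat_lit 2, nat_lit 1, nat_lit 0, nat_lit 8, nat_lit 2, nat_lit 1, nat_lit 0, nat_lit 4, nat_lit 6, nat_lit 5, nat_lit 3, nat_lit 1, nat_lit 5, nat_lit 2, nat_lit 3, nat_lit 2, nat_lit 5, nat_lit 4, nat_lit 1, nat_lit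 2, nat_lit 0, nat_lit 1, nat_lit 2, nat_lit 8, nat_lit 0, nat_lit 1, nat_lit 2, nat_lit 5, nat_lit 3, nat_lit 2, nat_lit 1, nat_lit 0, nat_lit 5, nat_lit 3, nat_lit 8, nat_lit 2, nat_lit 1, nat_lit 0, nat_lit 7, nat_lit 5, nat_lit 3, nat_lit 2, nat_lit 6, nat_lit 4, nat_lit 3, nat_lit 2, nat_lit 5, nat_lit 2, nat_lit 0, nat_lit 1, nat_lit 8, nat_lit 2, nat_lit 5, nat_lit 7, nat_lit 2, nat_lit 3, nat_lit 4, nat_lit 6, nat_lit 2, nat_lit 1, nat_lit 5, nat_lit 7, nat_lit 0, nat_lit 1, nat_lit 8, nat_lit 2, nat_lit 1, nat_lit 3, nat_lit 2, nat_lit 3, nat_lit 4, nat_lit 6, nat_lit 0, nat_lit 1, nat_lit 2, nat_lit 1, nat_lit 3, nat_lit 4, nat_lit 0, nat_lit 1, nat_lit 8, nat_lit 0, nat_lit 1, nat_lit 2, nat_lit 3, nat_lit 0, nat_lit 4, nat_lit 5],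
  [nat_lit 2, nat_lit 8, nat_lit 6, nat_lit 6, nat_lit 4, nat_lit 3, nat_lit 2, nat_lit 1, nat_lit 4, nat_lit 5, nat_lit 2, nat_lit 3, nat_lit 2, nat_lit 5, nat_lit 1, nat_lit 2, nat_lit 4, nat_lit 6, nat_lit 4, nat_lit 3, nat_lit 4, nat_lit 2, nat_lit 1, nat_lit 5, nat_lit 2, nat_lit 3, nat_lit 2, nat_lit 5, nat_lit 4, nat_lit 1, nat_lit 2, nat_lit 5, nat_lit 4, nat_lit 3, nat_lit 6, nat_lit 4, nat_lit 0, nat_lit 1, nat_lit 2, nat_lit 8, nat_lit 3, nat_lit 5, nat_lit 0, nat_lit 1, nat_lit 2, nat_lit 3, nat_lit 5, nat_lit 2, nat_lit 1, nat_lit 0, nat_lit 8, nat_lit 2, nat_lit 1, nat_lit 0, nat_lit 4, nat_lit 3, nat_lit 6, nat_lit 4, nat_lit 7, nat_lit 2, nat_lit 3, nat_lit 2, nat_lit 3, nat_lit 4, nat_lit 6, nat_lit 2, nat_lit 3, nat_lit 4, nat_lit 0, nat_lit 1, nat_lit 2, nat_lit 8, nat_lit 3, nat_lit 5, nat_lit 0, nat_lit 1, nat_lit 2, nat_lit 3, nat_lit 5, nat_lit 2, nat_lit 1, nat_lit 0, nat_lit 8, nat_lit 2, nat_lit 1, nat_lit 0, nat_lit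 4, nat_lit 6, nat_lit 3, nat_lit 0, nat_lit 1, nat_lit 2, nat_lit 8, nat_lit 3, nat_lit 5, nat_lit 0, nat_lit 1, nat_lit 2, nat_lit 3, nat_lit 5, nat_lit 2, nat_lit 1, nat_lit 0, nat_lit 8, nat_lit 2, nat_lit 1, nat_lit 0, nat_lit 7, nat_lit 2, nat_lit 1, nat_lit 4, nat_lit 5, nat_lit 2, nat_lit 3, nat_lit 2, nat_lit 5, nat_lit 1, nat_lit 2, nat_lit 6, nat_lit 0, nat_lit 1, nat_lit 8, nat_lit 0, nat_lit 2, nat_lit 1, nat_lit 5, nat_lit 7, nat_lit 0, nat_lit 1, nat_lit 2, nat_lit 3, nat_lit 4, nat_lit 6, nat_lit 0, nat_lit 8, nat_lit 0, nat_lit 1, nat_lit 2, nat_lit 5, nat_lit 1, nat_lit 2, nat_lit 3, nat_lit 4, nat_lit 6, nat_lit 0, nat_lit 1, nat_lit 8, nat_lit 2, nat_lit 3, nat_lit 5, nat_lit 1, nat_lit 5, nat_lit 7, nat_lit 2, nat_lit 5, nat_lit 2, nat_lit 3, nat_lit 1, nat_lit 2, nat_lit 4, nat_lit 3],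
  [nat_lit 3, nat_lit 1, nat_lit 0, nat_lit 8, nat_lit 6, nat_lit 0, nat_lit 1, nat_lit 2, nat_lit 5, nat_lit 8, nat_lit 0, nat_lit 1, nat_lit 2, nat_lit 3, nat_lit 2, nat_lit 1, nat_lit 5, nat_lit 2, nat_lit 0, nat_lit 1, nat_lit 8, nat_lit 0, nat_lit 4, nat_lit 3, nat_lit 6, nat_lit 4, nat_lit 0, nat_lit 1, nat_lit 2, nat_lit 8, nat_lit 3, nat_lit 5, nat_lit 0, nat_lit 1, nat_lit 2, nat_lit 3, nat_lit 5, nat_lit 2, nat_lit 1, nat_lit 0, nat_lit 8, nat_lit 2, nat_lit 1, nat_lit 0, nat_lit 4, nat_lit 3, nat_lit 6, nat_lit 4, nat_lit 5, nat_lit 7, nat_lit 4, nat_lit 3, nat_lit 2, nat_lit 1, nat_lit 4, nat_lit 5, nat_lit 2, nat_lit 3, nat_lit 2, nat_lit 5, nat_lit 1, nat_lit 2, nat_lit 4, nat_lit 6, nat_lit 4, nat_lit 3, nat_lit 4, nat_lit 2, nat_lit 1, nat_lit 5, nat_lit 2, nat_lit 3, nat_lit 2, nat_lit 5, nat_lit 4, nat_lit 1, nat_lit 2, nat_lit 5, nat_lit 1, nat_lit 6, nat_lit 2, nat_lit 1, nat_lit 3, nat_lit 4, nat_lit 5, nat_lit 7, nat_lit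 2, nat_lit 3, nat_lit 4, nat_lit 6, nat_lit 2, nat_lit 3, nat_lit 4, nat_lit 5, nat_lit 2, nat_lit 3, nat_lit 2, nat_lit 7, nat_lit 5, nat_lit 1, nat_lit 3, nat_lit 5, nat_lit 7, nat_lit 0, nat_lit 1, nat_lit 2, nat_lit 8, nat_lit 3, nat_lit 5, nat_lit 0, nat_lit 1, nat_lit 2, nat_lit 3, nat_lit 5, nat_lit 2, nat_lit 1, nat_lit 0, nat_lit 8, nat_lit 2, nat_lit 1, nat_lit 0, nat_lit 2, nat_lit 1, nat_lit 2, nat_lit 3, nat_lit 4, nat_lit 6, nat_lit 2, nat_lit 3, nat_lit 4, nat_lit 2, nat_lit 1, nat_lit 3, nat_lit 4, nat_lit 2, nat_lit 0, nat_lit 1, nat_lit 2, nat_lit 8, nat_lit 0],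
  [nat_lit 8, nat_lit 6, nat_lit 0, nat_lit 1, nat_lit 8, nat_lit 4, nat_lit 3, nat_lit 2, nat_lit 1, nat_lit 4, nat_lit 5, nat_lit 2, nat_lit 3, nat_lit 2, nat_lit 5, nat_lit 1, nat_lit 2, nat_lit 4, nat_lit 6, nat_lit 4, nat_lit 3, nat_lit 4, nat_lit 2, nat_lit 1, nat_lit 5, nat_lit 2, nat_lit 3, nat_lit 2, nat_lit 5, nat_lit 4, nat_lit 1, nat_lit 2, nat_lit 5, nat_lit 1, nat_lit 6, nat_lit 1, nat_lit 3, nat_lit 7, nat_lit 4, nat_lit 6, nat_lit 0, nat_lit 8, nat_lit 0, nat_lit 1, nat_lit 2, nat_lit 3, nat_lit 4, nat_lit 0, nat_lit 1, nat_lit 8, nat_lit 2, nat_lit 5, nat_lit 7, nat_lit 2, nat_lit 3, nat_lit 4, nat_lit 6, nat_lit 2, nat_lit 1, nat_lit 5, nat_lit 7, nat_lit 3, nat_lit 2, nat_lit 1, nat_lit 0, nat_lit 8, nat_lit 0, nat_lit 3, nat_lit 2, nat_lit 1, nat_lit 0, nat_lit 2, nat_lit 1, nat_lit 5, nat_lit 7, nat_lit 0, nat_lit 1, nat_lit 2, nat_lit 3, nat_lit 2, nat_lit 1, nat_lit 5, nat_lit 2, nat_lit 0, nat_lit 1, nat_lit 0, nat_lit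 1, nat_lit 2, nat_lit 5, nat_lit 7, nat_lit 2, nat_lit 1, nat_lit 5, nat_lit 7, nat_lit 2, nat_lit 3, nat_lit 4, nat_lit 6, nat_lit 4, nat_lit 3, nat_lit 2, nat_lit 7, nat_lit 5, nat_lit 1, nat_lit 2, nat_lit 0, nat_lit 1, nat_lit 2, nat_lit 3, nat_lit 0, nat_lit 8, nat_lit 2, nat_lit 1, nat_lit 5, nat_lit 2, nat_lit 3, nat_lit 5, nat_lit 7, nat_lit 4, nat_lit 3, nat_lit 2, nat_lit 7, nat_lit 5, nat_lit 1, nat_lit 2, nat_lit 0, nat_lit 8],
  [nat_lit 2, nat_lit 8, nat_lit 4, nat_lit 3, nat_lit 2, nat_lit 1, nat_lit 4, nat_lit 5, nat_lit 2, nat_lit 3, nat_lit 2, nat_lit 5, nat_lit 1, nat_lit 2, nat_lit 4, nat_lit 6, nat_lit 4, nat_lit 3, nat_lit 4, nat_lit 2, nat_lit 1, nat_lit 5, nat_lit 2, nat_lit 3, nat_lit 2, nat_lit 5, nat_lit 4, nat_lit 1, nat_lit 2, nat_lit 5, nat_lit 3, nat_lit 5, nat_lit 7, nat_lit 2, nat_lit 3, nat_lit 2, nat_lit 3, nat_lit 4, nat_lit 6, nat_lit 2, nat_lit 3, nat_lit 4, nat_lit 0, nat_lit 1, nat_lit 2, nat_lit 8,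 nat_lit 3, nat_lit 5, nat_lit 0, nat_lit 1, nat_lit 2, nat_lit 3, nat_lit 5, nat_lit 2, nat_lit 1, nat_lit 0, nat_lit 8, nat_lit 2, nat_lit 1, nat_lit 0, nat_lit 4, nat_lit 6, nat_lit 3, nat_lit 4, nat_lit 2, nat_lit 5, nat_lit 2, nat_lit 5, nat_lit 2, nat_lit 3, nat_lit 4, nat_lit 6, nat_lit 0, nat_lit 1, nat_lit 2, nat_lit 8, nat_lit 3, nat_lit 5, nat_lit 0, nat_lit 1, nat_lit 2, nat_lit 3, nat_lit 5, nat_lit 2, nat_lit 1, nat_lit 0, nat_lit 8, nat_lit 2, nat_lit 1, nat_lit 0, nat_lit 7, nat_lit 5, nat_lit 4, nat_lit 2, nat_lit 3, nat_lit 5, nat_lit 7, nat_lit 0, nat_lit 1, nat_lit 2, nat_lit 1, nat_lit 3, nat_lit 4, nat_lit 2, nat_lit 1, nat_lit 5, nat_lit 7, nat_lit 2, nat_lit 5, nat_lit 0, nat_lit 1, nat_lit 2, nat_lit 3, nat_lit 4, nat_lit 6, nat_lit 2, nat_lit 1, nat_lit 3, nat_lit 5, nat_lit 0, nat_lit 1, nat_lit 2, nat_lit 7, nat_lit 5, nat_lit 2, nat_lit 1, nat_lit 0, nat_lit 4, nat_lit 3, nat_lit 1, nat_lit 2, nat_lit 8, nat_lit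 2, nat_lit 5, nat_lit 7, nat_lit 2, nat_lit 3, nat_lit 4, nat_lit 5, nat_lit 2, nat_lit 3, nat_lit 0, nat_lit 8, nat_lit 0, nat_lit 1, nat_lit 2, nat_lit 5, nat_lit 1, nat_lit 2, nat_lit 3, nat_lit 4],
  [nat_lit 2, nat_lit 5, nat_lit 8, nat_lit 4, nat_lit 3, nat_lit 2, nat_lit 1, nat_lit 4, nat_lit 5, nat_lit 2, nat_lit 3, nat_lit 2, nat_lit 5, nat_lit 1, nat_lit 2, nat_lit 4, nat_lit 6, nat_lit 4, nat_lit 3, nat_lit 4, nat_lit 2, nat_lit 1, nat_lit 5, nat_lit 2, nat_lit 3, nat_lit 2, nat_lit 5, nat_lit 4, nat_lit 1, nat_lit 2, nat_lit 7, nat_lit 5, nat_lit 7, nat_lit 2, nat_lit 3, nat_lit 2, nat_lit 3, nat_lit 4, nat_lit 6, nat_lit 2, nat_lit 3, nat_lit 4, nat_lit 0, nat_lit 1, nat_lit 2, nat_lit 8, nat_lit 3, nat_lit 5, nat_lit 0, nat_lit 1, nat_lit 2, nat_lit 3, nat_lit 5, nat_lit 2, nat_lit 1, nat_lit 0, nat_lit 8, nat_lit 2, nat_lit 1, nat_lit 0, nat_lit 4, nat_lit 6, nat_lit 3, nat_lit 0, nat_lit 1, nat_lit 2, nat_lit 8, nat_lit 0,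 nat_lit 1, nat_lit 2, nat_lit 5, nat_lit 3, nat_lit 2, nat_lit 1, nat_lit 0, nat_lit 5, nat_lit 3, nat_lit 8, nat_lit 2, nat_lit 1, nat_lit 0, nat_lit 7, nat_lit 6, nat_lit 4, nat_lit 2, nat_lit 1, nat_lit 5, nat_lit 2, nat_lit 3, nat_lit 2, nat_lit 5, nat_lit 4, nat_lit 1, nat_lit 3, nat_lit 0, nat_lit 1, nat_lit 2, nat_lit 1, nat_lit 3, nat_lit 4, nat_lit 2, nat_lit 1, nat_lit 5, nat_lit 7, nat_lit 2, nat_lit 5, nat_lit 0, nat_lit 1, nat_lit 8, nat_lit 2, nat_lit 5, nat_lit 2, nat_lit 3, nat_lit 4, nat_lit 6, nat_lit 0, nat_lit 1, nat_lit 2, nat_lit 8, nat_lit 3, nat_lit 5, nat_lit 0, nat_lit 1, nat_lit 2, nat_lit 3, nat_lit 5, nat_lit 2, nat_lit 1, nat_lit 0, nat_lit 8, nat_lit 2, nat_lit 1, nat_lit 0, nat_lit 7, nat_lit 5, nat_lit 2, nat_lit 3, nat_lit 4, nat_lit 7, nat_lit 2, nat_lit 3, nat_lit 4, nat_lit 6, nat_lit 2, nat_lit 3, nat_lit 4, nat_lit 5, nat_lit 2, nat_lit 3, nat_lit 2, nat_lit 1],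
  [nat_lit 4, nat_lit 3, nat_lit 2, nat_lit 1, nat_lit 4, nat_lit 5, nat_lit 2, nat_lit 3, nat_lit 2, nat_lit 5, nat_lit 1, nat_lit 2, nat_lit 4, nat_lit 6, nat_lit 4, nat_lit 3, nat_lit 4, nat_lit 2, nat_lit 1, nat_lit 5, nat_lit 2, nat_lit 3, nat_lit 2, nat_lit 5, nat_lit 4, nat_lit 1, nat_lit 2, nat_lit 5, nat_lit 2, nat_lit 3, nat_lit 4, nat_lit 7, nat_lit 2, nat_lit 3, nat_lit 4, nat_lit 6, nat_lit 2, nat_lit 3, nat_lit 4, nat_lit 5, nat_lit 2, nat_lit 3, nat_lit 2, nat_lit 1, nat_lit 2, nat_lit 3, nat_lit 5, nat_lit 2, nat_lit 4, nat_lit 6, nat_lit 3, nat_lit 4, nat_lit 5, nat_lit 2, nat_lit 1, nat_lit 4, nat_lit 5, nat_lit 2, nat_lit 3, nat_lit 2, nat_lit 5, nat_lit 1, nat_lit 2, nat_lit 4, nat_lit 6, nat_lit 4, nat_lit 2, nat_lit 1, nat_lit 3, nat_lit 4, nat_lit 2, nat_lit 3, nat_lit 4, nat_lit 6, nat_lit 0, nat_lit 1, nat_lit 2, nat_lit 8, nat_lit 3, nat_lit 5, nat_lit 0, nat_lit 1, nat_lit 2, nat_lit 3, nat_lit 5, nat_lit 2, nat_lit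 1, nat_lit 0, nat_lit 8, nat_lit 2, nat_lit 1, nat_lit 0, nat_lit 2, nat_lit 3, nat_lit 5, nat_lit 7, nat_lit 2, nat_lit 3, nat_lit 4, nat_lit 5, nat_lit 2, nat_lit 1, nat_lit 0, nat_lit 1, nat_lit 2, nat_lit 3, nat_lit 4, nat_lit 6, nat_lit 0, nat_lit 1, nat_lit 2, nat_lit 5, nat_lit 7, nat_lit 0, nat_lit 1, nat_lit 2, nat_lit 3, nat_lit 0, nat_lit 1, nat_lit 2, nat_lit 5, nat_lit 0, nat_lit 1, nat_lit 0, nat_lit 1, nat_lit 2, nat_lit 3, nat_lit 2, nat_lit 1, nat_lit 3, nat_lit 4, nat_lit 3, nat_lit 4, nat_lit 2, nat_lit 5, nat_lit 7, nat_lit 2, nat_lit 3, nat_lit 1, nat_lit 2, nat_lit 7, nat_lit 2],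
  [nat_lit 8, nat_lit 0, nat_lit 4, nat_lit 3, nat_lit 2, nat_lit 1, nat_lit 4, nat_lit 5, nat_lit 2, nat_lit 3, nat_lit 2, nat_lit 5, nat_lit 1, nat_lit 2, nat_lit 4, nat_lit 6, nat_lit 4, nat_lit 3, nat_lit 4, nat_lit 2, nat_lit 1, nat_lit 5, nat_lit 2, nat_lit 3, nat_lit 2, nat_lit 5, nat_lit 4, nat_lit 1, nat_lit 2, nat_lit 5, nat_lit 1, nat_lit 6, nat_lit 3, nat_lit 7, nat_lit 5, nat_lit 2, nat_lit 3, nat_lit 5, nat_lit 1, nat_lit 5, nat_lit 7, nat_lit 2, nat_lit 5, nat_lit 2, nat_lit 3, nat_lit 1, nat_lit 2, nat_lit 4, nat_lit 3, nat_lit 6, nat_lit 4, nat_lit 0, nat_lit 1, nat_lit 2, nat_lit 8, nat_lit 3, nat_lit 5, nat_lit 0, nat_lit 1, nat_lit 2, nat_lit 3, nat_lit 5, nat_lit 2, nat_lit 1, nat_lit 0, nat_lit 8, nat_lit 2, nat_lit 1, nat_lit 0, nat_lit 4, nat_lit 3, nat_lit 6, nat_lit 4, nat_lit 2, nat_lit 1, nat_lit 4, nat_lit 5, nat_lit 2, nat_lit 3, nat_lit 2, nat_lit 5, nat_lit 1, nat_lit 2, nat_lit 4, nat_lit 6, nat_lit 2, nat_lit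 1, nat_lit 5, nat_lit 7, nat_lit 2, nat_lit 0, nat_lit 1, nat_lit 2, nat_lit 8, nat_lit 3, nat_lit 5, nat_lit 0, nat_lit 1, nat_lit 2, nat_lit 3, nat_lit 5, nat_lit 2, nat_lit 1, nat_lit 0, nat_lit 8, nat_lit 2, nat_lit 8, nat_lit 2, nat_lit 5, nat_lit 7, nat_lit 2, nat_lit 3, nat_lit 4, nat_lit 6, nat_lit 2, nat_lit 1, nat_lit 5, nat_lit 7, nat_lit 0, nat_lit 1, nat_lit 8, nat_lit 0, nat_lit 1, nat_lit 2, nat_lit 3, nat_lit 4, nat_lit 0, nat_lit 1, nat_lit 2, nat_lit 3, nat_lit 0, nat_lit 1, nat_lit 2, nat_lit 5, nat_lit 2, nat_lit 1, nat_lit 5, nat_lit 2, nat_lit 3, nat_lit 5, nat_lit 7, nat_lit 4, nat_lit 3, nat_lit 2, nat_lit 7, nat_lit 5, nat_lit 1, nat_lit 2],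
  [nat_lit 4, nat_lit 3, nat_lit 2, nat_lit 1, nat_lit 4, nat_lit 5, nat_lit 2, nat_lit 3, nat_lit 2, nat_lit 5, nat_lit 1, nat_lit 2, nat_lit 4, nat_lit 6, nat_lit 4, nat_lit 3, nat_lit 4, nat_lit 2, nat_lit 1, nat_lit 5, nat_lit 2, nat_lit 3, nat_lit 2, nat_lit 5, nat_lit 4, nat_lit 1, nat_lit 2, nat_lit 5, nat_lit 7, nat_lit 4, nat_lit 0, nat_lit 1, nat_lit 2, nat_lit 8, nat_lit 3, nat_lit 5, nat_lit 0, nat_lit 1, nat_lit 2, nat_lit 3, nat_lit 5, nat_lit 2, nat_lit 1, nat_lit 0, nat_lit 8, nat_lit 2, nat_lit 1, nat_lit 0, nat_lit 2, nat_lit 1, nat_lit 2, nat_lit 3, nat_lit 4, nat_lit 6, nat_lit 0, nat_lit 1, nat_lit 2, nat_lit 8, nat_lit 3, nat_lit 5, nat_lit 0, nat_lit 1, nat_lit 2, nat_lit 3, nat_lit 5, nat_lit 2, nat_lit 1, nat_lit 0, nat_lit 8, nat_lit 2, nat_lit 1, nat_lit 0, nat_lit 4, nat_lit 3, nat_lit 2, nat_lit 3, nat_lit 5, nat_lit 7, nat_lit 3, nat_lit 2, nat_lit 1, nat_lit 5, nat_lit 2, nat_lit 1, nat_lit 3, nat_lit 0, nat_lit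 1, nat_lit 8, nat_lit 2, nat_lit 5, nat_lit 7, nat_lit 2, nat_lit 3, nat_lit 4, nat_lit 6, nat_lit 2, nat_lit 1, nat_lit 5, nat_lit 7, nat_lit 0, nat_lit 1, nat_lit 8, nat_lit 2, nat_lit 1, nat_lit 3, nat_lit 2, nat_lit 3, nat_lit 4, nat_lit 6, nat_lit 0, nat_lit 1, nat_lit 2, nat_lit 3, nat_lit 4, nat_lit 6, nat_lit 0, nat_lit 1, nat_lit 2, nat_lit 5, nat_lit 7, nat_lit 0, nat_lit 1, nat_lit 2, nat_lit 0, nat_lit 1, nat_lit 8, nat_lit 7, nat_lit 6],
  [nat_lit 2, nat_lit 3, nat_lit 2, nat_lit 1, nat_lit 5, nat_lit 2, nat_lit 5, nat_lit 3, nat_lit 1, nat_lit 2, nat_lit 5, nat_lit 1, nat_lit 6, nat_lit 7, nat_lit 5, nat_lit 2, nat_lit 3, nat_lit 5, nat_lit 1, nat_lit 5, nat_lit 7, nat_lit 2, nat_lit 5, nat_lit 2, nat_lit 3, nat_lit 5, nat_lit 7, nat_lit 2, nat_lit 3, nat_lit 4, nat_lit 6, nat_lit 4, nat_lit 3, nat_lit 2, nat_lit 7, nat_lit 5, nat_lit 1, nat_lit 2, nat_lit 7, nat_lit 5, nat_lit 4, nat_lit 2, nat_lit 1, nat_lit 5, nat_lit 7,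 nat_lit 0, nat_lit 1, nat_lit 2, nat_lit 8, nat_lit 3, nat_lit 5, nat_lit 0, nat_lit 1, nat_lit 2, nat_lit 3, nat_lit 5, nat_lit 2, nat_lit 1, nat_lit 0, nat_lit 8, nat_lit 2, nat_lit 1, nat_lit 0, nat_lit 2, nat_lit 3, nat_lit 4, nat_lit 6, nat_lit 2, nat_lit 3, nat_lit 4, nat_lit 2, nat_lit 1, nat_lit 7, nat_lit 2, nat_lit 3, nat_lit 4, nat_lit 6, nat_lit 2, nat_lit 5, nat_lit 2, nat_lit 1, nat_lit 3, nat_lit 2, nat_lit 3, nat_lit 4, nat_lit 6, nat_lit 8, nat_lit 0, nat_lit 7, nat_lit 5, nat_lit 2, nat_lit 1, nat_lit 0, nat_lit 2, nat_lit 5, nat_lit 1, nat_lit 2, nat_lit 3, nat_lit 2, nat_lit 1, nat_lit 0, nat_lit 4, nat_lit 3, nat_lit 2, nat_lit 1, nat_lit 0, nat_lit 7, nat_lit 5, nat_lit 2, nat_lit 1, nat_lit 0, nat_lit 6, nat_lit 4, nat_lit 3, nat_lit 2, nat_lit 1, nat_lit 0, nat_lit 1, nat_lit 8, nat_lit 5, nat_lit 4, nat_lit 5, nat_lit 7],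
  [nat_lit 2, nat_lit 3, nat_lit 2, nat_lit 1, nat_lit 5, nat_lit 2, nat_lit 5, nat_lit 3, nat_lit 1, nat_lit 2, nat_lit 5, nat_lit 1, nat_lit 6, nat_lit 0, nat_lit 1, nat_lit 2, nat_lit 5, nat_lit 8, nat_lit 0, nat_lit 1, nat_lit 2, nat_lit 3, nat_lit 2, nat_lit 1, nat_lit 5, nat_lit 2, nat_lit 0, nat_lit 1, nat_lit 8, nat_lit 0, nat_lit 4, nat_lit 3, nat_lit 6, nat_lit 4, nat_lit 0, nat_lit 1, nat_lit 2, nat_lit 8, nat_lit 3, nat_lit 5, nat_lit 0, nat_lit 1, nat_lit 2, nat_lit 3, nat_lit 5, nat_lit 2, nat_lit 1, nat_lit 0, nat_lit 8, nat_lit 2, nat_lit 1, nat_lit 0, nat_lit 4, nat_lit 3, nat_lit 6, nat_lit 4, nat_lit 5, nat_lit 7, nat_lit 2, nat_lit 1, nat_lit 4, nat_lit 5, nat_lit 2, nat_lit 3, nat_lit 2, nat_lit 5, nat_lit 1, nat_lit 2, nat_lit 4, nat_lit 6, nat_lit 4, nat_lit 0, nat_lit 1, nat_lit 2, nat_lit 8, nat_lit 1, nat_lit 2, nat_lit 3, nat_lit 4, nat_lit 6, nat_lit 2, nat_lit 1, nat_lit 3, nat_lit 5, nat_lit 0, nat_lit 1, nat_lit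 8, nat_lit 0, nat_lit 2, nat_lit 3, nat_lit 4, nat_lit 5, nat_lit 2, nat_lit 1, nat_lit 0, nat_lit 8, nat_lit 2, nat_lit 8, nat_lit 0, nat_lit 2, nat_lit 1, nat_lit 5, nat_lit 7, nat_lit 0, nat_lit 1, nat_lit 2, nat_lit 3, nat_lit 4, nat_lit 6, nat_lit 2, nat_lit 3, nat_lit 4, nat_lit 5, nat_lit 2, nat_lit 3, nat_lit 4, nat_lit 3, nat_lit 6, nat_lit 0, nat_lit 1, nat_lit 2, nat_lit 8, nat_lit 3, nat_lit 5, nat_lit 0, nat_lit 1, nat_lit 2, nat_lit 3, nat_lit 5, nat_lit 2, nat_lit 1, nat_lit 0, nat_lit 8, nat_lit 1, nat_lit 3, nat_lit 4, nat_lit 0, nat_lit 1, nat_lit 8, nat_lit 0, nat_lit 1, nat_lit 2, nat_lit 3, nat_lit 5, nat_lit 1, nat_lit 0],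
  [nat_lit 4, nat_lit 3, nat_lit 2, nat_lit 1, nat_lit 4, nat_lit 5, nat_lit 2, nat_lit 3, nat_lit 2, nat_lit 5, nat_lit 1, nat_lit 2, nat_lit 4, nat_lit 6, nat_lit 4, nat_lit 3, nat_lit 4, nat_lit 2, nat_lit 1, nat_lit 5, nat_lit 2, nat_lit 3, nat_lit 2, nat_lit 5, nat_lit 4, nat_lit 1, nat_lit 2, nat_lit 5, nat_lit 1, nat_lit 0, nat_lit 1, nat_lit 2, nat_lit 5, nat_lit 8, nat_lit 0, nat_lit 1, nat_lit 2, nat_lit 3, nat_lit 2, nat_lit 1, nat_lit 5, nat_lit 2, nat_lit 0, nat_lit 1, nat_lit 8, nat_lit 0, nat_lit 1, nat_lit 3, nat_lit 2, nat_lit 3, nat_lit 4, nat_lit 7, nat_lit 2, nat_lit 3, nat_lit 4, nat_lit 6, nat_lit 2, nat_lit 3, nat_lit 4, nat_lit 5, nat_lit 2, nat_lit 3, nat_lit 2, nat_lit 1, nat_lit 2, nat_lit 3, nat_lit 5, nat_lit 2, nat_lit 4, nat_lit 6, nat_lit 3, nat_lit 6, nat_lit 4, nat_lit 0, nat_lit 1, nat_lit 2, nat_lit 8, nat_lit 3, nat_lit 5, nat_lit 0, nat_lit 1, nat_lit 2, nat_lit 3, nat_lit 5, nat_lit 2, nat_lit 1, nat_lit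 0, nat_lit 8, nat_lit 2, nat_lit 1, nat_lit 0, nat_lit 7, nat_lit 2, nat_lit 1, nat_lit 4, nat_lit 5, nat_lit 2, nat_lit 3, nat_lit 2, nat_lit 5, nat_lit 1, nat_lit 2, nat_lit 4, nat_lit 6, nat_lit 2, nat_lit 1, nat_lit 3, nat_lit 4, nat_lit 6, nat_lit 0, nat_lit 1, nat_lit 2, nat_lit 5, nat_lit 0, nat_lit 1, nat_lit 8, nat_lit 0, nat_lit 2, nat_lit 3, nat_lit 4, nat_lit 0, nat_lit 1, nat_lit 2, nat_lit 3, nat_lit 4, nat_lit 6, nat_lit 2, nat_lit 1, nat_lit 3, nat_lit 4, nat_lit 2, nat_lit 3, nat_lit 5, nat_lit 7, nat_lit 5, nat_lit 3, nat_lit 2, nat_lit 4, nat_lit 3, nat_lit 1, nat_lit 2, nat_lit 0, nat_lit 1, nat_lit 8, nat_lit 2, nat_lit 3, nat_lit 4, nat_lit 5, nat_lit 2, nat_lit 3, nat_lit 6, nat_lit 0, nat_lit 1, nat_lit 2, nat_lit 5, nat_lit 8, nat_lit 0, nat_lit 1, nat_lit 2, nat_lit 3, nat_lit 2, nat_lit 1, nat_lit 5, nat_lit 2, nat_lit 0, nat_lit 1, nat_lit 8, nat_lit 0, nat_lit 4, nat_lit 6],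
  [nat_lit 8, nat_lit 4, nat_lit 3, nat_lit 2, nat_lit 1, nat_lit 4, nat_lit 5, nat_lit 2, nat_lit 3, nat_lit 2, nat_lit 5, nat_lit 1, nat_lit 2, nat_lit 4, nat_lit 6, nat_lit 4, nat_lit 3, nat_lit 4, nat_lit 2, nat_lit 1, nat_lit 5, nat_lit 2, nat_lit 3, nat_lit 2, nat_lit 5, nat_lit 4, nat_lit 1, nat_lit 2, nat_lit 5, nat_lit 1, nat_lit 6, nat_lit 5, nat_lit 2, nat_lit 3, nat_lit 2, nat_lit 5, nat_lit 7, nat_lit 2, nat_lit 3, nat_lit 4, nat_lit 6, nat_lit 2, nat_lit 3, nat_lit 5, nat_lit 7, nat_lit 2, nat_lit 3, nat_lit 4, nat_lit 0, nat_lit 1, nat_lit 2, nat_lit 8, nat_lit 3, nat_lit 5, nat_lit 0, nat_lit 1, nat_lit 2, nat_lit 3, nat_lit 5, nat_lit 2, nat_lit 1, nat_lit 0, nat_lit 8, nat_lit 2, nat_lit 1, nat_lit 0, nat_lit 2, nat_lit 3, nat_lit 4, nat_lit 6, nat_lit 3, nat_lit 2, nat_lit 5, nat_lit 4, nat_lit 3, nat_lit 2, nat_lit 7, nat_lit 5, nat_lit 4, nat_lit 6, nat_lit 2, nat_lit 5, nat_lit 7, nat_lit 2, nat_lit 3, nat_lit 4, nat_lit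 6, nat_lit 2, nat_lit 1, nat_lit 5, nat_lit 7, nat_lit 0, nat_lit 1, nat_lit 2, nat_lit 8, nat_lit 3, nat_lit 5, nat_lit 0, nat_lit 1, nat_lit 2, nat_lit 3, nat_lit 5, nat_lit 2, nat_lit 1, nat_lit 0, nat_lit 8, nat_lit 2, nat_lit 8, nat_lit 0, nat_lit 2, nat_lit 3, nat_lit 4, nat_lit 2, nat_lit 3, nat_lit 5, nat_lit 7, nat_lit 2, nat_lit 3, nat_lit 4, nat_lit 6, nat_lit 0, nat_lit 1, nat_lit 8, nat_lit 0, nat_lit 2, nat_lit 3, nat_lit 5, nat_lit 2, nat_lit 3, nat_lit 4, nat_lit 6, nat_lit 0, nat_lit 1, nat_lit 8, nat_lit 2, nat_lit 3, nat_lit 4, nat_lit 5, nat_lit 2, nat_lit 3, nat_lit 0, nat_lit 8, nat_lit 0, nat_lit 1, nat_lit 2, nat_lit 5, nat_lit 0, nat_lit 5, nat_lit 6, nat_lit 3, nat_lit 1],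
  [nat_lit 8, nat_lit 4, nat_lit 3, nat_lit 2, nat_lit 1, nat_lit 4, nat_lit 5, nat_lit 2, nat_lit 3, nat_lit 2, nat_lit 5, nat_lit 1, nat_lit 2, nat_lit 4, nat_lit 6, nat_lit 4, nat_lit 3, nat_lit 4, nat_lit 2, nat_lit 1, nat_lit 5, nat_lit 2, nat_lit 3, nat_lit 2, nat_lit 5, nat_lit 4, nat_lit 1, nat_lit 2, nat_lit 5, nat_lit 1, nat_lit 6, nat_lit 0, nat_lit 1, nat_lit 2, nat_lit 5, nat_lit 8, nat_lit 0, nat_lit 1, nat_lit 2, nat_lit 3, nat_lit 2, nat_lit 1, nat_lit 5, nat_lit 2, nat_lit 0, nat_lit 1, nat_lit 8, nat_lit 0, nat_lit 7, nat_lit 5, nat_lit 4, nat_lit 6, nat_lit 0, nat_lit 8, nat_lit 0, nat_lit 1, nat_lit 2, nat_lit 3, nat_lit 4, nat_lit 0, nat_lit 1, nat_lit 8, nat_lit 2, nat_lit 5, nat_lit 7, nat_lit 2, nat_lit 3, nat_lit 4, nat_lit 6, nat_lit 2, nat_lit 1, nat_lit 5, nat_lit 7, nat_lit 3, nat_lit 2, nat_lit 1, nat_lit 0, nat_lit 8, nat_lit 0, nat_lit 3, nat_lit 2, nat_lit 1, nat_lit 0, nat_lit 1, nat_lit 3, nat_lit 5, nat_lit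 2, nat_lit 1, nat_lit 3, nat_lit 5, nat_lit 7, nat_lit 0, nat_lit 1, nat_lit 8, nat_lit 0, nat_lit 2, nat_lit 1, nat_lit 5, nat_lit 7, nat_lit 0, nat_lit 1, nat_lit 2, nat_lit 3, nat_lit 4, nat_lit 6, nat_lit 0, nat_lit 8, nat_lit 0, nat_lit 1, nat_lit 2, nat_lit 5, nat_lit 1, nat_lit 2, nat_lit 3, nat_lit 4, nat_lit 6, nat_lit 0, nat_lit 1, nat_lit 8, nat_lit 2, nat_lit 3, nat_lit 5, nat_lit 1, nat_lit 5, nat_lit 7, nat_lit 2, nat_lit 5, nat_lit 2, nat_lit 3, nat_lit 1, nat_lit 2, nat_lit 6, nat_lit 0, nat_lit 1, nat_lit 2, nat_lit 5, nat_lit 8, nat_lit 0, nat_lit 1, nat_lit 2, nat_lit 3, nat_lit 2, nat_lit 1, nat_lit 5, nat_lit 2, nat_lit 0, nat_lit 1, nat_lit 8, nat_lit 0, nat_lit 1, nat_lit 0, nat_lit 1],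
  [nat_lit 8, nat_lit 0, nat_lit 1, nat_lit 3, nat_lit 2, nat_lit 1, nat_lit 4, nat_lit 5, nat_lit 2, nat_lit 3, nat_lit 2, nat_lit 5, nat_lit 1, nat_lit 2, nat_lit 4, nat_lit 6, nat_lit 4, nat_lit 3, nat_lit 4, nat_lit 2, nat_lit 1, nat_lit 5, nat_lit 2, nat_lit 3, nat_lit 2, nat_lit 5, nat_lit 4, nat_lit 1, nat_lit 2, nat_lit 5, nat_lit 1, nat_lit 0, nat_lit 1, nat_lit 2, nat_lit 5, nat_lit 8, nat_lit 0, nat_lit 1, nat_lit 2, nat_lit 3, nat_lit 2, nat_lit 1, nat_lit 5, nat_lit 2, nat_lit 0, nat_lit 1, nat_lit 8, nat_lit 0, nat_lit 3, nat_lit 5, nat_lit 2, nat_lit 3, nat_lit 4, nat_lit 7, nat_lit 2, nat_lit 3, nat_lit 4, nat_lit 6, nat_lit 2, nat_lit 3, nat_lit 4, nat_lit 5, nat_lit 2, nat_lit 3, nat_lit 2, nat_lit 1, nat_lit 2, nat_lit 3, nat_lit 5, nat_lit 2, nat_lit 4, nat_lit 6, nat_lit 3, nat_lit 4, nat_lit 5, nat_lit 4, nat_lit 0, nat_lit 1, nat_lit 2, nat_lit 8, nat_lit 0, nat_lit 1, nat_lit 2, nat_lit 5, nat_lit 3, nat_lit 2, nat_lit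 1, nat_lit 0, nat_lit 5, nat_lit 3, nat_lit 8, nat_lit 2, nat_lit 1, nat_lit 0, nat_lit 7, nat_lit 6, nat_lit 4, nat_lit 2, nat_lit 1, nat_lit 5, nat_lit 7, nat_lit 2, nat_lit 5, nat_lit 0, nat_lit 1, nat_lit 8, nat_lit 0, nat_lit 2, nat_lit 3, nat_lit 4, nat_lit 0, nat_lit 1, nat_lit 2, nat_lit 5, nat_lit 7, nat_lit 2, nat_lit 1, nat_lit 5, nat_lit 7, nat_lit 2, nat_lit 3, nat_lit 4, nat_lit 6, nat_lit 4, nat_lit 3, nat_lit 2, nat_lit 7, nat_lit 5, nat_lit 1, nat_lit 2, nat_lit 0, nat_lit 1, nat_lit 2, nat_lit 8, nat_lit 0, nat_lit 1, nat_lit 2, nat_lit 5, nat_lit 2, nat_lit 3, nat_lit 2, nat_lit 1, nat_lit 5, nat_lit 2, nat_lit 5, nat_lit 3, nat_lit 1, nat_lit 2, nat_lit 5, nat_lit 1, nat_lit 6],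
  [nat_lit 2, nat_lit 0, nat_lit 7, nat_lit 1, nat_lit 4, nat_lit 2, nat_lit 1, nat_lit 5, nat_lit 2, nat_lit 3, nat_lit 2, nat_lit 5, nat_lit 4, nat_lit 1, nat_lit 2, nat_lit 7, nat_lit 0, nat_lit 1, nat_lit 2, nat_lit 8, nat_lit 0, nat_lit 1, nat_lit 2, nat_lit 5, nat_lit 3, nat_lit 2, nat_lit 1, nat_lit 0, nat_lit 5, nat_lit 3, nat_lit 8, nat_lit 2, nat_lit 1, nat_lit 0, nat_lit 3, nat_lit 2, nat_lit 3, nat_lit 1, nat_lit 2, nat_lit 6, nat_lit 4, nat_lit 0, nat_lit 1, nat_lit 2, nat_lit 8, nat_lit 0, nat_lit 1, nat_lit 2, nat_lit 5, nat_lit 3, nat_lit 2, nat_lit 1, nat_lit 0, nat_lit 5, nat_lit 3, nat_lit 8, nat_lit 2, nat_lit 1, nat_lit 0, nat_lit 4, nat_lit 5, nat_lit 2, nat_lit 6, nat_lit 4, nat_lit 3, nat_lit 2, nat_lit 7, nat_lit 5, nat_lit 2, nat_lit 0, nat_lit 1, nat_lit 8, nat_lit 0, nat_lit 2, nat_lit 3, nat_lit 4, nat_lit 2, nat_lit 3, nat_lit 5, nat_lit 7, nat_lit 2, nat_lit 3, nat_lit 4, nat_lit 6, nat_lit 0, nat_lit 1, nat_lit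 8, nat_lit 0, nat_lit 1, nat_lit 2, nat_lit 3, nat_lit 2, nat_lit 5, nat_lit 1, nat_lit 2, nat_lit 3, nat_lit 2, nat_lit 1, nat_lit 0, nat_lit 2, nat_lit 1, nat_lit 3, nat_lit 4, nat_lit 2, nat_lit 3, nat_lit 5, nat_lit 7, nat_lit 5, nat_lit 3, nat_lit 2, nat_lit 4, nat_lit 3, nat_lit 1, nat_lit 2, nat_lit 5, nat_lit 4, nat_lit 3, nat_lit 2, nat_lit 1, nat_lit 0],
  [nat_lit 2, nat_lit 3, nat_lit 5, nat_lit 0, nat_lit 1, nat_lit 2, nat_lit 8, nat_lit 3, nat_lit 5, nat_lit 0, nat_lit 1, nat_lit 0, nat_lit 8, nat_lit 2, nat_lit 1, nat_lit 0, nat_lit 5, nat_lit 3, nat_lit 2, nat_lit 1, nat_lit 0, nat_lit 2, nat_lit 5, nat_lit 3, nat_lit 2, nat_lit 5, nat_lit 3, nat_lit 4, nat_lit 3, nat_lit 6, nat_lit 4, nat_lit 0, nat_lit 1, nat_lit 2, nat_lit 8, nat_lit 3, nat_lit 5, nat_lit 0, nat_lit 1, nat_lit 2, nat_lit 3, nat_lit 5, nat_lit 2, nat_lit 1, nat_lit 0, nat_lit 8, nat_lit 2, nat_lit 1, nat_lit 0, nat_lit 4, nat_lit 3, nat_lit 6, nat_lit 4,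 nat_lit 3, nat_lit 5, nat_lit 2, nat_lit 3, nat_lit 4, nat_lit 7, nat_lit 2, nat_lit 3, nat_lit 4, nat_lit 6, nat_lit 2, nat_lit 3, nat_lit 4, nat_lit 5, nat_lit 2, nat_lit 3, nat_lit 2, nat_lit 1, nat_lit 2, nat_lit 3, nat_lit 5, nat_lit 2, nat_lit 4, nat_lit 6, nat_lit 3, nat_lit 4, nat_lit 5, nat_lit 4, nat_lit 2, nat_lit 1, nat_lit 3, nat_lit 2, nat_lit 3, nat_lit 4, nat_lit 2, nat_lit 5, nat_lit 7, nat_lit 0, nat_lit 1, nat_lit 2, nat_lit 8, nat_lit 3, nat_lit 5, nat_lit 0, nat_lit 1, nat_lit 2, nat_lit 3, nat_lit 5, nat_lit 2, nat_lit 1, nat_lit 0, nat_lit 8, nat_lit 2, nat_lit 1, nat_lit 0, nat_lit 2, nat_lit 3, nat_lit 4, nat_lit 6, nat_lit 2, nat_lit 1, nat_lit 3, nat_lit 4, nat_lit 2, nat_lit 3, nat_lit 0, nat_lit 1, nat_lit 2, nat_lit 5, nat_lit 8],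
  [nat_lit 4, nat_lit 3, nat_lit 2, nat_lit 1, nat_lit 4, nat_lit 5, nat_lit 2, nat_lit 3, nat_lit 2, nat_lit 5, nat_lit 1, nat_lit 2, nat_lit 4, nat_lit 6, nat_lit 4, nat_lit 3, nat_lit 4, nat_lit 2, nat_lit 1, nat_lit 5, nat_lit 2, nat_lit 3, nat_lit 2, nat_lit 5, nat_lit 4, nat_lit 1, nat_lit 2, nat_lit 5, nat_lit 1, nat_lit 6, nat_lit 1, nat_lit 3, nat_lit 7, nat_lit 4, nat_lit 3, nat_lit 2, nat_lit 1, nat_lit 4, nat_lit 5, nat_lit 2, nat_lit 3, nat_lit 2, nat_lit 5, nat_lit 1, nat_lit 2, nat_lit 4, nat_lit 6, nat_lit 4, nat_lit 3, nat_lit 4, nat_lit 2, nat_lit 1, nat_lit 5, nat_lit 2, nat_lit 3, nat_lit 2, nat_lit 5, nat_lit 4, nat_lit 1, nat_lit 2, nat_lit 5, nat_lit 1, nat_lit 6, nat_lit 4, nat_lit 6, nat_lit 4, nat_lit 2, nat_lit 1, nat_lit 5, nat_lit 2, nat_lit 3, nat_lit 2, nat_lit 5, nat_lit 4, nat_lit 1, nat_lit 2, nat_lit 7, nat_lit 2, nat_lit 3, nat_lit 4, nat_lit 2, nat_lit 5, nat_lit 7, nat_lit 0, nat_lit 1, nat_lit 2, nat_lit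 8, nat_lit 3, nat_lit 5, nat_lit 0, nat_lit 1, nat_lit 2, nat_lit 3, nat_lit 5, nat_lit 2, nat_lit 1, nat_lit 0, nat_lit 8, nat_lit 2, nat_lit 1, nat_lit 0, nat_lit 2, nat_lit 3, nat_lit 5, nat_lit 7, nat_lit 2, nat_lit 0, nat_lit 1, nat_lit 2, nat_lit 3, nat_lit 5, nat_lit 0, nat_lit 1, nat_lit 2, nat_lit 8, nat_lit 1, nat_lit 2, nat_lit 5, nat_lit 7, nat_lit 2, nat_lit 3, nat_lit 4, nat_lit 6, nat_lit 2, nat_lit 3, nat_lit 4, nat_lit 5, nat_lit 2, nat_lit 3, nat_lit 2, nat_lit 1, nat_lit 2, nat_lit 3, nat_lit 5, nat_lit 7, nat_lit 2],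
  [nat_lit 8, nat_lit 6, nat_lit 1, nat_lit 5, nat_lit 7, nat_lit 5, nat_lit 2, nat_lit 3, nat_lit 5, nat_lit 1, nat_lit 5, nat_lit 7, nat_lit 2, nat_lit 5, nat_lit 2, nat_lit 3, nat_lit 1, nat_lit 2, nat_lit 4, nat_lit 3, nat_lit 6, nat_lit 2, nat_lit 1, nat_lit 3, nat_lit 5, nat_lit 2, nat_lit 5, nat_lit 2, nat_lit 3, nat_lit 4, nat_lit 6, nat_lit 0, nat_lit 1, nat_lit 2, nat_lit 8, nat_lit 3, nat_lit 5, nat_lit 0, nat_lit 1, nat_lit 2, nat_lit 3, nat_lit 5, nat_lit 2, nat_lit 1, nat_lit 0, nat_lit 8, nat_lit 2, nat_lit 1, nat_lit 0, nat_lit 7, nat_lit 5, nat_lit 2, nat_lit 0, nat_lit 1, nat_lit 2, nat_lit 3, nat_lit 4, nat_lit 6, nat_lit 0, nat_lit 1, nat_lit 2, nat_lit 5, nat_lit 7, nat_lit 0, nat_lit 1, nat_lit 8, nat_lit 2, nat_lit 3, nat_lit 4, nat_lit 5, nat_lit 2, nat_lit 3, nat_lit 0, nat_lit 8, nat_lit 0, nat_lit 1, nat_lit 2, nat_lit 5, nat_lit 0, nat_lit 2, nat_lit 0, nat_lit 7],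
  [nat_lit 4, nat_lit 3, nat_lit 2, nat_lit 1, nat_lit 4, nat_lit 5, nat_lit 2, nat_lit 3, nat_lit 2, nat_lit 5, nat_lit 1, nat_lit 2, nat_lit 4, nat_lit 6, nat_lit 4, nat_lit 3, nat_lit 4, nat_lit 2, nat_lit 1, nat_lit 5, nat_lit 2, nat_lit 3, nat_lit 2, nat_lit 5, nat_lit 4, nat_lit 1, nat_lit 2, nat_lit 5, nat_lit 1, nat_lit 5, nat_lit 7, nat_lit 5, nat_lit 2, nat_lit 3, nat_lit 5, nat_lit 1, nat_lit 5, nat_lit 7, nat_lit 2, nat_lit 5, nat_lit 2, nat_lit 3, nat_lit 1, nat_lit 2, nat_lit 4, nat_lit 3, nat_lit 2, nat_lit 1, nat_lit 5, nat_lit 2, nat_lit 3, nat_lit 2, nat_lit 5, nat_lit 4, nat_lit 1, nat_lit 2, nat_lit 7, nat_lit 4, nat_lit 6, nat_lit 2, nat_lit 3, nat_lit 4, nat_lit 2, nat_lit 5, nat_lit 7, nat_lit 0, nat_lit 1, nat_lit 2, nat_lit 8, nat_lit 3, nat_lit 5, nat_lit 0, nat_lit 1, nat_lit 2, nat_lit 3, nat_lit 5, nat_lit 2, nat_lit 1, nat_lit 0, nat_lit 8, nat_lit 2, nat_lit 1, nat_lit 0, nat_lit 2, nat_lit 3, nat_lit 5, nat_lit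 7, nat_lit 2, nat_lit 0, nat_lit 1, nat_lit 2, nat_lit 3, nat_lit 5, nat_lit 0, nat_lit 1, nat_lit 2, nat_lit 8, nat_lit 1, nat_lit 2, nat_lit 5, nat_lit 7, nat_lit 2, nat_lit 3, nat_lit 4, nat_lit 6, nat_lit 2, nat_lit 3, nat_lit 4, nat_lit 5, nat_lit 2, nat_lit 3, nat_lit 2, nat_lit 1, nat_lit 2, nat_lit 3, nat_lit 5, nat_lit 7, nat_lit 2],
  [nat_lit 4, nat_lit 6, nat_lit 2, nat_lit 8, nat_lit 2, nat_lit 3, nat_lit 2, nat_lit 1, nat_lit 5, nat_lit 2, nat_lit 5, nat_lit 3, nat_lit 1, nat_lit 2, nat_lit 5, nat_lit 1, nat_lit 4, nat_lit 3, nat_lit 6, nat_lit 4, nat_lit 0, nat_lit 1, nat_lit 2, nat_lit 8, nat_lit 3, nat_lit 5, nat_lit 0, nat_lit 1, nat_lit 2, nat_lit 3, nat_lit 5, nat_lit 2, nat_lit 1, nat_lit 0, nat_lit 8, nat_lit 2, nat_lit 1, nat_lit 0, nat_lit 4, nat_lit 3, nat_lit 6, nat_lit 4, nat_lit 3, nat_lit 4, nat_lit 2, nat_lit 1, nat_lit 3, nat_lit 4, nat_lit 2, nat_lit 0, nat_lit 1, nat_lit 2, nat_lit 8, nat_lit 3, nat_lit 5,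 nat_lit 0, nat_lit 1, nat_lit 2, nat_lit 3, nat_lit 5, nat_lit 2, nat_lit 1, nat_lit 0, nat_lit 8, nat_lit 2, nat_lit 8, nat_lit 2, nat_lit 3, nat_lit 4, nat_lit 5, nat_lit 2, nat_lit 3],
  [nat_lit 8, nat_lit 2, nat_lit 3, nat_lit 2, nat_lit 1, nat_lit 5, nat_lit 2, nat_lit 5, nat_lit 3, nat_lit 1, nat_lit 2, nat_lit 5, nat_lit 1, nat_lit 4, nat_lit 3, nat_lit 6, nat_lit 0, nat_lit 1, nat_lit 2, nat_lit 8, nat_lit 3, nat_lit 5, nat_lit 0, nat_lit 1, nat_lit 2, nat_lit 3, nat_lit 5, nat_lit 2, nat_lit 1, nat_lit 0, nat_lit 1, nat_lit 2, nat_lit 3, nat_lit 4, nat_lit 6, nat_lit 2, nat_lit 1, nat_lit 3, nat_lit 5, nat_lit 0, nat_lit 1, nat_lit 8, nat_lit 0, nat_lit 2, nat_lit 3, nat_lit 4, nat_lit 5, nat_lit 2, nat_lit 1, nat_lit 0, nat_lit 8, nat_lit 3, nat_lit 0, nat_lit 8, nat_lit 2, nat_lit 1, nat_lit 5, nat_lit 2, nat_lit 3, nat_lit 5, nat_lit 7, nat_lit 4, nat_lit 3, nat_lit 2, nat_lit 7, nat_lit 5, nat_lit 1, nat_lit 2, nat_lit 0, nat_lit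 8, nat_lit 6],
  [nat_lit 1, nat_lit 4, nat_lit 0, nat_lit 4, nat_lit 8, nat_lit 0, nat_lit 1, nat_lit 2, nat_lit 5, nat_lit 8, nat_lit 0, nat_lit 1, nat_lit 2, nat_lit 3, nat_lit 2, nat_lit 1, nat_lit 5, nat_lit 2, nat_lit 0, nat_lit 1, nat_lit 8, nat_lit 0, nat_lit 1, nat_lit 2, nat_lit 1, nat_lit 4, nat_lit 5, nat_lit 2, nat_lit 3, nat_lit 2, nat_lit 5, nat_lit 1, nat_lit 2, nat_lit 4, nat_lit 6, nat_lit 2, nat_lit 3, nat_lit 4, nat_lit 6, nat_lit 2, nat_lit 3, nat_lit 4, nat_lit 0, nat_lit 1, nat_lit 2, nat_lit 8, nat_lit 3, nat_lit 5, nat_lit 0, nat_lit 1, nat_lit 2, nat_lit 3, nat_lit 5, nat_lit 2, nat_lit 1, nat_lit 0, nat_lit 8, nat_lit 2, nat_lit 1, nat_lit 0, nat_lit 2, nat_lit 3, nat_lit 4, nat_lit 0, nat_lit 1, nat_lit 2, nat_lit 8, nat_lit 0],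
  [nat_lit 8, nat_lit 1, nat_lit 2, nat_lit 6, nat_lit 4, nat_lit 3, nat_lit 6, nat_lit 4, nat_lit 0, nat_lit 1, nat_lit 2, nat_lit 8, nat_lit 3, nat_lit 5, nat_lit 0, nat_lit 1, nat_lit 2, nat_lit 3, nat_lit 5, nat_lit 2, nat_lit 1, nat_lit 0, nat_lit 8, nat_lit 2, nat_lit 1, nat_lit 0, nat_lit 4, nat_lit 3, nat_lit 6, nat_lit 4, nat_lit 5, nat_lit 2, nat_lit 1, nat_lit 4, nat_lit 5, nat_lit 2, nat_lit 3, nat_lit 2, nat_lit 5, nat_lit 1, nat_lit 2, nat_lit 4, nat_lit 3, nat_lit 4, nat_lit 2, nat_lit 1, nat_lit 3, nat_lit 2, nat_lit 3, nat_lit 4, nat_lit 6, nat_lit 0, nat_lit 1, nat_lit 2, nat_lit 5, nat_lit 2, nat_lit 1, nat_lit 3, nat_lit 4, nat_lit 2, nat_lit 3, nat_lit 4, nat_lit 6, nat_lit 0, nat_lit 8],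
  [nat_lit 2, nat_lit 4, nat_lit 3, nat_lit 8, nat_lit 2, nat_lit 3, nat_lit 2, nat_lit 1, nat_lit 5, nat_lit 2, nat_lit 5, nat_lit 3, nat_lit 1, nat_lit 2, nat_lit 5, nat_lit 1, nat_lit 6, nat_lit 4, nat_lit 3, nat_lit 6, nat_lit 4, nat_lit 0, nat_lit 1, nat_lit 2, nat_lit 8, nat_lit 3, nat_lit 5, nat_lit 0, nat_lit 1, nat_lit 2, nat_lit 3, nat_lit 5, nat_lit 2, nat_lit 1, nat_lit 0, nat_lit 8, nat_lit 2, nat_lit 1, nat_lit 0, nat_lit 4, nat_lit 3, nat_lit 6, nat_lit 3, nat_lit 2, nat_lit 1, nat_lit 5, nat_lit 3, nat_lit 4, nat_lit 0, nat_lit 1, nat_lit 2, nat_lit 8, nat_lit 3, nat_lit 5, nat_lit 0, nat_lit 1, nat_lit 2, nat_lit 3, nat_lit 5, nat_lit 2, nat_lit 1, nat_lit 0, nat_lit 8, nat_lit 5, nat_lit 2, nat_lit 1, nat_lit 3, nat_lit 4, nat_lit 2, nat_lit 3, nat_lit 4, nat_lit 6, nat_lit 0, nat_lit 8],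
  [nat_lit 1, nat_lit 2, nat_lit 4, nat_lit 8, nat_lit 4, nat_lit 3, nat_lit 6, nat_lit 4, nat_lit 0, nat_lit 1, nat_lit 2, nat_lit 8, nat_lit 3, nat_lit 5, nat_lit 0, nat_lit 1, nat_lit 2, nat_lit 3, nat_lit 5, nat_lit 2, nat_lit 1, nat_lit 0, nat_lit 8, nat_lit 2, nat_lit 1, nat_lit 0, nat_lit 4, nat_lit 3, nat_lit 6, nat_lit 4, nat_lit 5, nat_lit 2, nat_lit 1, nat_lit 4, nat_lit 5, nat_lit 2, nat_lit 3, nat_lit 2, nat_lit 5, nat_lit 1, nat_lit 2, nat_lit 4, nat_lit 3, nat_lit 4, nat_lit 2, nat_lit 1, nat_lit 3, nat_lit 2, nat_lit 3, nat_lit 4, nat_lit 6, nat_lit 0, nat_lit 1, nat_lit 8, nat_lit 0, nat_lit 2, nat_lit 3, nat_lit 5, nat_lit 2, nat_lit 3, nat_lit 4, nat_lit 6, nat_lit 0, nat_lit 1, nat_lit 8, nat_lit 2, nat_lit 3, nat_lit 4, nat_lit 5, nat_lit 2],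
  [nat_lit 8, nat_lit 4, nat_lit 0, nat_lit 8, nat_lit 4, nat_lit 3, nat_lit 6, nat_lit 4, nat_lit 0, nat_lit 1, nat_lit 2, nat_lit 8, nat_lit 3, nat_lit 5, nat_lit 0, nat_lit 1, nat_lit 2, nat_lit 3, nat_lit 5, nat_lit 2, nat_lit 1, nat_lit 0, nat_lit 8, nat_lit 2, nat_lit 1, nat_lit 0, nat_lit 4, nat_lit 3, nat_lit 6, nat_lit 4, nat_lit 5, nat_lit 2, nat_lit 1, nat_lit 4, nat_lit 5, nat_lit 2, nat_lit 3, nat_lit 2, nat_lit 5, nat_lit 1, nat_lit 2, nat_lit 4, nat_lit 3, nat_lit 2, nat_lit 1, nat_lit 3, nat_lit 4, nat_lit 2, nat_lit 0, nat_lit 1, nat_lit 8, nat_lit 0, nat_lit 2, nat_lit 3, nat_lit 4, nat_lit 2, nat_lit 3, nat_lit 5, nat_lit 2, nat_lit 3, nat_lit 4, nat_lit 6, nat_lit 0, nat_lit 1, nat_lit 8],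
  [nat_lit 3, nat_lit 2, nat_lit 1, nat_lit 5, nat_lit 2, nat_lit 5, nat_lit 3, nat_lit 1, nat_lit 2, nat_lit 5, nat_lit 1, nat_lit 4, nat_lit 3, nat_lit 6, nat_lit 4, nat_lit 0, nat_lit 1, nat_lit 2, nat_lit 8, nat_lit 3, nat_lit 5, nat_lit 0, nat_lit 1, nat_lit 2, nat_lit 3, nat_lit 5, nat_lit 2, nat_lit 1, nat_lit 0, nat_lit 8, nat_lit 2, nat_lit 1, nat_lit 0, nat_lit 4, nat_lit 3, nat_lit 6, nat_lit 4, nat_lit 3, nat_lit 4, nat_lit 3, nat_lit 2, nat_lit 1, nat_lit 3, nat_lit 2, nat_lit 0, nat_lit 1, nat_lit 8, nat_lit 0, nat_lit 2, nat_lit 3, nat_lit 4, nat_lit 2, nat_lit 3, nat_lit 5, nat_lit 2, nat_lit 3, nat_lit 4, nat_lit 6, nat_lit 0, nat_lit 1, nat_lit 2, nat_lit 5],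
  [nat_lit 3, nat_lit 5, nat_lit 4, nat_lit 3, nat_lit 0, nat_lit 1, nat_lit 2, nat_lit 8, nat_lit 3, nat_lit 5, nat_lit 0, nat_lit 1, nat_lit 2, nat_lit 3, nat_lit 5, nat_lit 2, nat_lit 1, nat_lit 0, nat_lit 8, nat_lit 2, nat_lit 1, nat_lit 0, nat_lit 4, nat_lit 2, nat_lit 1, nat_lit 3, nat_lit 2, nat_lit 3, nat_lit 4, nat_lit 6, nat_lit 0, nat_lit 1, nat_lit 2, nat_lit 8, nat_lit 3, nat_lit 5, nat_lit 0, nat_lit 1, nat_lit 2, nat_lit 3, nat_lit 5, nat_lit 2, nat_lit 1, nat_lit 0, nat_lit 8, nat_lit 2, nat_lit 1, nat_lit 0, nat_lit 2, nat_lit 5, nat_lit 2, nat_lit 3, nat_lit 4, nat_lit 6, nat_lit 2, nat_lit 3, nat_lit 0, nat_lit 1, nat_lit 8, nat_lit 2, nat_lit 3, nat_lit 4, nat_lit 5, nat_lit 2, nat_lit 0, nat_lit 8, nat_lit 0, nat_lit 1, nat_lit 2, nat_lit 3, nat_lit 4, nat_lit 6, nat_lit 4, nat_lit 0, nat_lit 1],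
  [nat_lit 1, nat_lit 3, nat_lit 5, nat_lit 1, nat_lit 2, nat_lit 5, nat_lit 8, nat_lit 0, nat_lit 1, nat_lit 2, nat_lit 3, nat_lit 2, nat_lit 1, nat_lit 5, nat_lit 2, nat_lit 0, nat_lit 1, nat_lit 8, nat_lit 0, nat_lit 7, nat_lit 5, nat_lit 2, nat_lit 3, nat_lit 5, nat_lit 1, nat_lit 5, nat_lit 7, nat_lit 2, nat_lit 5, nat_lit 2, nat_lit 3, nat_lit 1, nat_lit 2, nat_lit 4, nat_lit 3, nat_lit 0, nat_lit 1, nat_lit 2, nat_lit 8, nat_lit 3, nat_lit 5, nat_lit 0, nat_lit 1, nat_lit 2, nat_lit 3, nat_lit 5, nat_lit 2, nat_lit 1, nat_lit 0, nat_lit 8, nat_lit 2, nat_lit 1, nat_lit 0, nat_lit 4, nat_lit 2, nat_lit 1, nat_lit 3, nat_lit 5, nat_lit 7, nat_lit 2, nat_lit 3, nat_lit 4, nat_lit 6, nat_lit 2, nat_lit 3, nat_lit 4, nat_lit 5, nat_lit 2, nat_lit 3, nat_lit 2, nat_lit 1, nat_lit 2, nat_lit 3, nat_lit 5, nat_lit 2, nat_lit 7, nat_lit 5, nat_lit 3, nat_lit 5, nat_lit 2, nat_lit 1, nat_lit 2, nat_lit 3, nat_lit 4, nat_lit 6, nat_lit 0, nat_lit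 1, nat_lit 2, nat_lit 8, nat_lit 3, nat_lit 5, nat_lit 0, nat_lit 1, nat_lit 2, nat_lit 3, nat_lit 5, nat_lit 2, nat_lit 1, nat_lit 0, nat_lit 8, nat_lit 2, nat_lit 1, nat_lit 0, nat_lit 4, nat_lit 3, nat_lit 2, nat_lit 3, nat_lit 5, nat_lit 7, nat_lit 2, nat_lit 0, nat_lit 1],
  [nat_lit 5, nat_lit 0, nat_lit 8, nat_lit 4, nat_lit 3, nat_lit 2, nat_lit 1, nat_lit 4, nat_lit 5, nat_lit 2, nat_lit 3, nat_lit 2, nat_lit 5, nat_lit 1, nat_lit 2, nat_lit 4, nat_lit 6, nat_lit 4, nat_lit 3, nat_lit 4, nat_lit 2, nat_lit 1, nat_lit 5, nat_lit 2, nat_lit 3, nat_lit 2, nat_lit 5, nat_lit 4, nat_lit 1, nat_lit 2, nat_lit 5, nat_lit 1, nat_lit 0, nat_lit 1, nat_lit 2, nat_lit 5, nat_lit 8, nat_lit 0, nat_lit 1, nat_lit 2, nat_lit 3, nat_lit 2, nat_lit 1, nat_lit 5, nat_lit 2, nat_lit 0, nat_lit 1, nat_lit 8, nat_lit 0, nat_lit 1, nat_lit 7, nat_lit 4, nat_lit 0, nat_lit 1, nat_lit 2, nat_lit 8, nat_lit 3, nat_lit 5, nat_lit 0, nat_lit 1, nat_lit 2,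 nat_lit 3, nat_lit 5, nat_lit 2, nat_lit 1, nat_lit 0, nat_lit 8, nat_lit 2, nat_lit 1, nat_lit 0, nat_lit 4, nat_lit 6, nat_lit 4, nat_lit 2, nat_lit 1, nat_lit 0, nat_lit 1, nat_lit 2, nat_lit 1, nat_lit 3, nat_lit 4, nat_lit 2, nat_lit 1, nat_lit 5, nat_lit 7, nat_lit 2, nat_lit 5, nat_lit 0, nat_lit 1, nat_lit 2, nat_lit 3, nat_lit 0, nat_lit 1, nat_lit 2, nat_lit 5, nat_lit 0, nat_lit 1, nat_lit 2, nat_lit 3, nat_lit 4, nat_lit 6, nat_lit 0, nat_lit 8, nat_lit 0, nat_lit 1, nat_lit 2, nat_lit 3, nat_lit 4, nat_lit 0, nat_lit 1, nat_lit 2, nat_lit 8, nat_lit 3, nat_lit 5, nat_lit 0, nat_lit 1],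
  [nat_lit 6, nat_lit 2, nat_lit 0, nat_lit 2, nat_lit 3, nat_lit 2, nat_lit 1, nat_lit 5, nat_lit 2, nat_lit 5, nat_lit 3, nat_lit 1, nat_lit 2, nat_lit 5, nat_lit 4, nat_lit 3, nat_lit 6, nat_lit 4, nat_lit 0, nat_lit 1, nat_lit 2, nat_lit 8, nat_lit 3, nat_lit 5, nat_lit 0, nat_lit 1, nat_lit 2, nat_lit 3, nat_lit 5, nat_lit 2, nat_lit 1, nat_lit 0, nat_lit 8, nat_lit 2, nat_lit 1, nat_lit 0, nat_lit 4, nat_lit 3, nat_lit 6, nat_lit 0, nat_lit 1, nat_lit 2, nat_lit 8, nat_lit 3, nat_lit 5, nat_lit 0, nat_lit 1, nat_lit 2, nat_lit 3, nat_lit 5, nat_lit 2, nat_lit 1, nat_lit 0, nat_lit 8, nat_lit 2, nat_lit 1, nat_lit 0, nat_lit 4, nat_lit 6, nat_lit 4, nat_lit 2, nat_lit 1, nat_lit 5, nat_lit 7, nat_lit 0, nat_lit 1, nat_lit 2, nat_lit 8, nat_lit 3, nat_lit 5, nat_lit 0, nat_lit 1, nat_lit 2, nat_lit 3, nat_lit 5, nat_lit 2, nat_lit 1, nat_lit 0, nat_lit 8, nat_lit 2, nat_lit 1, nat_lit 0, nat_lit 2, nat_lit 3, nat_lit 4, nat_lit 6, nat_lit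 0, nat_lit 1, nat_lit 2, nat_lit 1, nat_lit 3, nat_lit 4, nat_lit 2, nat_lit 1, nat_lit 5, nat_lit 7, nat_lit 2, nat_lit 5, nat_lit 0, nat_lit 1, nat_lit 2, nat_lit 3, nat_lit 0, nat_lit 1, nat_lit 2, nat_lit 5, nat_lit 0, nat_lit 1, nat_lit 2, nat_lit 3, nat_lit 4, nat_lit 6, nat_lit 0, nat_lit 8, nat_lit 0, nat_lit 1, nat_lit 2, nat_lit 3, nat_lit 4, nat_lit 0, nat_lit 1, nat_lit 2, nat_lit 8, nat_lit 3, nat_lit 5, nat_lit 0, nat_lit 1]]
noncomputable def Apw : List ℕ := [nat_lit 2132, nat_lit 2157, nat_lit 2237, nat_lit 318, nat_lit 858, nat_lit 1717, nat_lit 1733, nat_lit 2595, nat_lit 2158, nat_lit 330, nat_lit 1036, nat_lit 1480, nat_lit 206, nat_lit 845, nat_lit 1468, nat_lit 1947, nat_lit 2442, nat_lit 2236, nat_lit 1820, nat_lit 2583, nat_lit 1765, nat_lit 1852, nat_lit 1861, nat_lit 2317, nat_lit 2334, nat_lit 2154, nat_lit 1804, nat_lit 1948, nat_lit 2323, nat_lit 2232, nat_lit 1857, nat_lit 2089, nat_lit 1610, nat_lit 357, nat_lit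 344, nat_lit 372]
noncomputable def D : OD := ⟨13, 4, 9, 5, 6, [1, 2], V, [nat_lit 8, nat_lit 2, nat_lit 3, nat_lit 2, nat_lit 1, nat_lit 5, nat_lit 2, nat_lit 5, nat_lit 3, nat_lit 1, nat_lit 2, nat_lit 5, nat_lit 1, nat_lit 3, nat_lit 5, nat_lit 7, nat_lit 5, nat_lit 2, nat_lit 1, nat_lit 3, nat_lit 4, nat_lit 3, nat_lit 4, nat_lit 2, nat_lit 5, nat_lit 7, nat_lit 2, nat_lit 3, nat_lit 5, nat_lit 7, nat_lit 3, nat_lit 4, nat_lit 0, nat_lit 1, nat_lit 2, nat_lit 8, nat_lit 3, nat_lit 5, nat_lit 0, nat_lit 1, nat_lit 2, nat_lit 3, nat_lit 5, nat_lit 2, nat_lit 1, nat_lit 0, nat_lit 8, nat_lit 3, nat_lit 4, nat_lit 0, nat_lit 1, nat_lit 2, nat_lit 5, nat_lit 0, nat_lit 1, nat_lit 2, nat_lit 3, nat_lit 0, nat_lit 1, nat_lit 2, nat_lit 3, nat_lit 4, nat_lit 6, nat_lit 0, nat_lit 1, nat_lit 2, nat_lit 5, nat_lit 7, nat_lit 0, nat_lit 8, nat_lit 0, nat_lit 1, nat_lit 2, nat_lit 5, nat_lit 1, nat_lit 2, nat_lit 3, nat_lit 4, nat_lit 0, nat_lit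 1, nat_lit 2, nat_lit 3, nat_lit 0, nat_lit 1, nat_lit 2, nat_lit 5, nat_lit 7, nat_lit 3], [nat_lit 0, nat_lit 7, nat_lit 8, nat_lit 0, nat_lit 1, nat_lit 2, nat_lit 3, nat_lit 5, nat_lit 0, nat_lit 1, nat_lit 2, nat_lit 8, nat_lit 3, nat_lit 5, nat_lit 0, nat_lit 1, nat_lit 0, nat_lit 8, nat_lit 2, nat_lit 1, nat_lit 0, nat_lit 5, nat_lit 3, nat_lit 2, nat_lit 1, nat_lit 0, nat_lit 2, nat_lit 5, nat_lit 3, nat_lit 2, nat_lit 5, nat_lit 7, nat_lit 5, nat_lit 4, nat_lit 2, nat_lit 1, nat_lit 5, nat_lit 2, nat_lit 3, nat_lit 2, nat_lit 5, nat_lit 4, nat_lit 1, nat_lit 2, nat_lit 7, nat_lit 0, nat_lit 1, nat_lit 2, nat_lit 8, nat_lit 0, nat_lit 1, nat_lit 2, nat_lit 5, nat_lit 3, nat_lit 2, nat_lit 1, nat_lit 0, nat_lit 5, nat_lit 3, nat_lit 8, nat_lit 2, nat_lit 1, nat_lit 0, nat_lit 3, nat_lit 6, nat_lit 4, nat_lit 2, nat_lit 3, nat_lit 5, nat_lit 7, nat_lit 2, nat_lit 5, nat_lit 0, nat_lit 1, nat_lit 2, nat_lit 1, nat_lit 3, nat_lit 4,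 nat_lit 2, nat_lit 1, nat_lit 5, nat_lit 7, nat_lit 2, nat_lit 5, nat_lit 0, nat_lit 1, nat_lit 2, nat_lit 3, nat_lit 0, nat_lit 1, nat_lit 2, nat_lit 5, nat_lit 0, nat_lit 1, nat_lit 2, nat_lit 3, nat_lit 4, nat_lit 6], W, [nat_lit 7, nat_lit 0, nat_lit 6, nat_lit 2, nat_lit 3, nat_lit 4, nat_lit 7, nat_lit 2, nat_lit 3, nat_lit 4, nat_lit 6, nat_lit 2, nat_lit 3, nat_lit 4, nat_lit 5, nat_lit 2, nat_lit 3, nat_lit 2, nat_lit 1, nat_lit 2, nat_lit 3, nat_lit 5, nat_lit 2, nat_lit 4, nat_lit 6, nat_lit 0, nat_lit 1, nat_lit 2, nat_lit 8, nat_lit 3, nat_lit 5, nat_lit 0, nat_lit 1, nat_lit 2, nat_lit 3, nat_lit 5, nat_lit 2, nat_lit 1, nat_lit 0, nat_lit 8, nat_lit 2, nat_lit 1, nat_lit 0, nat_lit 2, nat_lit 1, nat_lit 3, nat_lit 4, nat_lit 2, nat_lit 3, nat_lit 4, nat_lit 6, nat_lit 0, nat_lit 1, nat_lit 2, nat_lit 3, nat_lit 4, nat_lit 0, nat_lit 1, nat_lit 2, nat_lit 5, nat_lit 0, nat_lit 1, nat_lit 2, nat_lit 3], Accw,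
  [([nat_lit 2, nat_lit 2, nat_lit 2, nat_lit 0, nat_lit 2], (nat_lit 2)), ([nat_lit 0, nat_lit 0, nat_lit 2], (nat_lit 6)), ([nat_lit 2, nat_lit 2, nat_lit 1, nat_lit 0], (nat_lit 8))], (nat_lit 0)⟩
noncomputable def Wb : List (List ℕ) := [[nat_lit 2, nat_lit 3, nat_lit 4, nat_lit 7, nat_lit 2, nat_lit 3, nat_lit 4, nat_lit 6, nat_lit 2, nat_lit 3, nat_lit 4, nat_lit 5, nat_lit 2, nat_lit 3, nat_lit 2, nat_lit 1, nat_lit 2, nat_lit 3, nat_lit 5, nat_lit 2, nat_lit 4, nat_lit 6, nat_lit 3, nat_lit 4, nat_lit 7, nat_lit 2, nat_lit 5, nat_lit 0, nat_lit 1, nat_lit 2, nat_lit 3, nat_lit 2, nat_lit 1, nat_lit 5, nat_lit 2, nat_lit 0, nat_lit 1, nat_lit 2, nat_lit 3, nat_lit 4, nat_lit 7, nat_lit 2, nat_lit 3, nat_lit 4, nat_lit 6, nat_lit 2, nat_lit 3, nat_lit 4, nat_lit 5, nat_lit 2, nat_lit 3, nat_lit 2, nat_lit 1, nat_lit 2, nat_lit 3, nat_lit 5, nat_lit 2, nat_lit 4, nat_lit 6, nat_lit 3, nat_lit 4, nat_lit 7, nat_lit 1],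
  [nat_lit 8, nat_lit 1, nat_lit 7, nat_lit 5, nat_lit 4, nat_lit 3, nat_lit 2, nat_lit 1, nat_lit 4, nat_lit 5, nat_lit 2, nat_lit 3, nat_lit 2, nat_lit 5, nat_lit 1, nat_lit 2, nat_lit 4, nat_lit 6, nat_lit 4, nat_lit 3, nat_lit 4, nat_lit 2, nat_lit 1, nat_lit 5, nat_lit 2, nat_lit 3, nat_lit 2, nat_lit 5, nat_lit 4, nat_lit 1, nat_lit 2, nat_lit 5, nat_lit 1, nat_lit 6, nat_lit 7, nat_lit 4, nat_lit 6, nat_lit 2, nat_lit 3, nat_lit 5, nat_lit 0, nat_lit 1, nat_lit 8, nat_lit 0, nat_lit 2, nat_lit 1, nat_lit 5, nat_lit 7, nat_lit 0, nat_lit 1, nat_lit 2, nat_lit 8, nat_lit 0, nat_lit 1, nat_lit 2, nat_lit 5, nat_lit 2, nat_lit 1, nat_lit 3, nat_lit 4, nat_lit 2, nat_lit 3, nat_lit 4, nat_lit 6, nat_lit 2, nat_lit 1, nat_lit 4, nat_lit 5, nat_lit 2, nat_lit 3, nat_lit 2, nat_lit 5, nat_lit 1, nat_lit 2, nat_lit 4, nat_lit 6, nat_lit 4, nat_lit 3, nat_lit 7],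
  [nat_lit 6, nat_lit 0, nat_lit 1, nat_lit 2, nat_lit 5, nat_lit 8, nat_lit 0, nat_lit 1, nat_lit 2, nat_lit 3, nat_lit 2, nat_lit 1, nat_lit 5, nat_lit 2, nat_lit 0, nat_lit 1, nat_lit 8, nat_lit 0, nat_lit 1, nat_lit 3, nat_lit 5, nat_lit 2, nat_lit 3, nat_lit 4, nat_lit 7, nat_lit 2, nat_lit 3, nat_lit 4, nat_lit 6, nat_lit 2, nat_lit 3, nat_lit 4, nat_lit 5, nat_lit 2, nat_lit 3, nat_lit 2, nat_lit 1, nat_lit 2, nat_lit 3, nat_lit 5, nat_lit 2, nat_lit 4, nat_lit 6, nat_lit 3, nat_lit 4, nat_lit 5, nat_lit 2, nat_lit 1, nat_lit 3, nat_lit 5, nat_lit 7, nat_lit 2, nat_lit 3, nat_lit 4, nat_lit 6, nat_lit 2, nat_lit 3, nat_lit 4, nat_lit 5, nat_lit 2, nat_lit 3, nat_lit 2, nat_lit 1, nat_lit 5, nat_lit 2, nat_lit 7, nat_lit 5, nat_lit 0, nat_lit 1, nat_lit 2, nat_lit 8, nat_lit 1, nat_lit 2, nat_lit 8, nat_lit 2, nat_lit 3, nat_lit 5, nat_lit 7, nat_lit 2, nat_lit 1, nat_lit 5, nat_lit 7, nat_lit 2, nat_lit 3, nat_lit 4, nat_lit 6, nat_lit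 4, nat_lit 3, nat_lit 2, nat_lit 7, nat_lit 5, nat_lit 1, nat_lit 3, nat_lit 5, nat_lit 1, nat_lit 5, nat_lit 7, nat_lit 2, nat_lit 5, nat_lit 2, nat_lit 3, nat_lit 1, nat_lit 2, nat_lit 4, nat_lit 3, nat_lit 6, nat_lit 0, nat_lit 1, nat_lit 2, nat_lit 8, nat_lit 3, nat_lit 5, nat_lit 0, nat_lit 1, nat_lit 2, nat_lit 3, nat_lit 5, nat_lit 2, nat_lit 1, nat_lit 0, nat_lit 8, nat_lit 2, nat_lit 1, nat_lit 0, nat_lit 3, nat_lit 8, nat_lit 5],
  [nat_lit 4, nat_lit 3, nat_lit 2, nat_lit 1, nat_lit 5, nat_lit 2, nat_lit 5, nat_lit 3, nat_lit 1, nat_lit 2, nat_lit 5, nat_lit 3, nat_lit 2, nat_lit 3, nat_lit 4, nat_lit 7, nat_lit 2, nat_lit 3, nat_lit 4, nat_lit 6, nat_lit 2, nat_lit 3, nat_lit 4, nat_lit 5, nat_lit 2, nat_lit 3, nat_lit 2, nat_lit 1, nat_lit 2, nat_lit 3, nat_lit 5, nat_lit 2, nat_lit 4, nat_lit 6, nat_lit 2, nat_lit 3, nat_lit 5, nat_lit 7, nat_lit 2, nat_lit 0, nat_lit 1, nat_lit 2, nat_lit 3, nat_lit 4, nat_lit 6, nat_lit 2,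 nat_lit 1, nat_lit 3, nat_lit 4, nat_lit 2, nat_lit 3, nat_lit 5, nat_lit 7, nat_lit 5, nat_lit 2, nat_lit 1, nat_lit 5, nat_lit 7, nat_lit 2, nat_lit 5, nat_lit 3, nat_lit 2, nat_lit 4, nat_lit 3, nat_lit 1, nat_lit 2, nat_lit 5],
  [nat_lit 1, nat_lit 0, nat_lit 6, nat_lit 3, nat_lit 2, nat_lit 1, nat_lit 4, nat_lit 5, nat_lit 2, nat_lit 3, nat_lit 2, nat_lit 5, nat_lit 1, nat_lit 2, nat_lit 4, nat_lit 3, nat_lit 6, nat_lit 0, nat_lit 1],
  [nat_lit 1, nat_lit 2, nat_lit 3, nat_lit 2, nat_lit 5, nat_lit 7, nat_lit 2, nat_lit 3, nat_lit 4, nat_lit 6, nat_lit 2, nat_lit 3, nat_lit 5, nat_lit 7, nat_lit 2, nat_lit 3, nat_lit 4, nat_lit 0, nat_lit 1, nat_lit 2, nat_lit 8, nat_lit 3, nat_lit 5, nat_lit 0, nat_lit 1, nat_lit 2, nat_lit 3, nat_lit 5, nat_lit 2, nat_lit 1, nat_lit 0, nat_lit 8, nat_lit 2, nat_lit 1, nat_lit 0, nat_lit 2, nat_lit 3, nat_lit 4, nat_lit 6, nat_lit 3, nat_lit 2, nat_lit 5, nat_lit 4, nat_lit 3, nat_lit 2, nat_lit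 7, nat_lit 5, nat_lit 4, nat_lit 3, nat_lit 2, nat_lit 5, nat_lit 2, nat_lit 3, nat_lit 4, nat_lit 6, nat_lit 2, nat_lit 3, nat_lit 5, nat_lit 7, nat_lit 2, nat_lit 5, nat_lit 0, nat_lit 1, nat_lit 2, nat_lit 8, nat_lit 3, nat_lit 5, nat_lit 0, nat_lit 1, nat_lit 2, nat_lit 3, nat_lit 5, nat_lit 2, nat_lit 1, nat_lit 0, nat_lit 8, nat_lit 2, nat_lit 1, nat_lit 0, nat_lit 4, nat_lit 0, nat_lit 1, nat_lit 8, nat_lit 2, nat_lit 5, nat_lit 7, nat_lit 2, nat_lit 3, nat_lit 4, nat_lit 6, nat_lit 2, nat_lit 1, nat_lit 5, nat_lit 7, nat_lit 2, nat_lit 3, nat_lit 4, nat_lit 2, nat_lit 5, nat_lit 7, nat_lit 2, nat_lit 3, nat_lit 5, nat_lit 0, nat_lit 1, nat_lit 8, nat_lit 0, nat_lit 2, nat_lit 3, nat_lit 5, nat_lit 2, nat_lit 3, nat_lit 4, nat_lit 6, nat_lit 4, nat_lit 8, nat_lit 1],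
  [nat_lit 8, nat_lit 3, nat_lit 5, nat_lit 2, nat_lit 1, nat_lit 3, nat_lit 4, nat_lit 2, nat_lit 0, nat_lit 1, nat_lit 2, nat_lit 3, nat_lit 2, nat_lit 1, nat_lit 5, nat_lit 2, nat_lit 0, nat_lit 1, nat_lit 2, nat_lit 1, nat_lit 3, nat_lit 4, nat_lit 0, nat_lit 1, nat_lit 2, nat_lit 1, nat_lit 3, nat_lit 4, nat_lit 0, nat_lit 1, nat_lit 2, nat_lit 5, nat_lit 8],
  [nat_lit 8, nat_lit 4, nat_lit 3, nat_lit 6, nat_lit 4, nat_lit 0, nat_lit 1, nat_lit 2, nat_lit 8, nat_lit 3, nat_lit 5, nat_lit 0, nat_lit 1, nat_lit 2, nat_lit 3, nat_lit 5, nat_lit 2, nat_lit 1, nat_lit 0, nat_lit 8, nat_lit 2, nat_lit 1, nat_lit 0, nat_lit 4, nat_lit 3, nat_lit 6, nat_lit 4, nat_lit 1, nat_lit 3, nat_lit 7, nat_lit 5, nat_lit 2, nat_lit 3, nat_lit 5, nat_lit 1, nat_lit 5, nat_lit 7, nat_lit 2, nat_lit 5, nat_lit 2, nat_lit 3, nat_lit 5, nat_lit 2, nat_lit 3, nat_lit 5, nat_lit 7, nat_lit 4, nat_lit 3, nat_lit 2, nat_lit 7, nat_lit 5, nat_lit 1, nat_lit 2,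 nat_lit 7, nat_lit 5, nat_lit 2, nat_lit 5, nat_lit 7, nat_lit 2, nat_lit 3, nat_lit 4, nat_lit 6, nat_lit 2, nat_lit 3, nat_lit 5, nat_lit 7, nat_lit 2, nat_lit 1, nat_lit 0, nat_lit 1, nat_lit 2, nat_lit 5, nat_lit 2, nat_lit 1, nat_lit 3, nat_lit 4, nat_lit 2, nat_lit 3, nat_lit 4, nat_lit 6, nat_lit 0, nat_lit 1, nat_lit 8, nat_lit 2, nat_lit 5, nat_lit 2, nat_lit 3, nat_lit 4, nat_lit 6, nat_lit 2, nat_lit 3, nat_lit 4, nat_lit 2, nat_lit 5, nat_lit 7, nat_lit 0, nat_lit 1, nat_lit 2, nat_lit 8, nat_lit 3, nat_lit 5, nat_lit 0, nat_lit 1, nat_lit 2, nat_lit 3, nat_lit 5, nat_lit 2, nat_lit 1, nat_lit 0, nat_lit 8, nat_lit 2, nat_lit 1, nat_lit 0, nat_lit 2, nat_lit 5, nat_lit 2, nat_lit 3, nat_lit 4, nat_lit 6, nat_lit 2, nat_lit 3, nat_lit 4, nat_lit 6],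
  [nat_lit 8, nat_lit 6, nat_lit 5, nat_lit 2, nat_lit 1, nat_lit 5, nat_lit 7, nat_lit 2, nat_lit 5, nat_lit 1, nat_lit 5, nat_lit 3, nat_lit 4, nat_lit 6, nat_lit 2, nat_lit 3, nat_lit 5, nat_lit 7, nat_lit 2, nat_lit 3, nat_lit 4, nat_lit 0, nat_lit 1, nat_lit 2, nat_lit 8, nat_lit 3, nat_lit 5, nat_lit 0, nat_lit 1, nat_lit 2, nat_lit 3, nat_lit 5, nat_lit 2, nat_lit 1, nat_lit 0, nat_lit 8, nat_lit 2, nat_lit 1, nat_lit 0, nat_lit 4, nat_lit 3, nat_lit 2, nat_lit 6, nat_lit 4, nat_lit 3, nat_lit 2, nat_lit 1, nat_lit 2, nat_lit 4, nat_lit 2, nat_lit 5, nat_lit 3, nat_lit 2, nat_lit 7, nat_lit 4, nat_lit 6, nat_lit 4, nat_lit 2, nat_lit 1, nat_lit 5, nat_lit 2, nat_lit 3, nat_lit 2, nat_lit 5, nat_lit 4, nat_lit 1, nat_lit 2, nat_lit 7, nat_lit 2, nat_lit 1, nat_lit 5, nat_lit 7, nat_lit 0, nat_lit 1, nat_lit 2, nat_lit 3, nat_lit 4, nat_lit 6, nat_lit 0, nat_lit 1, nat_lit 2, nat_lit 8, nat_lit 0, nat_lit 1, nat_lit 0, nat_lit 1, nat_lit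 2, nat_lit 5, nat_lit 7, nat_lit 0, nat_lit 1, nat_lit 2, nat_lit 3, nat_lit 2, nat_lit 1, nat_lit 5, nat_lit 2, nat_lit 7, nat_lit 0, nat_lit 1, nat_lit 2, nat_lit 8, nat_lit 3, nat_lit 5, nat_lit 0, nat_lit 1, nat_lit 2, nat_lit 3, nat_lit 5, nat_lit 2, nat_lit 1, nat_lit 0, nat_lit 8, nat_lit 2, nat_lit 1, nat_lit 0, nat_lit 2, nat_lit 1, nat_lit 3, nat_lit 4, nat_lit 5, nat_lit 7, nat_lit 2, nat_lit 3, nat_lit 4, nat_lit 6, nat_lit 2, nat_lit 3, nat_lit 4, nat_lit 5, nat_lit 2, nat_lit 3, nat_lit 2, nat_lit 7, nat_lit 5, nat_lit 1, nat_lit 2]]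

theorem ov0_0 : Nat.beq (loop2 (lv0.scan H16.PFi22.P) (nat_lit 0) (nat_lit 3510)) (nat_lit 3510) = true := by decide +kernel
theorem ov1_0 : Nat.beq (loop2 (lv1.scan H16.PFi22.P) (nat_lit 0) (nat_lit 3264)) (nat_lit 648) = true := by decide +kernel
theorem ov1_3264 : Nat.beq (loop2 (lv1.scan H16.PFi22.P) (nat_lit 3264) (nat_lit 246)) (nat_lit 45) = true := by decide +kernel
theorem ov2_0 : Nat.beq (loop2 (lv2.scan H16.PFi22.P) (nat_lit 0) (nat_lit 3510)) (nat_lit 512) = true := by decide +kernel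
theorem ov3_0 : Nat.beq (loop2 (lv3.scan H16.PFi22.P) (nat_lit 0) (nat_lit 3510)) (nat_lit 432) = true := by decide +kernel
theorem ov4_0 : Nat.beq (loop2 (lv4.scan H16.PFi22.P) (nat_lit 0) (nat_lit 3510)) (nat_lit 30) = true := by decide +kernel
theorem ov5c : 0 < lv5.K ∧ allL (ltAll 9) lv5.Ws = true ∧ [nat_lit 3276, nat_lit 2626, nat_lit 891, nat_lit 18].length = lv5.n ∧ lv5.lst H16.PFi22.P [nat_lit 3276, nat_lit 2626, nat_lit 891, nat_lit 18] 3510 = 0 := by decide +kernel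
theorem lcv : lowChk H16.PFi22.P 3510 9 LLv [] = 0 ∧ prodN LLv = 64561751654400 ∧ 0 < 64561751654400 := by decide +kernel
theorem ccv : cenChk H16.PFi22.P 3510 9 H16.PFi22.B V V (nat_lit 2229) LLv Accv Apv = true := by decide +kernel
theorem cev_0 : allZ (cenEnt H16.PFi22.P V LLv Apv (nat_lit 12)) (nat_lit 0) (nat_lit 1024) = true := by decide +kernel
theorem cev_1 : allZ (cenEnt H16.PFi22.P V LLv Apv (nat_lit 12)) (nat_lit 1024) (nat_lit 1024) = true := by decide +kernel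
theorem cev_2 : allZ (cenEnt H16.PFi22.P V LLv Apv (nat_lit 12)) (nat_lit 2048) (nat_lit 1024) = true := by decide +kernel
theorem cev_3 : allZ (cenEnt H16.PFi22.P V LLv Apv (nat_lit 12)) (nat_lit 3072) (nat_lit 438) = true := by decide +kernel
theorem ow0_0 : Nat.beq (loop2 (lw0.scan H16.PFi22.P) (nat_lit 0) (nat_lit 3510)) (nat_lit 3510) = true := by decide +kernel
theorem ow1_0 : Nat.beq (loop2 (lw1.scan H16.PFi22.P) (nat_lit 0) (nat_lit 2816)) (nat_lit 556) = true := by decide +kernel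
theorem ow1_2816 : Nat.beq (loop2 (lw1.scan H16.PFi22.P) (nat_lit 2816) (nat_lit 694)) (nat_lit 137) = true := by decide +kernel
theorem ow2_0 : Nat.beq (loop2 (lw2.scan H16.PFi22.P) (nat_lit 0) (nat_lit 3510)) (nat_lit 512) = true := by decide +kernel
theorem ow3_0 : Nat.beq (loop2 (lw3.scan H16.PFi22.P) (nat_lit 0) (nat_lit 1408)) (nat_lit 605) = true := by decide +kernel
theorem ow3_1408 : Nat.beq (loop2 (lw3.scan H16.PFi22.P) (nat_lit 1408) (nat_lit 1408)) (nat_lit 560) = true := by decide +kernel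
theorem ow3_2816 : Nat.beq (loop2 (lw3.scan H16.PFi22.P) (nat_lit 2816) (nat_lit 694)) (nat_lit 275) = true := by decide +kernel
theorem ow4c : 0 < lw4.K ∧ allL (ltAll 9) lw4.Ws = true ∧ [nat_lit 3369, nat_lit 2721, nat_lit 2695, nat_lit 1194, nat_lit 1137, nat_lit 1095, nat_lit 1016, nat_lit 549, nat_lit 320].length = lw4.n ∧ lw4.lst H16.PFi22.P [nat_lit 3369, nat_lit 2721, nat_lit 2695, nat_lit 1194, nat_lit 1137, nat_lit 1095, nat_lit 1016, nat_lit 549, nat_lit 320] 3510 = 0 := by decide +kernel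
theorem ow5c : 0 < lw5.K ∧ allL (ltAll 9) lw5.Ws = true ∧ [nat_lit 3493, nat_lit 2580, nat_lit 2431, nat_lit 2082].length = lw5.n ∧ lw5.lst H16.PFi22.P [nat_lit 3493, nat_lit 2580, nat_lit 2431, nat_lit 2082] 3510 = 0 := by decide +kernel
theorem lcw : lowChk H16.PFi22.P 3510 9 LLw [] = 0 ∧ prodN LLw = 64561751654400 ∧ 0 < 64561751654400 := by decide +kernel
theorem ccw : cenChk H16.PFi22.P 3510 9 H16.PFi22.B W W (nat_lit 2132) LLw Accw Apw = true := by decide +kernel
theorem cew_0 : allZ (cenEnt H16.PFi22.P W LLw Apw (nat_lit 5)) (nat_lit 0) (nat_lit 576) = true := by decide +kernel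
theorem cew_1 : allZ (cenEnt H16.PFi22.P W LLw Apw (nat_lit 5)) (nat_lit 576) (nat_lit 576) = true := by decide +kernel
theorem cew_2 : allZ (cenEnt H16.PFi22.P W LLw Apw (nat_lit 5)) (nat_lit 1152) (nat_lit 576) = true := by decide +kernel
theorem cew_3 : allZ (cenEnt H16.PFi22.P W LLw Apw (nat_lit 5)) (nat_lit 1728) (nat_lit 576) = true := by decide +kernel
theorem cew_4 : allZ (cenEnt H16.PFi22.P W LLw Apw (nat_lit 5)) (nat_lit 2304) (nat_lit 576) = true := by decide +kernel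
theorem cew_5 : allZ (cenEnt H16.PFi22.P W LLw Apw (nat_lit 5)) (nat_lit 2880) (nat_lit 576) = true := by decide +kernel
theorem cew_6 : allZ (cenEnt H16.PFi22.P W LLw Apw (nat_lit 5)) (nat_lit 3456) (nat_lit 54) = true := by decide +kernel
theorem dc : D.chk H16.PFi22.P 3510 9 H16.PFi22.B = true := by decide +kernel
theorem fl_0 : allZ (D.fail H16.PFi22.P [0, 313]) (nat_lit 0) (nat_lit 24) = true := by decide +kernel
theorem fl_1 : allZ (D.fail H16.PFi22.P [0, 313]) (nat_lit 24) (nat_lit 24) = true := by decide +kernel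
theorem fl_2 : allZ (D.fail H16.PFi22.P [0, 313]) (nat_lit 48) (nat_lit 24) = true := by decide +kernel
theorem fl_3 : allZ (D.fail H16.PFi22.P [0, 313]) (nat_lit 72) (nat_lit 24) = true := by decide +kernel
theorem fl_4 : allZ (D.fail H16.PFi22.P [0, 313]) (nat_lit 96) (nat_lit 24) = true := by decide +kernel
theorem fl_5 : allZ (D.fail H16.PFi22.P [0, 313]) (nat_lit 120) (nat_lit 24) = true := by decide +kernel
theorem fl_6 : allZ (D.fail H16.PFi22.P [0, 313]) (nat_lit 144) (nat_lit 24) = true := by decide +kernel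
theorem fl_7 : allZ (D.fail H16.PFi22.P [0, 313]) (nat_lit 168) (nat_lit 24) = true := by decide +kernel
theorem fl_8 : allZ (D.fail H16.PFi22.P [0, 313]) (nat_lit 192) (nat_lit 24) = true := by decide +kernel
theorem fl_9 : allZ (D.fail H16.PFi22.P [0, 313]) (nat_lit 216) (nat_lit 24) = true := by decide +kernel
theorem fl_10 : allZ (D.fail H16.PFi22.P [0, 313]) (nat_lit 240) (nat_lit 24) = true := by decide +kernel
theorem fl_11 : allZ (D.fail H16.PFi22.P [0, 313]) (nat_lit 264) (nat_lit 24) = true := by decide +kernel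
theorem fl_12 : allZ (D.fail H16.PFi22.P [0, 313]) (nat_lit 288) (nat_lit 24) = true := by decide +kernel
theorem fl_13 : allZ (D.fail H16.PFi22.P [0, 313]) (nat_lit 312) (nat_lit 24) = true := by decide +kernel
theorem fl_14 : allZ (D.fail H16.PFi22.P [0, 313]) (nat_lit 336) (nat_lit 24) = true := by decide +kernel
theorem fl_15 : allZ (D.fail H16.PFi22.P [0, 313]) (nat_lit 360) (nat_lit 24) = true := by decide +kernel
theorem fl_16 : allZ (D.fail H16.PFi22.P [0, 313]) (nat_lit 384) (nat_lit 24) = true := by decide +kernel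
theorem fl_17 : allZ (D.fail H16.PFi22.P [0, 313]) (nat_lit 408) (nat_lit 24) = true := by decide +kernel
theorem gc : slpX H16.PFi22.P 9 H16.PFi22.B 9 0 3 [D.X, D.W, D.S, [nat_lit 6, nat_lit 4, nat_lit 3, nat_lit 2, nat_lit 1, nat_lit 0, nat_lit 5, nat_lit 2, nat_lit 1, nat_lit 0, nat_lit 3, nat_lit 2, nat_lit 1, nat_lit 0, nat_lit 5, nat_lit 2, nat_lit 7, nat_lit 5, nat_lit 1, nat_lit 2, nat_lit 4, nat_lit 3, nat_lit 1, nat_lit 2, nat_lit 1, nat_lit 0, nat_lit 5, nat_lit 2, nat_lit 7, nat_lit 5, nat_lit 3, nat_lit 2, nat_lit 4, nat_lit 6, nat_lit 3, nat_lit 0, nat_lit 1, nat_lit 2, nat_lit 8, nat_lit 3, nat_lit 5, nat_lit 0, nat_lit 1, nat_lit 2, nat_lit 3, nat_lit 5, nat_lit 2, nat_lit 1, nat_lit 0, nat_lit 8, nat_lit 2, nat_lit 1, nat_lit 0, nat_lit 7, nat_lit 2, nat_lit 1, nat_lit 4, nat_lit 5, nat_lit 2, nat_lit 3, nat_lit 2, nat_lit 5, nat_lit 1, nat_lit 2, nat_lit 4, nat_lit 5, nat_lit 7, nat_lit 5, nat_lit 2, nat_lit 3, nat_lit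 5, nat_lit 2, nat_lit 0, nat_lit 1, nat_lit 2, nat_lit 3, nat_lit 5, nat_lit 0, nat_lit 1, nat_lit 2, nat_lit 8, nat_lit 0, nat_lit 1, nat_lit 0, nat_lit 5, nat_lit 3, nat_lit 8, nat_lit 2, nat_lit 1, nat_lit 0, nat_lit 5, nat_lit 3, nat_lit 2, nat_lit 1, nat_lit 0, nat_lit 8, nat_lit 7, nat_lit 0], [nat_lit 4, nat_lit 8, nat_lit 0, nat_lit 5, nat_lit 1, nat_lit 6, nat_lit 2], [nat_lit 3, nat_lit 2, nat_lit 1, nat_lit 0, nat_lit 5, nat_lit 2, nat_lit 1, nat_lit 0, nat_lit 4, nat_lit 3, nat_lit 2, nat_lit 1, nat_lit 0, nat_lit 6, nat_lit 4, nat_lit 3, nat_lit 2, nat_lit 4, nat_lit 3, nat_lit 1, nat_lit 2, nat_lit 0, nat_lit 1, nat_lit 2, nat_lit 8, nat_lit 0, nat_lit 1, nat_lit 2, nat_lit 5, nat_lit 3, nat_lit 2, nat_lit 1, nat_lit 0, nat_lit 5, nat_lit 3, nat_lit 8, nat_lit 2, nat_lit 1, nat_lit 0, nat_lit 6, nat_lit 4, nat_lit 2, nat_lit 5, nat_lit 3, nat_lit 2, nat_lit 1, nat_lit 2, nat_lit 3, nat_lit 2, nat_lit 5, nat_lit 4, nat_lit 3,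 nat_lit 2, nat_lit 6, nat_lit 4, nat_lit 3, nat_lit 2, nat_lit 7, nat_lit 4, nat_lit 3, nat_lit 2, nat_lit 6, nat_lit 0, nat_lit 7]]
  [((nat_lit 12), [nat_lit 9]),
  ((nat_lit 13), [nat_lit 10]),
  ((nat_lit 14), [nat_lit 11]),
  ((nat_lit 0), [nat_lit 10, nat_lit 9, nat_lit 11, nat_lit 12, nat_lit 13, nat_lit 12, nat_lit 14, nat_lit 12, nat_lit 11, nat_lit 11, nat_lit 12, nat_lit 14, nat_lit 14, nat_lit 9, nat_lit 9, nat_lit 14, nat_lit 14, nat_lit 9, nat_lit 11, nat_lit 12, nat_lit 11, nat_lit 12, nat_lit 12, nat_lit 12, nat_lit 11, nat_lit 12, nat_lit 11, nat_lit 12, nat_lit 10, nat_lit 10, nat_lit 9, nat_lit 14, nat_lit 12, nat_lit 10, nat_lit 9, nat_lit 11, nat_lit 9, nat_lit 9, nat_lit 14, nat_lit 13, nat_lit 9, nat_lit 14, nat_lit 12, nat_lit 14, nat_lit 12, nat_lit 13]),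
  ((nat_lit 1), [nat_lit 9, nat_lit 11, nat_lit 12, nat_lit 13, nat_lit 12, nat_lit 14, nat_lit 12, nat_lit 11, nat_lit 11, nat_lit 12, nat_lit 14, nat_lit 14, nat_lit 9, nat_lit 9, nat_lit 14, nat_lit 14, nat_lit 9, nat_lit 11, nat_lit 12, nat_lit 11, nat_lit 12, nat_lit 12, nat_lit 12, nat_lit 11, nat_lit 12, nat_lit 11, nat_lit 12, nat_lit 10, nat_lit 10, nat_lit 9, nat_lit 14, nat_lit 12, nat_lit 10, nat_lit 9, nat_lit 11, nat_lit 9, nat_lit 9, nat_lit 14, nat_lit 13, nat_lit 9, nat_lit 14, nat_lit 12, nat_lit 14, nat_lit 12]),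
  ((nat_lit 2), [nat_lit 11, nat_lit 12, nat_lit 12, nat_lit 13, nat_lit 12, nat_lit 14, nat_lit 14, nat_lit 9, nat_lit 11, nat_lit 12, nat_lit 11, nat_lit 10, nat_lit 12, nat_lit 14, nat_lit 13, nat_lit 9, nat_lit 14, nat_lit 12, nat_lit 12, nat_lit 14, nat_lit 9, nat_lit 10, nat_lit 12, nat_lit 11, nat_lit 12, nat_lit 13, nat_lit 9, nat_lit 14, nat_lit 10, nat_lit 10, nat_lit 14, nat_lit 12, nat_lit 12, nat_lit 14, nat_lit 9, nat_lit 11, nat_lit 12, nat_lit 12, nat_lit 10, nat_lit 12, nat_lit 11, nat_lit 9, nat_lit 14, nat_lit 9, nat_lit 9, nat_lit 10, nat_lit 10, nat_lit 11, nat_lit 10, nat_lit 9, nat_lit 11, nat_lit 12, nat_lit 10, nat_lit 14, nat_lit 9, nat_lit 10, nat_lit 11, nat_lit 9, nat_lit 14, nat_lit 14, nat_lit 9, nat_lit 10, nat_lit 10, nat_lit 9, nat_lit 11, nat_lit 12]),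
  ((nat_lit 3), [nat_lit 14, nat_lit 9, nat_lit 10, nat_lit 10, nat_lit 11, nat_lit 12, nat_lit 11, nat_lit 13, nat_lit 12, nat_lit 11, nat_lit 12, nat_lit 13, nat_lit 12, nat_lit 12, nat_lit 14, nat_lit 14, nat_lit 9, nat_lit 10, nat_lit 12, nat_lit 14, nat_lit 14, nat_lit 12, nat_lit 10, nat_lit 12, nat_lit 11, nat_lit 9, nat_lit 11, nat_lit 12, nat_lit 11, nat_lit 13, nat_lit 11, nat_lit 9, nat_lit 10, nat_lit 10, nat_lit 14, nat_lit 12, nat_lit 11, nat_lit 9, nat_lit 14, nat_lit 9, nat_lit 13, nat_lit 9, nat_lit 11, nat_lit 12, nat_lit 10, nat_lit 14, nat_lit 13, nat_lit 12, nat_lit 12, nat_lit 11, nat_lit 9, nat_lit 9, nat_lit 11, nat_lit 9, nat_lit 9, nat_lit 14, nat_lit 9, nat_lit 11, nat_lit 12, nat_lit 11, nat_lit 9, nat_lit 9, nat_lit 13, nat_lit 13, nat_lit 14, nat_lit 12, nat_lit 11, nat_lit 9, nat_lit 14, nat_lit 10, nat_lit 9, nat_lit 14, nat_lit 9, nat_lit 13, nat_lit 14, nat_lit 10, nat_lit 14, nat_lit 12, nat_lit 12, nat_lit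 14, nat_lit 14, nat_lit 9, nat_lit 9, nat_lit 14, nat_lit 9, nat_lit 11, nat_lit 10, nat_lit 9, nat_lit 11, nat_lit 9, nat_lit 13, nat_lit 9, nat_lit 11, nat_lit 13, nat_lit 11]),
  ((nat_lit 4), [nat_lit 10, nat_lit 9, nat_lit 14, nat_lit 12, nat_lit 12, nat_lit 14, nat_lit 9, nat_lit 11, nat_lit 9, nat_lit 10, nat_lit 10, nat_lit 9, nat_lit 14, nat_lit 14, nat_lit 12, nat_lit 11, nat_lit 9, nat_lit 14, nat_lit 14, nat_lit 10, nat_lit 11, nat_lit 9, nat_lit 10, nat_lit 11, nat_lit 12, nat_lit 11, nat_lit 12, nat_lit 12, nat_lit 11, nat_lit 9, nat_lit 11, nat_lit 11, nat_lit 12, nat_lit 10, nat_lit 9, nat_lit 11, nat_lit 13, nat_lit 12, nat_lit 14, nat_lit 10, nat_lit 9, nat_lit 14, nat_lit 12, nat_lit 10, nat_lit 12, nat_lit 12, nat_lit 11, nat_lit 13, nat_lit 12, nat_lit 14, nat_lit 13, nat_lit 9, nat_lit 10, nat_lit 12, nat_lit 11, nat_lit 13]),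
  ((nat_lit 5), [nat_lit 13, nat_lit 13, nat_lit 9, nat_lit 11, nat_lit 12, nat_lit 13, nat_lit 12, nat_lit 14, nat_lit 12, nat_lit 11, nat_lit 11, nat_lit 12, nat_lit 14, nat_lit 14, nat_lit 9, nat_lit 9, nat_lit 14, nat_lit 14, nat_lit 9, nat_lit 11, nat_lit 12, nat_lit 11, nat_lit 12, nat_lit 12, nat_lit 12, nat_lit 11, nat_lit 12, nat_lit 11, nat_lit 12, nat_lit 10, nat_lit 10, nat_lit 9, nat_lit 14, nat_lit 12, nat_lit 10, nat_lit 9, nat_lit 11, nat_lit 9, nat_lit 9, nat_lit 14, nat_lit 13, nat_lit 9, nat_lit 14, nat_lit 12, nat_lit 14, nat_lit 12, nat_lit 10, nat_lit 10]),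
  ((nat_lit 6), [nat_lit 9, nat_lit 14, nat_lit 12, nat_lit 12, nat_lit 14, nat_lit 9, nat_lit 11, nat_lit 9, nat_lit 10, nat_lit 10, nat_lit 9, nat_lit 14, nat_lit 14, nat_lit 12, nat_lit 11, nat_lit 9, nat_lit 14, nat_lit 14, nat_lit 10, nat_lit 11, nat_lit 9, nat_lit 10, nat_lit 11, nat_lit 12, nat_lit 11, nat_lit 12, nat_lit 12, nat_lit 11, nat_lit 9, nat_lit 11, nat_lit 11, nat_lit 12, nat_lit 10, nat_lit 9, nat_lit 11, nat_lit 13, nat_lit 12, nat_lit 14, nat_lit 10, nat_lit 9, nat_lit 14, nat_lit 12, nat_lit 10, nat_lit 12, nat_lit 12, nat_lit 11, nat_lit 13, nat_lit 12, nat_lit 14, nat_lit 13, nat_lit 9, nat_lit 10, nat_lit 12, nat_lit 11]),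
  ((nat_lit 7), [nat_lit 10, nat_lit 9, nat_lit 13, nat_lit 14, nat_lit 12, nat_lit 10, nat_lit 11, nat_lit 12, nat_lit 14, nat_lit 9, nat_lit 10, nat_lit 14, nat_lit 14, nat_lit 9, nat_lit 14, nat_lit 9, nat_lit 11, nat_lit 12, nat_lit 14, nat_lit 14, nat_lit 9, nat_lit 11, nat_lit 9, nat_lit 10, nat_lit 11, nat_lit 9, nat_lit 11, nat_lit 10, nat_lit 9, nat_lit 9, nat_lit 10, nat_lit 10, nat_lit 12, nat_lit 11, nat_lit 12, nat_lit 14, nat_lit 12, nat_lit 11, nat_lit 10, nat_lit 9, nat_lit 10, nat_lit 9, nat_lit 10, nat_lit 12, nat_lit 14, nat_lit 9, nat_lit 14, nat_lit 12, nat_lit 13, nat_lit 9, nat_lit 13, nat_lit 9, nat_lit 11, nat_lit 10, nat_lit 11, nat_lit 12, nat_lit 14, nat_lit 9, nat_lit 14, nat_lit 14, nat_lit 12, nat_lit 11, nat_lit 9, nat_lit 9, nat_lit 11, nat_lit 13, nat_lit 9, nat_lit 13, nat_lit 14, nat_lit 9, nat_lit 11, nat_lit 10, nat_lit 12, nat_lit 12, nat_lit 14, nat_lit 12, nat_lit 13, nat_lit 14, nat_lit 9, nat_lit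 14, nat_lit 13, nat_lit 14, nat_lit 12, nat_lit 14, nat_lit 13, nat_lit 12, nat_lit 12, nat_lit 13, nat_lit 14, nat_lit 9, nat_lit 11, nat_lit 12, nat_lit 11, nat_lit 9, nat_lit 11, nat_lit 9, nat_lit 13, nat_lit 12, nat_lit 14, nat_lit 9, nat_lit 14, nat_lit 12, nat_lit 14, nat_lit 14, nat_lit 12, nat_lit 14, nat_lit 12, nat_lit 14, nat_lit 10, nat_lit 9, nat_lit 11, nat_lit 13, nat_lit 9, nat_lit 14, nat_lit 9, nat_lit 9, nat_lit 14, nat_lit 9, nat_lit 14, nat_lit 12, nat_lit 11, nat_lit 11, nat_lit 12, nat_lit 13]),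
  ((nat_lit 8), [nat_lit 14, nat_lit 12, nat_lit 11, nat_lit 10, nat_lit 10, nat_lit 9, nat_lit 14, nat_lit 9, nat_lit 10, nat_lit 9, nat_lit 9, nat_lit 14, nat_lit 12, nat_lit 10, nat_lit 9, nat_lit 14, nat_lit 14, nat_lit 9, nat_lit 11, nat_lit 10, nat_lit 9, nat_lit 11, nat_lit 9, nat_lit 9, nat_lit 14, nat_lit 12, nat_lit 14, nat_lit 12, nat_lit 14, nat_lit 12, nat_lit 14, nat_lit 12, nat_lit 12, nat_lit 10, nat_lit 11, nat_lit 12, nat_lit 10, nat_lit 14, nat_lit 9, nat_lit 11, nat_lit 9, nat_lit 11, nat_lit 12, nat_lit 11, nat_lit 12, nat_lit 11, nat_lit 11, nat_lit 12, nat_lit 14, nat_lit 9, nat_lit 10, nat_lit 12, nat_lit 14, nat_lit 12, nat_lit 14, nat_lit 9, nat_lit 14, nat_lit 12, nat_lit 11, nat_lit 10, nat_lit 9, nat_lit 9, nat_lit 10, nat_lit 11, nat_lit 9, nat_lit 11, nat_lit 10, nat_lit 11, nat_lit 12, nat_lit 11, nat_lit 10])] = true := by decide +kernel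
theorem ic_0 : allZ (D.inn H16.PFi22.P H16.PFi22.B 313) (nat_lit 0) (nat_lit 34) = true := by decide +kernel
theorem ic_1 : allZ (D.inn H16.PFi22.P H16.PFi22.B 313) (nat_lit 34) (nat_lit 34) = true := by decide +kernel
theorem ic_2 : allZ (D.inn H16.PFi22.P H16.PFi22.B 313) (nat_lit 68) (nat_lit 34) = true := by decide +kernel
theorem ic_3 : allZ (D.inn H16.PFi22.P H16.PFi22.B 313) (nat_lit 102) (nat_lit 34) = true := by decide +kernel
theorem ic_4 : allZ (D.inn H16.PFi22.P H16.PFi22.B 313) (nat_lit 136) (nat_lit 34) = true := by decide +kernel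
theorem ic_5 : allZ (D.inn H16.PFi22.P H16.PFi22.B 313) (nat_lit 170) (nat_lit 34) = true := by decide +kernel
theorem ic_6 : allZ (D.inn H16.PFi22.P H16.PFi22.B 313) (nat_lit 204) (nat_lit 12) = true := by decide +kernel
theorem bc1 : D.subChk H16.PFi22.P 9 H16.PFi22.B Wb 313 = true := by decide +kernel
theorem bc2 : allL (fixL (wdsP H16.PFi22.P Wb) 9 H16.PFi22.B) H16.PFi22.Rl = true := by decide +kernel

theorem ov0 : lv0.Orb H16.PFi22.g (ptF 3510) 3510 := Lv.orb_scan H16.PFi22.act (by decide +kernel) (sum_first ov0_0)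
theorem ov1 : lv1.Orb H16.PFi22.g (ptF 3510) 3510 := Lv.orb_scan H16.PFi22.act (by decide +kernel) (sum_step (sum_first ov1_0) ov1_3264)
theorem ov2 : lv2.Orb H16.PFi22.g (ptF 3510) 3510 := Lv.orb_scan H16.PFi22.act (by decide +kernel) (sum_first ov2_0)
theorem ov3 : lv3.Orb H16.PFi22.g (ptF 3510) 3510 := Lv.orb_scan H16.PFi22.act (by decide +kernel) (sum_first ov3_0)
theorem ov4 : lv4.Orb H16.PFi22.g (ptF 3510) 3510 := Lv.orb_scan H16.PFi22.act (by decide +kernel) (sum_first ov4_0)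
theorem ov5 : lv5.Orb H16.PFi22.g (ptF 3510) 3510 := Lv.orb_lst H16.PFi22.act ov5c
theorem ovx1 : lvx1.Orb H16.PFi22.g (ptF 3510) 3510 := Lv.orb_lst (S := [2601]) H16.PFi22.act (by decide +kernel)
theorem exv : ExC H16.PFi22.g (ptF 3510) 3510 9 LLv (gen H16.PFi22.g 9) := exC_of H16.PFi22.act (ptF_inj 3510) H16.PFi22.card (all_cons ov0 (all_cons ov1 (all_cons ov2 (all_cons ov3 (all_cons ov4 (all_cons ov5 (all_cons ovx1 all_nil))))))) lcv
theorem cev_g0 : ∀ i < 1024, (cenEnt H16.PFi22.P V LLv Apv (nat_lit 12)) i = 0 := allZ_sound0 cev_0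
theorem cev_g1 : ∀ i < 2048, (cenEnt H16.PFi22.P V LLv Apv (nat_lit 12)) i = 0 := range_glue cev_g0 cev_1
theorem cev_g2 : ∀ i < 3072, (cenEnt H16.PFi22.P V LLv Apv (nat_lit 12)) i = 0 := range_glue cev_g1 cev_2
theorem cev : ∀ i < 3510, (cenEnt H16.PFi22.P V LLv Apv (nat_lit 12)) i = 0 := range_glue cev_g2 cev_3
theorem cenv {a} (hg : a ∈ gen H16.PFi22.g 9) (h : a * evA H16.PFi22.g V = evA H16.PFi22.g V * a) :
    ∃ j : ℤ, ∃ E ∈ Accv, a = evA H16.PFi22.g V ^ j * evA H16.PFi22.g E :=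
  cen_sound H16.PFi22.act H16.PFi22.Blt H16.PFi22.isBase exv ccv cev hg h
theorem ow0 : lw0.Orb H16.PFi22.g (ptF 3510) 3510 := Lv.orb_scan H16.PFi22.act (by decide +kernel) (sum_first ow0_0)
theorem ow1 : lw1.Orb H16.PFi22.g (ptF 3510) 3510 := Lv.orb_scan H16.PFi22.act (by decide +kernel) (sum_step (sum_first ow1_0) ow1_2816)
theorem ow2 : lw2.Orb H16.PFi22.g (ptF 3510) 3510 := Lv.orb_scan H16.PFi22.act (by decide +kernel) (sum_first ow2_0)
theorem ow3 : lw3.Orb H16.PFi22.g (ptF 3510) 3510 := Lv.orb_scan H16.PFi22.act (by decide +kernel) (sum_step (sum_step (sum_first ow3_0) ow3_1408) ow3_2816)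
theorem ow4 : lw4.Orb H16.PFi22.g (ptF 3510) 3510 := Lv.orb_lst H16.PFi22.act ow4c
theorem ow5 : lw5.Orb H16.PFi22.g (ptF 3510) 3510 := Lv.orb_lst H16.PFi22.act ow5c
theorem exw : ExC H16.PFi22.g (ptF 3510) 3510 9 LLw (gen H16.PFi22.g 9) := exC_of H16.PFi22.act (ptF_inj 3510) H16.PFi22.card (all_cons ow0 (all_cons ow1 (all_cons ow2 (all_cons ow3 (all_cons ow4 (all_cons ow5 all_nil)))))) lcw
theorem cew_g0 : ∀ i < 576, (cenEnt H16.PFi22.P W LLw Apw (nat_lit 5)) i = 0 := allZ_sound0 cew_0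
theorem cew_g1 : ∀ i < 1152, (cenEnt H16.PFi22.P W LLw Apw (nat_lit 5)) i = 0 := range_glue cew_g0 cew_1
theorem cew_g2 : ∀ i < 1728, (cenEnt H16.PFi22.P W LLw Apw (nat_lit 5)) i = 0 := range_glue cew_g1 cew_2
theorem cew_g3 : ∀ i < 2304, (cenEnt H16.PFi22.P W LLw Apw (nat_lit 5)) i = 0 := range_glue cew_g2 cew_3
theorem cew_g4 : ∀ i < 2880, (cenEnt H16.PFi22.P W LLw Apw (nat_lit 5)) i = 0 := range_glue cew_g3 cew_4
theorem cew_g5 : ∀ i < 3456, (cenEnt H16.PFi22.P W LLw Apw (nat_lit 5)) i = 0 := range_glue cew_g4 cew_5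
theorem cew : ∀ i < 3510, (cenEnt H16.PFi22.P W LLw Apw (nat_lit 5)) i = 0 := range_glue cew_g5 cew_6
theorem cenw {a} (hg : a ∈ gen H16.PFi22.g 9) (h : a * evA H16.PFi22.g W = evA H16.PFi22.g W * a) :
    ∃ j : ℤ, ∃ E ∈ Accw, a = evA H16.PFi22.g W ^ j * evA H16.PFi22.g E :=
  cen_sound H16.PFi22.act H16.PFi22.Blt H16.PFi22.isBase exw ccw cew hg h
theorem ar : D.ar 64561751654400 :=
  ⟨by norm_num [D], by decide +kernel, by decide +kernel, by decide +kernel, by decide +kernel, by decide +kernel, by decide +kernel⟩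
theorem fl_g0 : ∀ i < 24, (D.fail H16.PFi22.P [0, 313]) i = 0 := allZ_sound0 fl_0
theorem fl_g1 : ∀ i < 48, (D.fail H16.PFi22.P [0, 313]) i = 0 := range_glue fl_g0 fl_1
theorem fl_g2 : ∀ i < 72, (D.fail H16.PFi22.P [0, 313]) i = 0 := range_glue fl_g1 fl_2
theorem fl_g3 : ∀ i < 96, (D.fail H16.PFi22.P [0, 313]) i = 0 := range_glue fl_g2 fl_3
theorem fl_g4 : ∀ i < 120, (D.fail H16.PFi22.P [0, 313]) i = 0 := range_glue fl_g3 fl_4
theorem fl_g5 : ∀ i < 144, (D.fail H16.PFi22.P [0, 313]) i = 0 := range_glue fl_g4 fl_5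
theorem fl_g6 : ∀ i < 168, (D.fail H16.PFi22.P [0, 313]) i = 0 := range_glue fl_g5 fl_6
theorem fl_g7 : ∀ i < 192, (D.fail H16.PFi22.P [0, 313]) i = 0 := range_glue fl_g6 fl_7
theorem fl_g8 : ∀ i < 216, (D.fail H16.PFi22.P [0, 313]) i = 0 := range_glue fl_g7 fl_8
theorem fl_g9 : ∀ i < 240, (D.fail H16.PFi22.P [0, 313]) i = 0 := range_glue fl_g8 fl_9
theorem fl_g10 : ∀ i < 264, (D.fail H16.PFi22.P [0, 313]) i = 0 := range_glue fl_g9 fl_10
theorem fl_g11 : ∀ i < 288, (D.fail H16.PFi22.P [0, 313]) i = 0 := range_glue fl_g10 fl_11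
theorem fl_g12 : ∀ i < 312, (D.fail H16.PFi22.P [0, 313]) i = 0 := range_glue fl_g11 fl_12
theorem fl_g13 : ∀ i < 336, (D.fail H16.PFi22.P [0, 313]) i = 0 := range_glue fl_g12 fl_13
theorem fl_g14 : ∀ i < 360, (D.fail H16.PFi22.P [0, 313]) i = 0 := range_glue fl_g13 fl_14
theorem fl_g15 : ∀ i < 384, (D.fail H16.PFi22.P [0, 313]) i = 0 := range_glue fl_g14 fl_15
theorem fl_g16 : ∀ i < 408, (D.fail H16.PFi22.P [0, 313]) i = 0 := range_glue fl_g15 fl_16
theorem fl : ∀ i < 432, (D.fail H16.PFi22.P [0, 313]) i = 0 := range_glue fl_g16 fl_17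
theorem hg (A) (h : ∀ i < 3, evA H16.PFi22.g (nth [] [D.X, D.W, D.S] i) ∈ A) : gen H16.PFi22.g 9 ≤ A :=
  slpX_sound H16.PFi22.act H16.PFi22.Blt H16.PFi22.isBase gc le_rfl (Nat.zero_le _) (by rw [gen_zero]; exact bot_le) fun i hi => by
    obtain rfl | rfl | rfl : i = 0 ∨ i = 1 ∨ i = 2 := by omega
    exacts [h 0 hi, h 1 hi, h 2 hi]
theorem ic_g0 : ∀ i < 34, (D.inn H16.PFi22.P H16.PFi22.B 313) i = 0 := allZ_sound0 ic_0
theorem ic_g1 : ∀ i < 68, (D.inn H16.PFi22.P H16.PFi22.B 313) i = 0 := range_glue ic_g0 ic_1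
theorem ic_g2 : ∀ i < 102, (D.inn H16.PFi22.P H16.PFi22.B 313) i = 0 := range_glue ic_g1 ic_2
theorem ic_g3 : ∀ i < 136, (D.inn H16.PFi22.P H16.PFi22.B 313) i = 0 := range_glue ic_g2 ic_3
theorem ic_g4 : ∀ i < 170, (D.inn H16.PFi22.P H16.PFi22.B 313) i = 0 := range_glue ic_g3 ic_4
theorem ic_g5 : ∀ i < 204, (D.inn H16.PFi22.P H16.PFi22.B 313) i = 0 := range_glue ic_g4 ic_5
theorem ic : ∀ i < 216, (D.inn H16.PFi22.P H16.PFi22.B 313) i = 0 := range_glue ic_g5 ic_6
theorem out : Nat.card (Cfsg.Out (gen H16.PFi22.g 9)) = 2 :=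
  D.two H16.PFi22.act (ptF_inj 3510) H16.PFi22.Blt H16.PFi22.isBase H16.PFi22.card (by decide) dc ar cenv cenw fl hg (D.of_rels H16.PFi22.act (ptF_inj 3510) H16.PFi22.Blt H16.PFi22.isBase H16.PFi22.card dc ar H16.PFi22.rels H16.PFi22.bound H16.PFi22.simple bc1 bc2) ic

end H16.OFi22
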