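import Cfsg.Agent.H16.Out
import Cfsg.Agent.H16.T.Fi23

/-! Generated by tools/h16 (computation kit). -/

set_option maxRecDepth 100000
set_option maxHeartbeats 0

namespace H16.OFi23

open scoped Pointwise
noncomputable def V : List ℕ := [nat_lit 13]
noncomputable def W : List ℕ := [nat_lit 14]
noncomputable def LLv : List Lv := [H16.TFi23.lv0 (nat_lit 0), H16.TFi23.lv1 (nat_lit 5), H16.TFi23.kv0 (nat_lit 10), H16.TFi23.kv1 (nat_lit 12), H16.TFi23.kv2 (nat_lit 14), H16.TFi23.kv3 (nat_lit 11)]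
noncomputable def Accv : List (List ℕ) := [[]]
noncomputable def Apv : List ℕ := [nat_lit 0]
noncomputable def LLw : List Lv := [H16.TFi23.lv0 (nat_lit 0), H16.TFi23.lv1 (nat_lit 12), H16.TFi23.kw0 (nat_lit 4), H16.TFi23.kw1 (nat_lit 8), H16.TFi23.kw2 (nat_lit 11), H16.TFi23.kw3 (nat_lit 6)]
noncomputable def Accw : List (List ℕ) := [[],
  [nat_lit 10, nat_lit 9, nat_lit 13, nat_lit 12, nat_lit 5, nat_lit 13, nat_lit 1, nat_lit 4, nat_lit 9, nat_lit 8, nat_lit 9, nat_lit 8, nat_lit 7, nat_lit 3, nat_lit 4, nat_lit 5, nat_lit 10, nat_lit 8, nat_lit 9, nat_lit 8, nat_lit 10, nat_lit 5, nat_lit 4, nat_lit 3, nat_lit 7, nat_lit 8, nat_lit 9, nat_lit 8, nat_lit 7, nat_lit 0, nat_lit 1, nat_lit 0, nat_lit 10, nat_lit 1, nat_lit 2, nat_lit 3, nat_lit 8, nat_lit 7, nat_lit 2, nat_lit 3, nat_lit 4, nat_lit 3, nat_lit 2, nat_lit 7, nat_lit 8, nat_lit 3, nat_lit 2, nat_lit 1, nat_lit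 10, nat_lit 0, nat_lit 1, nat_lit 0, nat_lit 1, nat_lit 3, nat_lit 2, nat_lit 1, nat_lit 10, nat_lit 8, nat_lit 4, nat_lit 3, nat_lit 2, nat_lit 1, nat_lit 10, nat_lit 2, nat_lit 3, nat_lit 2, nat_lit 5, nat_lit 4, nat_lit 7, nat_lit 1, nat_lit 3, nat_lit 5, nat_lit 4, nat_lit 6, nat_lit 11]]
noncomputable def Apw : List ℕ := [nat_lit 0, nat_lit 3753]
noncomputable def D : OD := ⟨17, 3, 9, 3, 16, [1], V, [nat_lit 13, nat_lit 12, nat_lit 13, nat_lit 10, nat_lit 14, nat_lit 14, nat_lit 13, nat_lit 1, nat_lit 0, nat_lit 1, nat_lit 3, nat_lit 2, nat_lit 1, nat_lit 4, nat_lit 5, nat_lit 1, nat_lit 3, nat_lit 4, nat_lit 7, nat_lit 3, nat_lit 9, nat_lit 8, nat_lit 7, nat_lit 10, nat_lit 2, nat_lit 10, nat_lit 1, nat_lit 8, nat_lit 5, nat_lit 9, nat_lit 7, nat_lit 4, nat_lit 5, nat_lit 3, nat_lit 2, nat_lit 8, nat_lit 10, nat_lit 9, nat_lit 7, nat_lit 3, nat_lit 0, nat_lit 3, nat_lit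 10, nat_lit 1, nat_lit 8, nat_lit 2, nat_lit 3, nat_lit 5, nat_lit 10, nat_lit 6, nat_lit 4, nat_lit 5, nat_lit 6, nat_lit 1, nat_lit 0, nat_lit 1, nat_lit 3, nat_lit 5, nat_lit 4, nat_lit 6, nat_lit 5, nat_lit 4, nat_lit 9, nat_lit 10], [nat_lit 7, nat_lit 8, nat_lit 10, nat_lit 1, nat_lit 13, nat_lit 13, nat_lit 2, nat_lit 7, nat_lit 9, nat_lit 0, nat_lit 6, nat_lit 1, nat_lit 3, nat_lit 4, nat_lit 7, nat_lit 3, nat_lit 10, nat_lit 8, nat_lit 7, nat_lit 6, nat_lit 3, nat_lit 5, nat_lit 10, nat_lit 8, nat_lit 7, nat_lit 8, nat_lit 2, nat_lit 3, nat_lit 7, nat_lit 0, nat_lit 9, nat_lit 4, nat_lit 5, nat_lit 3, nat_lit 0, nat_lit 2, nat_lit 4, nat_lit 1, nat_lit 0, nat_lit 3, nat_lit 7, nat_lit 3, nat_lit 10, nat_lit 8, nat_lit 7, nat_lit 8, nat_lit 9, nat_lit 1, nat_lit 2, nat_lit 3, nat_lit 2, nat_lit 5, nat_lit 4, nat_lit 9, nat_lit 8, nat_lit 1, nat_lit 5, nat_lit 10, nat_lit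 2, nat_lit 6, nat_lit 4, nat_lit 11], W, [nat_lit 7, nat_lit 4, nat_lit 5, nat_lit 9, nat_lit 1, nat_lit 14, nat_lit 2, nat_lit 0, nat_lit 7, nat_lit 8, nat_lit 7, nat_lit 9, nat_lit 8, nat_lit 7, nat_lit 8, nat_lit 1, nat_lit 0, nat_lit 3, nat_lit 4, nat_lit 9, nat_lit 10, nat_lit 1, nat_lit 5, nat_lit 8, nat_lit 3, nat_lit 7, nat_lit 4, nat_lit 3, nat_lit 5, nat_lit 9, nat_lit 5, nat_lit 4, nat_lit 3, nat_lit 1, nat_lit 9, nat_lit 8, nat_lit 10, nat_lit 7, nat_lit 10, nat_lit 7, nat_lit 8, nat_lit 9, nat_lit 1, nat_lit 6, nat_lit 0, nat_lit 9, nat_lit 7, nat_lit 2, nat_lit 3, nat_lit 4, nat_lit 5, nat_lit 10, nat_lit 8, nat_lit 9, nat_lit 8, nat_lit 10, nat_lit 5, nat_lit 4, nat_lit 3, nat_lit 8, nat_lit 4, nat_lit 6, nat_lit 1, nat_lit 2, nat_lit 3, nat_lit 7, nat_lit 9, nat_lit 8, nat_lit 2, nat_lit 3, nat_lit 7, nat_lit 3, nat_lit 1, nat_lit 3, nat_lit 2, nat_lit 1, nat_lit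 5, nat_lit 4, nat_lit 6, nat_lit 11], Accw,
  [([nat_lit 1, nat_lit 2, nat_lit 1, nat_lit 2], (nat_lit 2)), ([nat_lit 0, nat_lit 2, nat_lit 1, nat_lit 1, nat_lit 1, nat_lit 1, nat_lit 1], (nat_lit 9))], (nat_lit 0)⟩

theorem lcv : lowChk H16.TFi23.P 31671 15 LLv [] = 0 ∧ prodN LLv = 4089470473293004800 ∧ 0 < 4089470473293004800 := by decide +kernel
theorem ccv : cenChk H16.TFi23.P 31671 15 H16.TFi23.B V V (nat_lit 0) LLv Accv Apv = true := by decide +kernel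
theorem cev_0 : allZ (cenEnt H16.TFi23.P V LLv Apv (nat_lit 16)) (nat_lit 0) (nat_lit 5120) = true := by decide +kernel
theorem cev_1 : allZ (cenEnt H16.TFi23.P V LLv Apv (nat_lit 16)) (nat_lit 5120) (nat_lit 5120) = true := by decide +kernel
theorem cev_2 : allZ (cenEnt H16.TFi23.P V LLv Apv (nat_lit 16)) (nat_lit 10240) (nat_lit 5120) = true := by decide +kernel
theorem cev_3 : allZ (cenEnt H16.TFi23.P V LLv Apv (nat_lit 16)) (nat_lit 15360) (nat_lit 5120) = true := by decide +kernel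
theorem cev_4 : allZ (cenEnt H16.TFi23.P V LLv Apv (nat_lit 16)) (nat_lit 20480) (nat_lit 5120) = true := by decide +kernel
theorem cev_5 : allZ (cenEnt H16.TFi23.P V LLv Apv (nat_lit 16)) (nat_lit 25600) (nat_lit 5120) = true := by decide +kernel
theorem cev_6 : allZ (cenEnt H16.TFi23.P V LLv Apv (nat_lit 16)) (nat_lit 30720) (nat_lit 951) = true := by decide +kernel
theorem lcw : lowChk H16.TFi23.P 31671 15 LLw [] = 0 ∧ prodN LLw = 4089470473293004800 ∧ 0 < 4089470473293004800 := by decide +kernel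
theorem ccw : cenChk H16.TFi23.P 31671 15 H16.TFi23.B W W (nat_lit 0) LLw Accw Apw = true := by decide +kernel
theorem cew_0 : allZ (cenEnt H16.TFi23.P W LLw Apw (nat_lit 15)) (nat_lit 0) (nat_lit 3648) = true := by decide +kernel
theorem cew_1 : allZ (cenEnt H16.TFi23.P W LLw Apw (nat_lit 15)) (nat_lit 3648) (nat_lit 3648) = true := by decide +kernel
theorem cew_2 : allZ (cenEnt H16.TFi23.P W LLw Apw (nat_lit 15)) (nat_lit 7296) (nat_lit 3648) = true := by decide +kernel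
theorem cew_3 : allZ (cenEnt H16.TFi23.P W LLw Apw (nat_lit 15)) (nat_lit 10944) (nat_lit 3648) = true := by decide +kernel
theorem cew_4 : allZ (cenEnt H16.TFi23.P W LLw Apw (nat_lit 15)) (nat_lit 14592) (nat_lit 3648) = true := by decide +kernel
theorem cew_5 : allZ (cenEnt H16.TFi23.P W LLw Apw (nat_lit 15)) (nat_lit 18240) (nat_lit 3648) = true := by decide +kernel
theorem cew_6 : allZ (cenEnt H16.TFi23.P W LLw Apw (nat_lit 15)) (nat_lit 21888) (nat_lit 3648) = true := by decide +kernel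
theorem cew_7 : allZ (cenEnt H16.TFi23.P W LLw Apw (nat_lit 15)) (nat_lit 25536) (nat_lit 3648) = true := by decide +kernel
theorem cew_8 : allZ (cenEnt H16.TFi23.P W LLw Apw (nat_lit 15)) (nat_lit 29184) (nat_lit 2487) = true := by decide +kernel
theorem dc : D.chk H16.TFi23.P 31671 15 H16.TFi23.B = true := by decide +kernel
theorem fl_0 : allZ (D.fail H16.TFi23.P [0]) (nat_lit 0) (nat_lit 21) = true := by decide +kernel
theorem fl_1 : allZ (D.fail H16.TFi23.P [0]) (nat_lit 21) (nat_lit 11) = true := by decide +kernel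
theorem gc : slpX H16.TFi23.P 15 H16.TFi23.B 15 0 3 [D.X, D.W, D.S, [nat_lit 4, nat_lit 5, nat_lit 2, nat_lit 4, nat_lit 3, nat_lit 7, nat_lit 3, nat_lit 4, nat_lit 2, nat_lit 3, nat_lit 1, nat_lit 5, nat_lit 4, nat_lit 10, nat_lit 7, nat_lit 5, nat_lit 6, nat_lit 5, nat_lit 0, nat_lit 9, nat_lit 8, nat_lit 10, nat_lit 8, nat_lit 9, nat_lit 2, nat_lit 6, nat_lit 1, nat_lit 0, nat_lit 2, nat_lit 1, nat_lit 3, nat_lit 2, nat_lit 4, nat_lit 7, nat_lit 2, nat_lit 3, nat_lit 5, nat_lit 9, nat_lit 8, nat_lit 10, nat_lit 7, nat_lit 3, nat_lit 1, nat_lit 7, nat_lit 10, nat_lit 8, nat_lit 9, nat_lit 5, nat_lit 2, nat_lit 3, nat_lit 5, nat_lit 6, nat_lit 2, nat_lit 1, nat_lit 7, nat_lit 10, nat_lit 8, nat_lit 0, nat_lit 2, nat_lit 1, nat_lit 10, nat_lit 3, nat_lit 4, nat_lit 10, nat_lit 8, nat_lit 7, nat_lit 3, nat_lit 0, nat_lit 2, nat_lit 10, nat_lit 8, nat_lit 5, nat_lit 4, nat_lit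 9, nat_lit 8, nat_lit 3, nat_lit 4, nat_lit 7, nat_lit 3, nat_lit 8, nat_lit 9, nat_lit 4, nat_lit 5, nat_lit 3], [nat_lit 0, nat_lit 6, nat_lit 7, nat_lit 2, nat_lit 5, nat_lit 4, nat_lit 9, nat_lit 8, nat_lit 3, nat_lit 4, nat_lit 7, nat_lit 3, nat_lit 8, nat_lit 9, nat_lit 4, nat_lit 5, nat_lit 4, nat_lit 5, nat_lit 9, nat_lit 5, nat_lit 3, nat_lit 4, nat_lit 10, nat_lit 5, nat_lit 4, nat_lit 1, nat_lit 2, nat_lit 3, nat_lit 0, nat_lit 6, nat_lit 4, nat_lit 1, nat_lit 0, nat_lit 1, nat_lit 9, nat_lit 8, nat_lit 10, nat_lit 8, nat_lit 9, nat_lit 1, nat_lit 10, nat_lit 1, nat_lit 2, nat_lit 0, nat_lit 8, nat_lit 10, nat_lit 9, nat_lit 4, nat_lit 1, nat_lit 0, nat_lit 1, nat_lit 3, nat_lit 4, nat_lit 7, nat_lit 3, nat_lit 10, nat_lit 8, nat_lit 7, nat_lit 3, nat_lit 2, nat_lit 1, nat_lit 3, nat_lit 2, nat_lit 5, nat_lit 4, nat_lit 10, nat_lit 11], [nat_lit 4, nat_lit 6, nat_lit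 10, nat_lit 5, nat_lit 2, nat_lit 3, nat_lit 1, nat_lit 0, nat_lit 2, nat_lit 3, nat_lit 5, nat_lit 9, nat_lit 8, nat_lit 7, nat_lit 4, nat_lit 1, nat_lit 3, nat_lit 2, nat_lit 5, nat_lit 10, nat_lit 7, nat_lit 4, nat_lit 3, nat_lit 2, nat_lit 0, nat_lit 10, nat_lit 3, nat_lit 1, nat_lit 2, nat_lit 7, nat_lit 8, nat_lit 10, nat_lit 8, nat_lit 4, nat_lit 3, nat_lit 8, nat_lit 10, nat_lit 7, nat_lit 8, nat_lit 1, nat_lit 10, nat_lit 6, nat_lit 1, nat_lit 3, nat_lit 9, nat_lit 8, nat_lit 7, nat_lit 10, nat_lit 3, nat_lit 5, nat_lit 6, nat_lit 9, nat_lit 8, nat_lit 0, nat_lit 5, nat_lit 4, nat_lit 3, nat_lit 7, nat_lit 0, nat_lit 5, nat_lit 7, nat_lit 9, nat_lit 11], [nat_lit 7, nat_lit 3, nat_lit 5, nat_lit 4, nat_lit 9, nat_lit 8, nat_lit 3, nat_lit 7, nat_lit 4, nat_lit 3, nat_lit 8, nat_lit 9, nat_lit 4, nat_lit 5, nat_lit 6, nat_lit 0, nat_lit 9, nat_lit 7, nat_lit 2, nat_lit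 8, nat_lit 0, nat_lit 3, nat_lit 9, nat_lit 1, nat_lit 3, nat_lit 2, nat_lit 7, nat_lit 8, nat_lit 5, nat_lit 4, nat_lit 9, nat_lit 8, nat_lit 3, nat_lit 4, nat_lit 7, nat_lit 3, nat_lit 8, nat_lit 9, nat_lit 4, nat_lit 5, nat_lit 3, nat_lit 1, nat_lit 6, nat_lit 2, nat_lit 1, nat_lit 8, nat_lit 5, nat_lit 7, nat_lit 8, nat_lit 9, nat_lit 0, nat_lit 2, nat_lit 1, nat_lit 8, nat_lit 10, nat_lit 4, nat_lit 5, nat_lit 1, nat_lit 4, nat_lit 6, nat_lit 3, nat_lit 2, nat_lit 1, nat_lit 3, nat_lit 4, nat_lit 10, nat_lit 1]]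
  [((nat_lit 18), [nat_lit 15, nat_lit 17, nat_lit 15, nat_lit 16, nat_lit 17, nat_lit 16, nat_lit 15, nat_lit 17, nat_lit 17, nat_lit 15, nat_lit 16, nat_lit 17, nat_lit 17, nat_lit 16]),
  ((nat_lit 19), [nat_lit 15, nat_lit 17, nat_lit 17, nat_lit 15, nat_lit 17, nat_lit 16, nat_lit 17, nat_lit 16, nat_lit 15, nat_lit 16]),
  ((nat_lit 20), [nat_lit 18]),
  ((nat_lit 21), [nat_lit 19]),
  ((nat_lit 11), [nat_lit 20, nat_lit 20, nat_lit 20, nat_lit 20, nat_lit 20, nat_lit 20, nat_lit 20, nat_lit 20, nat_lit 20, nat_lit 20, nat_lit 20, nat_lit 20, nat_lit 20]),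
  ((nat_lit 0), [nat_lit 20, nat_lit 20, nat_lit 21, nat_lit 21, nat_lit 20, nat_lit 19, nat_lit 18, nat_lit 21, nat_lit 20, nat_lit 20, nat_lit 21, nat_lit 21, nat_lit 20, nat_lit 19, nat_lit 20, nat_lit 21, nat_lit 18, nat_lit 21, nat_lit 18, nat_lit 21, nat_lit 20, nat_lit 20, nat_lit 20, nat_lit 19, nat_lit 18, nat_lit 21, nat_lit 21, nat_lit 18, nat_lit 21, nat_lit 21, nat_lit 21, nat_lit 20, nat_lit 20, nat_lit 19, nat_lit 18, nat_lit 18, nat_lit 19, nat_lit 18, nat_lit 21, nat_lit 21, nat_lit 18, nat_lit 21, nat_lit 18, nat_lit 19, nat_lit 19, nat_lit 20, nat_lit 20, nat_lit 21, nat_lit 20, nat_lit 21, nat_lit 20, nat_lit 21, nat_lit 18, nat_lit 21, nat_lit 18, nat_lit 21, nat_lit 21, nat_lit 18, nat_lit 18, nat_lit 21, nat_lit 18, nat_lit 18]),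
  ((nat_lit 1), [nat_lit 19, nat_lit 19, nat_lit 20, nat_lit 20, nat_lit 19, nat_lit 20, nat_lit 19, nat_lit 20, nat_lit 21, nat_lit 21, nat_lit 21, nat_lit 18, nat_lit 21, nat_lit 18, nat_lit 21, nat_lit 18, nat_lit 21, nat_lit 21, nat_lit 20, nat_lit 20, nat_lit 21, nat_lit 21, nat_lit 21, nat_lit 18, nat_lit 21, nat_lit 21, nat_lit 20, nat_lit 21, nat_lit 18, nat_lit 19, nat_lit 20, nat_lit 19, nat_lit 18, nat_lit 21, nat_lit 18, nat_lit 19, nat_lit 20, nat_lit 19, nat_lit 19, nat_lit 18, nat_lit 19, nat_lit 18, nat_lit 21, nat_lit 18, nat_lit 18, nat_lit 18, nat_lit 19, nat_lit 18, nat_lit 19, nat_lit 19, nat_lit 18, nat_lit 19, nat_lit 19, nat_lit 20, nat_lit 20, nat_lit 20, nat_lit 19, nat_lit 19, nat_lit 19, nat_lit 18, nat_lit 19, nat_lit 18, nat_lit 19, nat_lit 20, nat_lit 19, nat_lit 20, nat_lit 21, nat_lit 21, nat_lit 21, nat_lit 20, nat_lit 19, nat_lit 11]),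
  ((nat_lit 2), [nat_lit 18, nat_lit 19, nat_lit 19, nat_lit 19, nat_lit 18, nat_lit 18, nat_lit 18, nat_lit 18, nat_lit 19, nat_lit 18, nat_lit 21, nat_lit 21, nat_lit 20, nat_lit 21, nat_lit 20, nat_lit 21, nat_lit 20, nat_lit 19, nat_lit 19, nat_lit 19, nat_lit 18, nat_lit 19, nat_lit 18, nat_lit 21, nat_lit 21, nat_lit 20, nat_lit 20, nat_lit 19, nat_lit 18, nat_lit 19, nat_lit 20, nat_lit 20, nat_lit 20, nat_lit 21, nat_lit 20, nat_lit 21, nat_lit 18, nat_lit 18, nat_lit 18, nat_lit 18, nat_lit 19, nat_lit 18, nat_lit 21, nat_lit 18, nat_lit 21, nat_lit 20, nat_lit 20, nat_lit 20, nat_lit 19, nat_lit 20, nat_lit 19, nat_lit 18, nat_lit 18, nat_lit 18, nat_lit 19, nat_lit 19, nat_lit 19, nat_lit 18, nat_lit 18, nat_lit 18, nat_lit 19, nat_lit 19, nat_lit 18, nat_lit 11]),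
  ((nat_lit 3), [nat_lit 21, nat_lit 21, nat_lit 21, nat_lit 18, nat_lit 21, nat_lit 21, nat_lit 20, nat_lit 19, nat_lit 20, nat_lit 20, nat_lit 19, nat_lit 18, nat_lit 19, nat_lit 20, nat_lit 20, nat_lit 19, nat_lit 19, nat_lit 19, nat_lit 18, nat_lit 19, nat_lit 20, nat_lit 19, nat_lit 18, nat_lit 21, nat_lit 18, nat_lit 19, nat_lit 18, nat_lit 18, nat_lit 19, nat_lit 19, nat_lit 18, nat_lit 18, nat_lit 21, nat_lit 21, nat_lit 20, nat_lit 19, nat_lit 18, nat_lit 19, nat_lit 20, nat_lit 21, nat_lit 18, nat_lit 21, nat_lit 21, nat_lit 21, nat_lit 20, nat_lit 19, nat_lit 18, nat_lit 18, nat_lit 18, nat_lit 18, nat_lit 21, nat_lit 21, nat_lit 18, nat_lit 19, nat_lit 19, nat_lit 18, nat_lit 18, nat_lit 19, nat_lit 20, nat_lit 19, nat_lit 19, nat_lit 19]),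
  ((nat_lit 4), [nat_lit 21, nat_lit 18, nat_lit 18, nat_lit 18, nat_lit 21, nat_lit 18, nat_lit 18, nat_lit 19, nat_lit 19, nat_lit 18, nat_lit 19, nat_lit 18, nat_lit 18, nat_lit 21, nat_lit 21, nat_lit 21, nat_lit 20, nat_lit 20, nat_lit 20, nat_lit 19, nat_lit 18, nat_lit 21, nat_lit 20, nat_lit 19, nat_lit 20, nat_lit 21, nat_lit 21, nat_lit 20, nat_lit 19, nat_lit 19, nat_lit 19, nat_lit 18, nat_lit 18, nat_lit 19, nat_lit 20, nat_lit 20, nat_lit 19, nat_lit 18, nat_lit 21, nat_lit 21, nat_lit 20, nat_lit 19, nat_lit 19, nat_lit 18, nat_lit 19, nat_lit 20, nat_lit 21, nat_lit 18, nat_lit 21, nat_lit 20, nat_lit 20, nat_lit 19, nat_lit 11]),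
  ((nat_lit 5), [nat_lit 20, nat_lit 21, nat_lit 18, nat_lit 18, nat_lit 19, nat_lit 20, nat_lit 20, nat_lit 19, nat_lit 19, nat_lit 20, nat_lit 20, nat_lit 19, nat_lit 18, nat_lit 19, nat_lit 20, nat_lit 20, nat_lit 20, nat_lit 21, nat_lit 20, nat_lit 21, nat_lit 21, nat_lit 18, nat_lit 21, nat_lit 18, nat_lit 19, nat_lit 18, nat_lit 18, nat_lit 18, nat_lit 18, nat_lit 21, nat_lit 21, nat_lit 21, nat_lit 18, nat_lit 18, nat_lit 21, nat_lit 21, nat_lit 18, nat_lit 19, nat_lit 20, nat_lit 19, nat_lit 20, nat_lit 21, nat_lit 20, nat_lit 19, nat_lit 19, nat_lit 18, nat_lit 19, nat_lit 20, nat_lit 20, nat_lit 20, nat_lit 20, nat_lit 21, nat_lit 18, nat_lit 19, nat_lit 19, nat_lit 18, nat_lit 21, nat_lit 20, nat_lit 20, nat_lit 19, nat_lit 19, nat_lit 20, nat_lit 20, nat_lit 19, nat_lit 20, nat_lit 20, nat_lit 21, nat_lit 18, nat_lit 21, nat_lit 20, nat_lit 21, nat_lit 21, nat_lit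 20, nat_lit 20, nat_lit 11]),
  ((nat_lit 6), [nat_lit 19, nat_lit 18, nat_lit 21, nat_lit 21, nat_lit 21, nat_lit 21, nat_lit 20, nat_lit 19, nat_lit 20, nat_lit 20, nat_lit 19, nat_lit 18, nat_lit 19, nat_lit 20, nat_lit 20, nat_lit 19, nat_lit 19, nat_lit 19, nat_lit 18, nat_lit 19, nat_lit 20, nat_lit 19, nat_lit 18, nat_lit 21, nat_lit 18, nat_lit 19, nat_lit 18, nat_lit 18, nat_lit 19, nat_lit 19, nat_lit 18, nat_lit 18, nat_lit 21, nat_lit 21, nat_lit 20, nat_lit 19, nat_lit 18, nat_lit 19, nat_lit 20, nat_lit 21, nat_lit 18, nat_lit 21, nat_lit 21, nat_lit 21, nat_lit 20, nat_lit 19, nat_lit 18, nat_lit 18, nat_lit 18, nat_lit 18, nat_lit 21, nat_lit 21, nat_lit 18, nat_lit 19, nat_lit 19, nat_lit 18, nat_lit 18, nat_lit 19, nat_lit 19, nat_lit 19, nat_lit 20, nat_lit 21]),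
  ((nat_lit 7), [nat_lit 20, nat_lit 19, nat_lit 20, nat_lit 21, nat_lit 21, nat_lit 18, nat_lit 19, nat_lit 20, nat_lit 20, nat_lit 20, nat_lit 20, nat_lit 21, nat_lit 18, nat_lit 19, nat_lit 20, nat_lit 19, nat_lit 19, nat_lit 20, nat_lit 20, nat_lit 21, nat_lit 18, nat_lit 19, nat_lit 20, nat_lit 21, nat_lit 18, nat_lit 19, nat_lit 18, nat_lit 21, nat_lit 18, nat_lit 18, nat_lit 21, nat_lit 20, nat_lit 20, nat_lit 19, nat_lit 18, nat_lit 21, nat_lit 20, nat_lit 19, nat_lit 20, nat_lit 21, nat_lit 18, nat_lit 18, nat_lit 18, nat_lit 18, nat_lit 19, nat_lit 19, nat_lit 19, nat_lit 18, nat_lit 21, nat_lit 20, nat_lit 20, nat_lit 19, nat_lit 20, nat_lit 19, nat_lit 19, nat_lit 18, nat_lit 18, nat_lit 21, nat_lit 18, nat_lit 18, nat_lit 18, nat_lit 21, nat_lit 20, nat_lit 21, nat_lit 18, nat_lit 21, nat_lit 20, nat_lit 19, nat_lit 18, nat_lit 18, nat_lit 19, nat_lit 18]),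
  ((nat_lit 8), [nat_lit 21, nat_lit 21, nat_lit 18, nat_lit 18, nat_lit 21, nat_lit 18, nat_lit 21, nat_lit 20, nat_lit 21, nat_lit 18, nat_lit 19, nat_lit 19, nat_lit 18, nat_lit 18, nat_lit 21, nat_lit 18, nat_lit 19, nat_lit 19, nat_lit 18, nat_lit 19, nat_lit 18, nat_lit 19, nat_lit 18, nat_lit 19, nat_lit 18, nat_lit 18, nat_lit 18, nat_lit 19, nat_lit 20, nat_lit 21, nat_lit 20, nat_lit 19, nat_lit 18, nat_lit 19, nat_lit 19, nat_lit 19, nat_lit 19, nat_lit 20, nat_lit 21, nat_lit 20, nat_lit 21, nat_lit 18, nat_lit 18, nat_lit 19, nat_lit 19, nat_lit 20, nat_lit 21, nat_lit 20, nat_lit 21, nat_lit 20, nat_lit 20, nat_lit 20, nat_lit 21, nat_lit 18, nat_lit 18, nat_lit 19, nat_lit 18, nat_lit 18, nat_lit 19, nat_lit 19, nat_lit 18, nat_lit 19, nat_lit 20, nat_lit 19, nat_lit 20, nat_lit 11]),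
  ((nat_lit 9), [nat_lit 21, nat_lit 20, nat_lit 20, nat_lit 21, nat_lit 18, nat_lit 18, nat_lit 18, nat_lit 19, nat_lit 18, nat_lit 18, nat_lit 21, nat_lit 21, nat_lit 18, nat_lit 19, nat_lit 19, nat_lit 20, nat_lit 21, nat_lit 21, nat_lit 20, nat_lit 20, nat_lit 19, nat_lit 20, nat_lit 21, nat_lit 21, nat_lit 20, nat_lit 19, nat_lit 20, nat_lit 19, nat_lit 19, nat_lit 18, nat_lit 21, nat_lit 18, nat_lit 21, nat_lit 20, nat_lit 20, nat_lit 19, nat_lit 19, nat_lit 18, nat_lit 18, nat_lit 18, nat_lit 19, nat_lit 18, nat_lit 18, nat_lit 18, nat_lit 21, nat_lit 20, nat_lit 19, nat_lit 18, nat_lit 18, nat_lit 19, nat_lit 18, nat_lit 19, nat_lit 19, nat_lit 18, nat_lit 21, nat_lit 21, nat_lit 18, nat_lit 18, nat_lit 18, nat_lit 19, nat_lit 11]),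
  ((nat_lit 10), [nat_lit 20, nat_lit 21, nat_lit 18, nat_lit 19, nat_lit 18, nat_lit 19, nat_lit 19, nat_lit 18, nat_lit 18, nat_lit 18, nat_lit 18, nat_lit 21, nat_lit 21, nat_lit 18, nat_lit 19, nat_lit 20, nat_lit 21, nat_lit 21, nat_lit 18, nat_lit 18, nat_lit 21, nat_lit 21, nat_lit 20, nat_lit 21, nat_lit 20, nat_lit 21, nat_lit 21, nat_lit 21, nat_lit 18, nat_lit 18, nat_lit 21, nat_lit 18, nat_lit 21, nat_lit 21, nat_lit 18, nat_lit 19, nat_lit 20, nat_lit 20, nat_lit 20, nat_lit 20, nat_lit 21, nat_lit 18, nat_lit 19, nat_lit 20, nat_lit 19, nat_lit 19, nat_lit 20, nat_lit 20, nat_lit 21, nat_lit 18, nat_lit 19, nat_lit 20, nat_lit 21, nat_lit 18, nat_lit 19, nat_lit 18, nat_lit 21, nat_lit 18, nat_lit 19, nat_lit 19, nat_lit 20, nat_lit 19, nat_lit 18, nat_lit 18, nat_lit 19, nat_lit 19, nat_lit 20, nat_lit 21, nat_lit 21, nat_lit 20, nat_lit 21, nat_lit 18, nat_lit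 19, nat_lit 18, nat_lit 21, nat_lit 20, nat_lit 19, nat_lit 18, nat_lit 21, nat_lit 18, nat_lit 19, nat_lit 20, nat_lit 20, nat_lit 21, nat_lit 18, nat_lit 19, nat_lit 19, nat_lit 20, nat_lit 19, nat_lit 18, nat_lit 21, nat_lit 18, nat_lit 21, nat_lit 11]),
  ((nat_lit 12), [nat_lit 15, nat_lit 17, nat_lit 17, nat_lit 17, nat_lit 15, nat_lit 16, nat_lit 15, nat_lit 17, nat_lit 16, nat_lit 16, nat_lit 15, nat_lit 10, nat_lit 2, nat_lit 1, nat_lit 9, nat_lit 10, nat_lit 1, nat_lit 8, nat_lit 10, nat_lit 3, nat_lit 4, nat_lit 7, nat_lit 8, nat_lit 4, nat_lit 1, nat_lit 2, nat_lit 3, nat_lit 1, nat_lit 8, nat_lit 4, nat_lit 5, nat_lit 9, nat_lit 8, nat_lit 7, nat_lit 4, nat_lit 3, nat_lit 1, nat_lit 9, nat_lit 8, nat_lit 10, nat_lit 8, nat_lit 9, nat_lit 1, nat_lit 2, nat_lit 5, nat_lit 6, nat_lit 9, nat_lit 1, nat_lit 10, nat_lit 1, nat_lit 2, nat_lit 9, nat_lit 5, nat_lit 6,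 nat_lit 10, nat_lit 1, nat_lit 9, nat_lit 10, nat_lit 8, nat_lit 7, nat_lit 10, nat_lit 1, nat_lit 2, nat_lit 0, nat_lit 6, nat_lit 9, nat_lit 8, nat_lit 10, nat_lit 5, nat_lit 2, nat_lit 0, nat_lit 3, nat_lit 2, nat_lit 4, nat_lit 10, nat_lit 5, nat_lit 6, nat_lit 7, nat_lit 8, nat_lit 1, nat_lit 3, nat_lit 4, nat_lit 7, nat_lit 6]),
  ((nat_lit 13), [nat_lit 11, nat_lit 4, nat_lit 9, nat_lit 8, nat_lit 10, nat_lit 1, nat_lit 3, nat_lit 5, nat_lit 4, nat_lit 6, nat_lit 0, nat_lit 2, nat_lit 10, nat_lit 8, nat_lit 9, nat_lit 5, nat_lit 3, nat_lit 2, nat_lit 7, nat_lit 8, nat_lit 10, nat_lit 3, nat_lit 0, nat_lit 6, nat_lit 0, nat_lit 9, nat_lit 7, nat_lit 2, nat_lit 3, nat_lit 4, nat_lit 5, nat_lit 10, nat_lit 8, nat_lit 9, nat_lit 8, nat_lit 10, nat_lit 5, nat_lit 4, nat_lit 3, nat_lit 7, nat_lit 8, nat_lit 9, nat_lit 8, nat_lit 7, nat_lit 0, nat_lit 3, nat_lit 9, nat_lit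 1, nat_lit 3, nat_lit 2, nat_lit 7, nat_lit 8, nat_lit 5, nat_lit 4, nat_lit 9, nat_lit 8, nat_lit 3, nat_lit 4, nat_lit 7, nat_lit 3, nat_lit 8, nat_lit 9, nat_lit 4, nat_lit 5, nat_lit 3, nat_lit 1, nat_lit 6, nat_lit 2, nat_lit 1, nat_lit 8, nat_lit 12, nat_lit 6, nat_lit 10, nat_lit 1, nat_lit 0, nat_lit 2, nat_lit 8, nat_lit 7, nat_lit 9, nat_lit 10, nat_lit 8, nat_lit 9, nat_lit 5, nat_lit 11]),
  ((nat_lit 14), [nat_lit 11, nat_lit 10, nat_lit 7, nat_lit 3, nat_lit 1, nat_lit 2, nat_lit 3, nat_lit 4, nat_lit 7, nat_lit 8, nat_lit 9, nat_lit 8, nat_lit 10, nat_lit 5, nat_lit 0, nat_lit 3, nat_lit 5, nat_lit 6, nat_lit 7, nat_lit 5, nat_lit 9, nat_lit 4, nat_lit 3, nat_lit 7, nat_lit 5, nat_lit 3, nat_lit 2, nat_lit 3, nat_lit 4, nat_lit 5, nat_lit 3, nat_lit 9, nat_lit 8, nat_lit 7, nat_lit 8, nat_lit 7, nat_lit 5, nat_lit 0, nat_lit 9, nat_lit 8, nat_lit 10, nat_lit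 2, nat_lit 0, nat_lit 7, nat_lit 8, nat_lit 9, nat_lit 3, nat_lit 0, nat_lit 2, nat_lit 1, nat_lit 5, nat_lit 10, nat_lit 1, nat_lit 3, nat_lit 2, nat_lit 7, nat_lit 8, nat_lit 10, nat_lit 9, nat_lit 5, nat_lit 1, nat_lit 2, nat_lit 0, nat_lit 1, nat_lit 3, nat_lit 2, nat_lit 10, nat_lit 5, nat_lit 4, nat_lit 3, nat_lit 5, nat_lit 1, nat_lit 7, nat_lit 0, nat_lit 12, nat_lit 6, nat_lit 5, nat_lit 9, nat_lit 8, nat_lit 10, nat_lit 1, nat_lit 2, nat_lit 8, nat_lit 7, nat_lit 12, nat_lit 10, nat_lit 8, nat_lit 7])] = true := by decide +kernel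

theorem exv : ExC H16.TFi23.g id 31671 15 LLv (gen H16.TFi23.g 15) := exC_of H16.TFi23.act H16.TFi23.inj H16.TFi23.card (all_cons (H16.TFi23.olv0 _) (all_cons (H16.TFi23.olv1 _) (all_cons (H16.TFi23.okv0 _) (all_cons (H16.TFi23.okv1 _) (all_cons (H16.TFi23.okv2 _) (all_cons (H16.TFi23.okv3 _) all_nil)))))) lcv
theorem cev_g0 : ∀ i < 5120, (cenEnt H16.TFi23.P V LLv Apv (nat_lit 16)) i = 0 := allZ_sound0 cev_0
theorem cev_g1 : ∀ i < 10240, (cenEnt H16.TFi23.P V LLv Apv (nat_lit 16)) i = 0 := range_glue cev_g0 cev_1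
theorem cev_g2 : ∀ i < 15360, (cenEnt H16.TFi23.P V LLv Apv (nat_lit 16)) i = 0 := range_glue cev_g1 cev_2
theorem cev_g3 : ∀ i < 20480, (cenEnt H16.TFi23.P V LLv Apv (nat_lit 16)) i = 0 := range_glue cev_g2 cev_3
theorem cev_g4 : ∀ i < 25600, (cenEnt H16.TFi23.P V LLv Apv (nat_lit 16)) i = 0 := range_glue cev_g3 cev_4
theorem cev_g5 : ∀ i < 30720, (cenEnt H16.TFi23.P V LLv Apv (nat_lit 16)) i = 0 := range_glue cev_g4 cev_5
theorem cev : ∀ i < 31671, (cenEnt H16.TFi23.P V LLv Apv (nat_lit 16)) i = 0 := range_glue cev_g5 cev_6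
theorem cenv {a} (hg : a ∈ gen H16.TFi23.g 15) (h : a * evA H16.TFi23.g V = evA H16.TFi23.g V * a) :
    ∃ j : ℤ, ∃ E ∈ Accv, a = evA H16.TFi23.g V ^ j * evA H16.TFi23.g E :=
  cen_sound H16.TFi23.act H16.TFi23.Blt H16.TFi23.isBase exv ccv cev hg h
theorem exw : ExC H16.TFi23.g id 31671 15 LLw (gen H16.TFi23.g 15) := exC_of H16.TFi23.act H16.TFi23.inj H16.TFi23.card (all_cons (H16.TFi23.olv0 _) (all_cons (H16.TFi23.olv1 _) (all_cons (H16.TFi23.okw0 _) (all_cons (H16.TFi23.okw1 _) (all_cons (H16.TFi23.okw2 _) (all_cons (H16.TFi23.okw3 _) all_nil)))))) lcw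
theorem cew_g0 : ∀ i < 3648, (cenEnt H16.TFi23.P W LLw Apw (nat_lit 15)) i = 0 := allZ_sound0 cew_0
theorem cew_g1 : ∀ i < 7296, (cenEnt H16.TFi23.P W LLw Apw (nat_lit 15)) i = 0 := range_glue cew_g0 cew_1
theorem cew_g2 : ∀ i < 10944, (cenEnt H16.TFi23.P W LLw Apw (nat_lit 15)) i = 0 := range_glue cew_g1 cew_2
theorem cew_g3 : ∀ i < 14592, (cenEnt H16.TFi23.P W LLw Apw (nat_lit 15)) i = 0 := range_glue cew_g2 cew_3
theorem cew_g4 : ∀ i < 18240, (cenEnt H16.TFi23.P W LLw Apw (nat_lit 15)) i = 0 := range_glue cew_g3 cew_4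
theorem cew_g5 : ∀ i < 21888, (cenEnt H16.TFi23.P W LLw Apw (nat_lit 15)) i = 0 := range_glue cew_g4 cew_5
theorem cew_g6 : ∀ i < 25536, (cenEnt H16.TFi23.P W LLw Apw (nat_lit 15)) i = 0 := range_glue cew_g5 cew_6
theorem cew_g7 : ∀ i < 29184, (cenEnt H16.TFi23.P W LLw Apw (nat_lit 15)) i = 0 := range_glue cew_g6 cew_7
theorem cew : ∀ i < 31671, (cenEnt H16.TFi23.P W LLw Apw (nat_lit 15)) i = 0 := range_glue cew_g7 cew_8
theorem cenw {a} (hg : a ∈ gen H16.TFi23.g 15) (h : a * evA H16.TFi23.g W = evA H16.TFi23.g W * a) :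
    ∃ j : ℤ, ∃ E ∈ Accw, a = evA H16.TFi23.g W ^ j * evA H16.TFi23.g E :=
  cen_sound H16.TFi23.act H16.TFi23.Blt H16.TFi23.isBase exw ccw cew hg h
theorem ar : D.ar 4089470473293004800 :=
  ⟨by norm_num [D], by decide +kernel, by decide +kernel, by decide +kernel, by decide +kernel, by decide +kernel, by decide +kernel⟩
theorem fl_g0 : ∀ i < 21, (D.fail H16.TFi23.P [0]) i = 0 := allZ_sound0 fl_0
theorem fl : ∀ i < 32, (D.fail H16.TFi23.P [0]) i = 0 := range_glue fl_g0 fl_1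
theorem hg (A) (h : ∀ i < 3, evA H16.TFi23.g (nth [] [D.X, D.W, D.S] i) ∈ A) : gen H16.TFi23.g 15 ≤ A :=
  slpX_sound H16.TFi23.act H16.TFi23.Blt H16.TFi23.isBase gc le_rfl (Nat.zero_le _) (by rw [gen_zero]; exact bot_le) fun i hi => by
    obtain rfl | rfl | rfl : i = 0 ∨ i = 1 ∨ i = 2 := by omega
    exacts [h 0 hi, h 1 hi, h 2 hi]
theorem out : Nat.card (Cfsg.Out (gen H16.TFi23.g 15)) = 1 :=
  D.one H16.TFi23.act H16.TFi23.inj H16.TFi23.Blt H16.TFi23.isBase H16.TFi23.card (by decide) dc ar cenv cenw fl hg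

end H16.OFi23
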