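import Cfsg.Agent.H16.O.Fi24.C0
import Cfsg.Agent.H16.O.Fi24.C1
import Cfsg.Agent.H16.O.Fi24.C2

/-! Generated by tools/h16 (computation kit). -/

set_option maxRecDepth 100000
set_option maxHeartbeats 0

namespace H16.OFi24

theorem ovx3 : lvx3.Orb H16.TFi24.g id 306936 := Lv.orb_lst (S := [271724]) H16.TFi24.act (by decide +kernel)
theorem exv : ExC H16.TFi24.g id 306936 17 LLv (gen H16.TFi24.g 17) := exC_of H16.TFi24.act H16.TFi24.inj H16.TFi24.card (all_cons (H16.TFi24.olv0 _) (all_cons (H16.TFi24.olv1 _) (all_cons (H16.TFi24.olv2 _) (all_cons (H16.TFi24.okv0 _) (all_cons (H16.TFi24.okv1 _) (all_cons (H16.TFi24.okv2 _) (all_cons ovx3 all_nil))))))) lcv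
theorem cev_g0 : ∀ i < 6528, (cenEnt H16.TFi24.P V LLv Apv (nat_lit 16)) i = 0 := allZ_sound0 cev_0
theorem cev_g1 : ∀ i < 13056, (cenEnt H16.TFi24.P V LLv Apv (nat_lit 16)) i = 0 := range_glue cev_g0 cev_1
theorem cev_g2 : ∀ i < 19584, (cenEnt H16.TFi24.P V LLv Apv (nat_lit 16)) i = 0 := range_glue cev_g1 cev_2
theorem cev_g3 : ∀ i < 26112, (cenEnt H16.TFi24.P V LLv Apv (nat_lit 16)) i = 0 := range_glue cev_g2 cev_3
theorem cev_g4 : ∀ i < 32640, (cenEnt H16.TFi24.P V LLv Apv (nat_lit 16)) i = 0 := range_glue cev_g3 cev_4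
theorem cev_g5 : ∀ i < 39168, (cenEnt H16.TFi24.P V LLv Apv (nat_lit 16)) i = 0 := range_glue cev_g4 cev_5
theorem cev_g6 : ∀ i < 45696, (cenEnt H16.TFi24.P V LLv Apv (nat_lit 16)) i = 0 := range_glue cev_g5 cev_6
theorem cev_g7 : ∀ i < 52224, (cenEnt H16.TFi24.P V LLv Apv (nat_lit 16)) i = 0 := range_glue cev_g6 cev_7
theorem cev_g8 : ∀ i < 58752, (cenEnt H16.TFi24.P V LLv Apv (nat_lit 16)) i = 0 := range_glue cev_g7 cev_8
theorem cev_g9 : ∀ i < 65280, (cenEnt H16.TFi24.P V LLv Apv (nat_lit 16)) i = 0 := range_glue cev_g8 cev_9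
theorem cev_g10 : ∀ i < 71808, (cenEnt H16.TFi24.P V LLv Apv (nat_lit 16)) i = 0 := range_glue cev_g9 cev_10
theorem cev_g11 : ∀ i < 78336, (cenEnt H16.TFi24.P V LLv Apv (nat_lit 16)) i = 0 := range_glue cev_g10 cev_11
theorem cev_g12 : ∀ i < 84864, (cenEnt H16.TFi24.P V LLv Apv (nat_lit 16)) i = 0 := range_glue cev_g11 cev_12
theorem cev_g13 : ∀ i < 91392, (cenEnt H16.TFi24.P V LLv Apv (nat_lit 16)) i = 0 := range_glue cev_g12 cev_13
theorem cev_g14 : ∀ i < 97920, (cenEnt H16.TFi24.P V LLv Apv (nat_lit 16)) i = 0 := range_glue cev_g13 cev_14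
theorem cev_g15 : ∀ i < 104448, (cenEnt H16.TFi24.P V LLv Apv (nat_lit 16)) i = 0 := range_glue cev_g14 cev_15
theorem cev_g16 : ∀ i < 110976, (cenEnt H16.TFi24.P V LLv Apv (nat_lit 16)) i = 0 := range_glue cev_g15 cev_16
theorem cev_g17 : ∀ i < 117504, (cenEnt H16.TFi24.P V LLv Apv (nat_lit 16)) i = 0 := range_glue cev_g16 cev_17
theorem cev_g18 : ∀ i < 124032, (cenEnt H16.TFi24.P V LLv Apv (nat_lit 16)) i = 0 := range_glue cev_g17 cev_18
theorem cev_g19 : ∀ i < 130560, (cenEnt H16.TFi24.P V LLv Apv (nat_lit 16)) i = 0 := range_glue cev_g18 cev_19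
theorem cev_g20 : ∀ i < 137088, (cenEnt H16.TFi24.P V LLv Apv (nat_lit 16)) i = 0 := range_glue cev_g19 cev_20
theorem cev_g21 : ∀ i < 143616, (cenEnt H16.TFi24.P V LLv Apv (nat_lit 16)) i = 0 := range_glue cev_g20 cev_21
theorem cev_g22 : ∀ i < 150144, (cenEnt H16.TFi24.P V LLv Apv (nat_lit 16)) i = 0 := range_glue cev_g21 cev_22
theorem cev_g23 : ∀ i < 156672, (cenEnt H16.TFi24.P V LLv Apv (nat_lit 16)) i = 0 := range_glue cev_g22 cev_23
theorem cev_g24 : ∀ i < 163200, (cenEnt H16.TFi24.P V LLv Apv (nat_lit 16)) i = 0 := range_glue cev_g23 cev_24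
theorem cev_g25 : ∀ i < 169728, (cenEnt H16.TFi24.P V LLv Apv (nat_lit 16)) i = 0 := range_glue cev_g24 cev_25
theorem cev_g26 : ∀ i < 176256, (cenEnt H16.TFi24.P V LLv Apv (nat_lit 16)) i = 0 := range_glue cev_g25 cev_26
theorem cev_g27 : ∀ i < 182784, (cenEnt H16.TFi24.P V LLv Apv (nat_lit 16)) i = 0 := range_glue cev_g26 cev_27
theorem cev_g28 : ∀ i < 189312, (cenEnt H16.TFi24.P V LLv Apv (nat_lit 16)) i = 0 := range_glue cev_g27 cev_28
theorem cev_g29 : ∀ i < 195840, (cenEnt H16.TFi24.P V LLv Apv (nat_lit 16)) i = 0 := range_glue cev_g28 cev_29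
theorem cev_g30 : ∀ i < 202368, (cenEnt H16.TFi24.P V LLv Apv (nat_lit 16)) i = 0 := range_glue cev_g29 cev_30
theorem cev_g31 : ∀ i < 208896, (cenEnt H16.TFi24.P V LLv Apv (nat_lit 16)) i = 0 := range_glue cev_g30 cev_31
theorem cev_g32 : ∀ i < 215424, (cenEnt H16.TFi24.P V LLv Apv (nat_lit 16)) i = 0 := range_glue cev_g31 cev_32
theorem cev_g33 : ∀ i < 221952, (cenEnt H16.TFi24.P V LLv Apv (nat_lit 16)) i = 0 := range_glue cev_g32 cev_33
theorem cev_g34 : ∀ i < 228480, (cenEnt H16.TFi24.P V LLv Apv (nat_lit 16)) i = 0 := range_glue cev_g33 cev_34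
theorem cev_g35 : ∀ i < 235008, (cenEnt H16.TFi24.P V LLv Apv (nat_lit 16)) i = 0 := range_glue cev_g34 cev_35
theorem cev_g36 : ∀ i < 241536, (cenEnt H16.TFi24.P V LLv Apv (nat_lit 16)) i = 0 := range_glue cev_g35 cev_36
theorem cev_g37 : ∀ i < 248064, (cenEnt H16.TFi24.P V LLv Apv (nat_lit 16)) i = 0 := range_glue cev_g36 cev_37
theorem cev_g38 : ∀ i < 254592, (cenEnt H16.TFi24.P V LLv Apv (nat_lit 16)) i = 0 := range_glue cev_g37 cev_38
theorem cev_g39 : ∀ i < 261120, (cenEnt H16.TFi24.P V LLv Apv (nat_lit 16)) i = 0 := range_glue cev_g38 cev_39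
theorem cev_g40 : ∀ i < 267648, (cenEnt H16.TFi24.P V LLv Apv (nat_lit 16)) i = 0 := range_glue cev_g39 cev_40
theorem cev_g41 : ∀ i < 274176, (cenEnt H16.TFi24.P V LLv Apv (nat_lit 16)) i = 0 := range_glue cev_g40 cev_41
theorem cev_g42 : ∀ i < 280704, (cenEnt H16.TFi24.P V LLv Apv (nat_lit 16)) i = 0 := range_glue cev_g41 cev_42
theorem cev_g43 : ∀ i < 287232, (cenEnt H16.TFi24.P V LLv Apv (nat_lit 16)) i = 0 := range_glue cev_g42 cev_43
theorem cev_g44 : ∀ i < 293760, (cenEnt H16.TFi24.P V LLv Apv (nat_lit 16)) i = 0 := range_glue cev_g43 cev_44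
theorem cev_g45 : ∀ i < 300288, (cenEnt H16.TFi24.P V LLv Apv (nat_lit 16)) i = 0 := range_glue cev_g44 cev_45
theorem cev_g46 : ∀ i < 306816, (cenEnt H16.TFi24.P V LLv Apv (nat_lit 16)) i = 0 := range_glue cev_g45 cev_46
theorem cev : ∀ i < 306936, (cenEnt H16.TFi24.P V LLv Apv (nat_lit 16)) i = 0 := range_glue cev_g46 cev_47
theorem cenv {a} (hg : a ∈ gen H16.TFi24.g 17) (h : a * evA H16.TFi24.g V = evA H16.TFi24.g V * a) :
    ∃ j : ℤ, ∃ E ∈ Accv, a = evA H16.TFi24.g V ^ j * evA H16.TFi24.g E :=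
  cen_sound H16.TFi24.act H16.TFi24.Blt H16.TFi24.isBase exv ccv cev hg h
theorem exw : ExC H16.TFi24.g id 306936 17 LLw (gen H16.TFi24.g 17) := exC_of H16.TFi24.act H16.TFi24.inj H16.TFi24.card (all_cons (H16.TFi24.olv0 _) (all_cons (H16.TFi24.olv1 _) (all_cons (H16.TFi24.olv2 _) (all_cons (H16.TFi24.okw0 _) (all_cons (H16.TFi24.okw1 _) (all_cons (H16.TFi24.okw2 _) all_nil)))))) lcw
theorem cew_g0 : ∀ i < 6080, (cenEnt H16.TFi24.P W LLw Apw (nat_lit 15)) i = 0 := allZ_sound0 cew_0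
theorem cew_g1 : ∀ i < 12160, (cenEnt H16.TFi24.P W LLw Apw (nat_lit 15)) i = 0 := range_glue cew_g0 cew_1
theorem cew_g2 : ∀ i < 18240, (cenEnt H16.TFi24.P W LLw Apw (nat_lit 15)) i = 0 := range_glue cew_g1 cew_2
theorem cew_g3 : ∀ i < 24320, (cenEnt H16.TFi24.P W LLw Apw (nat_lit 15)) i = 0 := range_glue cew_g2 cew_3
theorem cew_g4 : ∀ i < 30400, (cenEnt H16.TFi24.P W LLw Apw (nat_lit 15)) i = 0 := range_glue cew_g3 cew_4
theorem cew_g5 : ∀ i < 36480, (cenEnt H16.TFi24.P W LLw Apw (nat_lit 15)) i = 0 := range_glue cew_g4 cew_5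
theorem cew_g6 : ∀ i < 42560, (cenEnt H16.TFi24.P W LLw Apw (nat_lit 15)) i = 0 := range_glue cew_g5 cew_6
theorem cew_g7 : ∀ i < 48640, (cenEnt H16.TFi24.P W LLw Apw (nat_lit 15)) i = 0 := range_glue cew_g6 cew_7
theorem cew_g8 : ∀ i < 54720, (cenEnt H16.TFi24.P W LLw Apw (nat_lit 15)) i = 0 := range_glue cew_g7 cew_8
theorem cew_g9 : ∀ i < 60800, (cenEnt H16.TFi24.P W LLw Apw (nat_lit 15)) i = 0 := range_glue cew_g8 cew_9
theorem cew_g10 : ∀ i < 66880, (cenEnt H16.TFi24.P W LLw Apw (nat_lit 15)) i = 0 := range_glue cew_g9 cew_10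
theorem cew_g11 : ∀ i < 72960, (cenEnt H16.TFi24.P W LLw Apw (nat_lit 15)) i = 0 := range_glue cew_g10 cew_11
theorem cew_g12 : ∀ i < 79040, (cenEnt H16.TFi24.P W LLw Apw (nat_lit 15)) i = 0 := range_glue cew_g11 cew_12
theorem cew_g13 : ∀ i < 85120, (cenEnt H16.TFi24.P W LLw Apw (nat_lit 15)) i = 0 := range_glue cew_g12 cew_13
theorem cew_g14 : ∀ i < 91200, (cenEnt H16.TFi24.P W LLw Apw (nat_lit 15)) i = 0 := range_glue cew_g13 cew_14
theorem cew_g15 : ∀ i < 97280, (cenEnt H16.TFi24.P W LLw Apw (nat_lit 15)) i = 0 := range_glue cew_g14 cew_15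
theorem cew_g16 : ∀ i < 103360, (cenEnt H16.TFi24.P W LLw Apw (nat_lit 15)) i = 0 := range_glue cew_g15 cew_16
theorem cew_g17 : ∀ i < 109440, (cenEnt H16.TFi24.P W LLw Apw (nat_lit 15)) i = 0 := range_glue cew_g16 cew_17
theorem cew_g18 : ∀ i < 115520, (cenEnt H16.TFi24.P W LLw Apw (nat_lit 15)) i = 0 := range_glue cew_g17 cew_18
theorem cew_g19 : ∀ i < 121600, (cenEnt H16.TFi24.P W LLw Apw (nat_lit 15)) i = 0 := range_glue cew_g18 cew_19
theorem cew_g20 : ∀ i < 127680, (cenEnt H16.TFi24.P W LLw Apw (nat_lit 15)) i = 0 := range_glue cew_g19 cew_20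
theorem cew_g21 : ∀ i < 133760, (cenEnt H16.TFi24.P W LLw Apw (nat_lit 15)) i = 0 := range_glue cew_g20 cew_21
theorem cew_g22 : ∀ i < 139840, (cenEnt H16.TFi24.P W LLw Apw (nat_lit 15)) i = 0 := range_glue cew_g21 cew_22
theorem cew_g23 : ∀ i < 145920, (cenEnt H16.TFi24.P W LLw Apw (nat_lit 15)) i = 0 := range_glue cew_g22 cew_23
theorem cew_g24 : ∀ i < 152000, (cenEnt H16.TFi24.P W LLw Apw (nat_lit 15)) i = 0 := range_glue cew_g23 cew_24
theorem cew_g25 : ∀ i < 158080, (cenEnt H16.TFi24.P W LLw Apw (nat_lit 15)) i = 0 := range_glue cew_g24 cew_25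
theorem cew_g26 : ∀ i < 164160, (cenEnt H16.TFi24.P W LLw Apw (nat_lit 15)) i = 0 := range_glue cew_g25 cew_26
theorem cew_g27 : ∀ i < 170240, (cenEnt H16.TFi24.P W LLw Apw (nat_lit 15)) i = 0 := range_glue cew_g26 cew_27
theorem cew_g28 : ∀ i < 176320, (cenEnt H16.TFi24.P W LLw Apw (nat_lit 15)) i = 0 := range_glue cew_g27 cew_28
theorem cew_g29 : ∀ i < 182400, (cenEnt H16.TFi24.P W LLw Apw (nat_lit 15)) i = 0 := range_glue cew_g28 cew_29
theorem cew_g30 : ∀ i < 188480, (cenEnt H16.TFi24.P W LLw Apw (nat_lit 15)) i = 0 := range_glue cew_g29 cew_30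
theorem cew_g31 : ∀ i < 194560, (cenEnt H16.TFi24.P W LLw Apw (nat_lit 15)) i = 0 := range_glue cew_g30 cew_31
theorem cew_g32 : ∀ i < 200640, (cenEnt H16.TFi24.P W LLw Apw (nat_lit 15)) i = 0 := range_glue cew_g31 cew_32
theorem cew_g33 : ∀ i < 206720, (cenEnt H16.TFi24.P W LLw Apw (nat_lit 15)) i = 0 := range_glue cew_g32 cew_33
theorem cew_g34 : ∀ i < 212800, (cenEnt H16.TFi24.P W LLw Apw (nat_lit 15)) i = 0 := range_glue cew_g33 cew_34
theorem cew_g35 : ∀ i < 218880, (cenEnt H16.TFi24.P W LLw Apw (nat_lit 15)) i = 0 := range_glue cew_g34 cew_35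
theorem cew_g36 : ∀ i < 224960, (cenEnt H16.TFi24.P W LLw Apw (nat_lit 15)) i = 0 := range_glue cew_g35 cew_36
theorem cew_g37 : ∀ i < 231040, (cenEnt H16.TFi24.P W LLw Apw (nat_lit 15)) i = 0 := range_glue cew_g36 cew_37
theorem cew_g38 : ∀ i < 237120, (cenEnt H16.TFi24.P W LLw Apw (nat_lit 15)) i = 0 := range_glue cew_g37 cew_38
theorem cew_g39 : ∀ i < 243200, (cenEnt H16.TFi24.P W LLw Apw (nat_lit 15)) i = 0 := range_glue cew_g38 cew_39
theorem cew_g40 : ∀ i < 249280, (cenEnt H16.TFi24.P W LLw Apw (nat_lit 15)) i = 0 := range_glue cew_g39 cew_40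
theorem cew_g41 : ∀ i < 255360, (cenEnt H16.TFi24.P W LLw Apw (nat_lit 15)) i = 0 := range_glue cew_g40 cew_41
theorem cew_g42 : ∀ i < 261440, (cenEnt H16.TFi24.P W LLw Apw (nat_lit 15)) i = 0 := range_glue cew_g41 cew_42
theorem cew_g43 : ∀ i < 267520, (cenEnt H16.TFi24.P W LLw Apw (nat_lit 15)) i = 0 := range_glue cew_g42 cew_43
theorem cew_g44 : ∀ i < 273600, (cenEnt H16.TFi24.P W LLw Apw (nat_lit 15)) i = 0 := range_glue cew_g43 cew_44
theorem cew_g45 : ∀ i < 279680, (cenEnt H16.TFi24.P W LLw Apw (nat_lit 15)) i = 0 := range_glue cew_g44 cew_45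
theorem cew_g46 : ∀ i < 285760, (cenEnt H16.TFi24.P W LLw Apw (nat_lit 15)) i = 0 := range_glue cew_g45 cew_46
theorem cew_g47 : ∀ i < 291840, (cenEnt H16.TFi24.P W LLw Apw (nat_lit 15)) i = 0 := range_glue cew_g46 cew_47
theorem cew_g48 : ∀ i < 297920, (cenEnt H16.TFi24.P W LLw Apw (nat_lit 15)) i = 0 := range_glue cew_g47 cew_48
theorem cew_g49 : ∀ i < 304000, (cenEnt H16.TFi24.P W LLw Apw (nat_lit 15)) i = 0 := range_glue cew_g48 cew_49
theorem cew : ∀ i < 306936, (cenEnt H16.TFi24.P W LLw Apw (nat_lit 15)) i = 0 := range_glue cew_g49 cew_50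
theorem cenw {a} (hg : a ∈ gen H16.TFi24.g 17) (h : a * evA H16.TFi24.g W = evA H16.TFi24.g W * a) :
    ∃ j : ℤ, ∃ E ∈ Accw, a = evA H16.TFi24.g W ^ j * evA H16.TFi24.g E :=
  cen_sound H16.TFi24.act H16.TFi24.Blt H16.TFi24.isBase exw ccw cew hg h
theorem ar : D.ar 1255205709190661721292800 :=
  ⟨by norm_num [D], by decide +kernel, by decide +kernel, by decide +kernel, by decide +kernel, by decide +kernel, by decide +kernel⟩
theorem fl_g0 : ∀ i < 25, (D.fail H16.TFi24.P [0, 24]) i = 0 := allZ_sound0 fl_0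
theorem fl : ∀ i < 32, (D.fail H16.TFi24.P [0, 24]) i = 0 := range_glue fl_g0 fl_1
theorem hg (A) (h : ∀ i < 3, evA H16.TFi24.g (nth [] [D.X, D.W, D.S] i) ∈ A) : gen H16.TFi24.g 17 ≤ A :=
  slpX_sound H16.TFi24.act H16.TFi24.Blt H16.TFi24.isBase gc le_rfl (Nat.zero_le _) (by rw [gen_zero]; exact bot_le) fun i hi => by
    obtain rfl | rfl | rfl : i = 0 ∨ i = 1 ∨ i = 2 := by omega
    exacts [h 0 hi, h 1 hi, h 2 hi]
theorem ic : ∀ i < 32, (D.inn H16.TFi24.P H16.TFi24.B 24) i = 0 := allZ_sound0 ic_0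
theorem hb : ∃ β, D.Is H16.TFi24.g 17 24 β :=
  have ⟨β, h⟩ := aut_of_conj H16.TFi24.act H16.TFi24.isBase (Tb.comp H16.TFi24.act bc0.1 (tb_SI F24.wf bc0.2 14))
    (Subgroup.mul_mem _ (Subgroup.le_normalizer (evA_mem_gen _ (ltAll_zero bc0.1))) (H16.TFi24.gen_eq ▸ F24.norm)) bc2
  ⟨β, D.of_aut H16.TFi24.act H16.TFi24.Blt H16.TFi24.isBase (D.facts H16.TFi24.act H16.TFi24.inj H16.TFi24.Blt H16.TFi24.isBase dc).1 bc1 β h⟩
theorem out : Nat.card (Cfsg.Out (gen H16.TFi24.g 17)) = 2 :=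
  D.two H16.TFi24.act H16.TFi24.inj H16.TFi24.Blt H16.TFi24.isBase H16.TFi24.card (by decide) dc ar cenv cenw fl hg hb ic

end H16.OFi24
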