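import Cfsg.Agent.H0.TRX
import Cfsg.Agent.H16.M.A11
import Cfsg.Agent.H16.Fast

/-! Generated by tools/h0/tr.py. -/

set_option maxRecDepth 100000
set_option maxHeartbeats 0

namespace H16.OLyA
open H16 H0.TR
open scoped commutatorElement

noncomputable def x_W : List (List ℕ) := [[nat_lit 9, nat_lit 3, nat_lit 4, nat_lit 3, nat_lit 7, nat_lit 8, nat_lit 7, nat_lit 3, nat_lit 6, nat_lit 5, nat_lit 4, nat_lit 3, nat_lit 6, nat_lit 7, nat_lit 8, nat_lit 9, nat_lit 8, nat_lit 7, nat_lit 5, nat_lit 6, nat_lit 5, nat_lit 4, nat_lit 5, nat_lit 6, nat_lit 7, nat_lit 8],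
  [nat_lit 4, nat_lit 8, nat_lit 7, nat_lit 3, nat_lit 6, nat_lit 5, nat_lit 4, nat_lit 3, nat_lit 6, nat_lit 7, nat_lit 8, nat_lit 7, nat_lit 5, nat_lit 6, nat_lit 5, nat_lit 7, nat_lit 9, nat_lit 8, nat_lit 7, nat_lit 5, nat_lit 6, nat_lit 5, nat_lit 4, nat_lit 5],
  [nat_lit 3, nat_lit 6, nat_lit 5, nat_lit 4, nat_lit 3, nat_lit 6, nat_lit 7, nat_lit 9, nat_lit 8, nat_lit 7, nat_lit 5, nat_lit 6, nat_lit 4, nat_lit 5, nat_lit 9, nat_lit 8, nat_lit 2, nat_lit 2],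
  [nat_lit 5, nat_lit 6, nat_lit 2, nat_lit 7, nat_lit 8, nat_lit 9, nat_lit 8, nat_lit 7, nat_lit 8, nat_lit 4, nat_lit 5, nat_lit 6, nat_lit 2, nat_lit 3, nat_lit 4, nat_lit 5, nat_lit 2, nat_lit 2],
  [nat_lit 1]]
noncomputable def x_P : ℕ → ℕ → ℕ := wdsP H16.A11.P x_W
noncomputable def ah_W : List (List ℕ) := [[nat_lit 0],
  [nat_lit 1],
  [nat_lit 2, nat_lit 3, nat_lit 4, nat_lit 5, nat_lit 6, nat_lit 7, nat_lit 6, nat_lit 5, nat_lit 4, nat_lit 3, nat_lit 2],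
  [nat_lit 1, nat_lit 2, nat_lit 3, nat_lit 4, nat_lit 5, nat_lit 4, nat_lit 3, nat_lit 2, nat_lit 1],
  [nat_lit 6],
  [nat_lit 7],
  [nat_lit 8],
  [nat_lit 2],
  [nat_lit 3],
  [nat_lit 4],
  [nat_lit 5],
  [nat_lit 9]]
noncomputable def ah_P : ℕ → ℕ → ℕ := wdsP H16.A11.P ah_W
noncomputable def al0Dd : ℕ := nat_lit 0x1a61ba7af0d283a48580
noncomputable def al0D (u : ℕ) : ℕ := Nat.land (Nat.shiftRight al0Dd (Nat.mul u (nat_lit 7))) (nat_lit 127)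
noncomputable def al0Pd : ℕ := nat_lit 0x6759a843210
noncomputable def al0P (u : ℕ) : ℕ := Nat.land (Nat.shiftRight al0Pd (Nat.mul u (nat_lit 4))) (nat_lit 15)
noncomputable def al0Qd : ℕ := nat_lit 0x6759a843210
noncomputable def al0Q (u : ℕ) : ℕ := Nat.land (Nat.shiftRight al0Qd (Nat.mul u (nat_lit 4))) (nat_lit 15)
noncomputable def al0 : Lev := ⟨11, 12, al0D, al0P, al0Q⟩
noncomputable def al1Dd : ℕ := nat_lit 0x1ec366653133428480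
noncomputable def al1D (u : ℕ) : ℕ := Nat.land (Nat.shiftRight al1Dd (Nat.mul u (nat_lit 7))) (nat_lit 127)
noncomputable def al1Pd : ℕ := nat_lit 0x1a89273465
noncomputable def al1P (u : ℕ) : ℕ := Nat.land (Nat.shiftRight al1Pd (Nat.mul u (nat_lit 4))) (nat_lit 15)
noncomputable def al1Qd : ℕ := nat_lit 0x86741023590
noncomputable def al1Q (u : ℕ) : ℕ := Nat.land (Nat.shiftRight al1Qd (Nat.mul u (nat_lit 4))) (nat_lit 15)
noncomputable def al1 : Lev := ⟨10, 11, al1D, al1P, al1Q⟩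
noncomputable def al2Dd : ℕ := nat_lit 0x33c9e513490200
noncomputable def al2D (u : ℕ) : ℕ := Nat.land (Nat.shiftRight al2Dd (Nat.mul u (nat_lit 6))) (nat_lit 63)
noncomputable def al2Pd : ℕ := nat_lit 0x13429a876
noncomputable def al2P (u : ℕ) : ℕ := Nat.land (Nat.shiftRight al2Pd (Nat.mul u (nat_lit 4))) (nat_lit 15)
noncomputable def al2Qd : ℕ := nat_lit 0x34210067580
noncomputable def al2Q (u : ℕ) : ℕ := Nat.land (Nat.shiftRight al2Qd (Nat.mul u (nat_lit 4))) (nat_lit 15)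
noncomputable def al2 : Lev := ⟨9, 9, al2D, al2P, al2Q⟩
noncomputable def al3Dd : ℕ := nat_lit 0x9a54ca2481c0
noncomputable def al3D (u : ℕ) : ℕ := Nat.land (Nat.shiftRight al3Dd (Nat.mul u (nat_lit 6))) (nat_lit 63)
noncomputable def al3Pd : ℕ := nat_lit 0x13429a87
noncomputable def al3P (u : ℕ) : ℕ := Nat.land (Nat.shiftRight al3Pd (Nat.mul u (nat_lit 4))) (nat_lit 15)
noncomputable def al3Qd : ℕ := nat_lit 0x99005d38
noncomputable def al3Q (u : ℕ) : ℕ := Nat.land (Nat.shiftRight al3Qd (Nat.mul u (nat_lit 3))) (nat_lit 7)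
noncomputable def al3 : Lev := ⟨8, 8, al3D, al3P, al3Q⟩
noncomputable def al4Dd : ℕ := nat_lit 0x7789930c0
noncomputable def al4D (u : ℕ) : ℕ := Nat.land (Nat.shiftRight al4Dd (Nat.mul u (nat_lit 5))) (nat_lit 31)
noncomputable def al4Pd : ℕ := nat_lit 0x9a84321
noncomputable def al4P (u : ℕ) : ℕ := Nat.land (Nat.shiftRight al4Pd (Nat.mul u (nat_lit 4))) (nat_lit 15)
noncomputable def al4Qd : ℕ := nat_lit 0x174003440
noncomputable def al4Q (u : ℕ) : ℕ := Nat.land (Nat.shiftRight al4Qd (Nat.mul u (nat_lit 3))) (nat_lit 7)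
noncomputable def al4 : Lev := ⟨7, 7, al4D, al4P, al4Q⟩
noncomputable def al5Dd : ℕ := nat_lit 0x26e49480
noncomputable def al5D (u : ℕ) : ℕ := Nat.land (Nat.shiftRight al5Dd (Nat.mul u (nat_lit 5))) (nat_lit 31)
noncomputable def al5Pd : ℕ := nat_lit 0xa89243
noncomputable def al5P (u : ℕ) : ℕ := Nat.land (Nat.shiftRight al5Pd (Nat.mul u (nat_lit 4))) (nat_lit 15)
noncomputable def al5Qd : ℕ := nat_lit 0x15c001080
noncomputable def al5Q (u : ℕ) : ℕ := Nat.land (Nat.shiftRight al5Qd (Nat.mul u (nat_lit 3))) (nat_lit 7)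
noncomputable def al5 : Lev := ⟨6, 6, al5D, al5P, al5Q⟩
noncomputable def al6Dd : ℕ := nat_lit 0xa5430
noncomputable def al6D (u : ℕ) : ℕ := Nat.land (Nat.shiftRight al6Dd (Nat.mul u (nat_lit 4))) (nat_lit 15)
noncomputable def al6Pd : ℕ := nat_lit 0x2a894
noncomputable def al6P (u : ℕ) : ℕ := Nat.land (Nat.shiftRight al6Pd (Nat.mul u (nat_lit 4))) (nat_lit 15)
noncomputable def al6Qd : ℕ := nat_lit 0xca000100
noncomputable def al6Q (u : ℕ) : ℕ := Nat.land (Nat.shiftRight al6Qd (Nat.mul u (nat_lit 3))) (nat_lit 7)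
noncomputable def al6 : Lev := ⟨5, 4, al6D, al6P, al6Q⟩
noncomputable def al7Dd : ℕ := nat_lit 0x8d0
noncomputable def al7D (u : ℕ) : ℕ := Nat.land (Nat.shiftRight al7Dd (Nat.mul u (nat_lit 3))) (nat_lit 7)
noncomputable def al7Pd : ℕ := nat_lit 0x9a82
noncomputable def al7P (u : ℕ) : ℕ := Nat.land (Nat.shiftRight al7Pd (Nat.mul u (nat_lit 4))) (nat_lit 15)
noncomputable def al7Qd : ℕ := nat_lit 0x2d0000
noncomputable def al7Q (u : ℕ) : ℕ := Nat.land (Nat.shiftRight al7Qd (Nat.mul u (nat_lit 2))) (nat_lit 3)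
noncomputable def al7 : Lev := ⟨4, 3, al7D, al7P, al7Q⟩
noncomputable def al8Dd : ℕ := nat_lit 4
noncomputable def al8D (u : ℕ) : ℕ := Nat.land (Nat.shiftRight al8Dd (Nat.mul u (nat_lit 1))) (nat_lit 1)
noncomputable def al8Pd : ℕ := nat_lit 0x9a8
noncomputable def al8P (u : ℕ) : ℕ := Nat.land (Nat.shiftRight al8Pd (Nat.mul u (nat_lit 4))) (nat_lit 15)
noncomputable def al8Qd : ℕ := nat_lit 0x180000
noncomputable def al8Q (u : ℕ) : ℕ := Nat.land (Nat.shiftRight al8Qd (Nat.mul u (nat_lit 2))) (nat_lit 3)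
noncomputable def al8 : Lev := ⟨3, 2, al8D, al8P, al8Q⟩
noncomputable def ce_W : List (List ℕ) := [[nat_lit 1],
  [nat_lit 3, nat_lit 5, nat_lit 6, nat_lit 5, nat_lit 7, nat_lit 6, nat_lit 5, nat_lit 9]]
noncomputable def ce_P : ℕ → ℕ → ℕ := wdsP H16.A11.P ce_W
noncomputable def cc8Dd : ℕ := nat_lit 4
noncomputable def cc8D (u : ℕ) : ℕ := Nat.land (Nat.shiftRight cc8Dd (Nat.mul u (nat_lit 1))) (nat_lit 1)
noncomputable def cc8Pd : ℕ := nat_lit 0xa98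
noncomputable def cc8P (u : ℕ) : ℕ := Nat.land (Nat.shiftRight cc8Pd (Nat.mul u (nat_lit 4))) (nat_lit 15)
noncomputable def cc8Qd : ℕ := nat_lit 0x240000
noncomputable def cc8Q (u : ℕ) : ℕ := Nat.land (Nat.shiftRight cc8Qd (Nat.mul u (nat_lit 2))) (nat_lit 3)
noncomputable def cc8 : Lev := ⟨3, 1, cc8D, cc8P, cc8Q⟩
noncomputable def an0Fd : ℕ := nat_lit 0
noncomputable def an0F (u : ℕ) : ℕ := Nat.land (Nat.shiftRight an0Fd (Nat.mul u (nat_lit 1))) (nat_lit 1)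
noncomputable def an0 : Nd := ⟨an0F, (nat_lit 2), (nat_lit 1), [], [((nat_lit 0), [])], []⟩
noncomputable def cc0Dd : ℕ := nat_lit 2
noncomputable def cc0D (u : ℕ) : ℕ := Nat.land (Nat.shiftRight cc0Dd (Nat.mul u (nat_lit 1))) (nat_lit 1)
noncomputable def cc0Pd : ℕ := nat_lit 2
noncomputable def cc0P (u : ℕ) : ℕ := Nat.land (Nat.shiftRight cc0Pd (Nat.mul u (nat_lit 1))) (nat_lit 1)
noncomputable def cc0Qd : ℕ := nat_lit 2
noncomputable def cc0Q (u : ℕ) : ℕ := Nat.land (Nat.shiftRight cc0Qd (Nat.mul u (nat_lit 1))) (nat_lit 1)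
noncomputable def cc0 : Lev := ⟨2, 2, cc0D, cc0P, cc0Q⟩
noncomputable def an1Fd : ℕ := nat_lit 0xcb50b240
noncomputable def an1F (u : ℕ) : ℕ := Nat.land (Nat.shiftRight an1Fd (Nat.mul u (nat_lit 3))) (nat_lit 7)
noncomputable def an1 : Nd := ⟨an1F, (nat_lit 2), (nat_lit 2), [[nat_lit 4],
  [nat_lit 2, nat_lit 3],
  [nat_lit 0, nat_lit 1]], [((nat_lit 0), [])], []⟩
noncomputable def e_W : List (List ℕ) := [[nat_lit 5, nat_lit 6, nat_lit 7, nat_lit 6, nat_lit 5, nat_lit 6, nat_lit 3, nat_lit 1, nat_lit 9]]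
noncomputable def e_P : ℕ → ℕ → ℕ := wdsP H16.A11.P e_W
noncomputable def p2t_W : List (List ℕ) := [[nat_lit 0, nat_lit 3, nat_lit 2, nat_lit 4, nat_lit 3, nat_lit 2, nat_lit 1, nat_lit 5, nat_lit 4, nat_lit 3, nat_lit 6, nat_lit 5, nat_lit 4, nat_lit 3, nat_lit 2, nat_lit 7, nat_lit 6, nat_lit 5, nat_lit 4, nat_lit 3, nat_lit 2, nat_lit 1, nat_lit 8, nat_lit 7, nat_lit 6, nat_lit 5, nat_lit 4, nat_lit 3],
  [nat_lit 0, nat_lit 2, nat_lit 1, nat_lit 3, nat_lit 2, nat_lit 4, nat_lit 3, nat_lit 2, nat_lit 1, nat_lit 5, nat_lit 6, nat_lit 7, nat_lit 6, nat_lit 5, nat_lit 4, nat_lit 3, nat_lit 2, nat_lit 1],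
  [nat_lit 0, nat_lit 3, nat_lit 2, nat_lit 5, nat_lit 4, nat_lit 7, nat_lit 6, nat_lit 5, nat_lit 4, nat_lit 3, nat_lit 2, nat_lit 1, nat_lit 8, nat_lit 7, nat_lit 6, nat_lit 5, nat_lit 4],
  [nat_lit 3, nat_lit 5, nat_lit 7, nat_lit 6, nat_lit 5, nat_lit 8, nat_lit 7],
  [nat_lit 0, nat_lit 2, nat_lit 3, nat_lit 2, nat_lit 4, nat_lit 3, nat_lit 5, nat_lit 4, nat_lit 7, nat_lit 6, nat_lit 5, nat_lit 4, nat_lit 3, nat_lit 2, nat_lit 0, nat_lit 8, nat_lit 7, nat_lit 6, nat_lit 5, nat_lit 4],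
  [nat_lit 0, nat_lit 2, nat_lit 0, nat_lit 3, nat_lit 2, nat_lit 0, nat_lit 5, nat_lit 4, nat_lit 3, nat_lit 2, nat_lit 6, nat_lit 5, nat_lit 4, nat_lit 7, nat_lit 6, nat_lit 5, nat_lit 4, nat_lit 8],
  [nat_lit 1, nat_lit 2, nat_lit 0, nat_lit 3, nat_lit 2, nat_lit 0, nat_lit 5, nat_lit 6, nat_lit 5, nat_lit 8]]
noncomputable def p2t_P : ℕ → ℕ → ℕ := wdsP H16.A11.P p2t_W
noncomputable def p2Pd : List ℕ := [nat_lit 0xa9241375860,
  nat_lit 0xa9246573810,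
  nat_lit 0xa9483621750,
  nat_lit 0xa9785621430,
  nat_lit 0xa9273641850,
  nat_lit 0x9a368714520,
  nat_lit 0xa9658734120]
noncomputable def p2P (k u : ℕ) : ℕ := Nat.land (Nat.shiftRight (nth (nat_lit 0) p2Pd k) (Nat.mul u (nat_lit 4))) (nat_lit 15)
noncomputable def p2Ed : ℕ := nat_lit 0x84a97653210
noncomputable def p2E (u : ℕ) : ℕ := Nat.land (Nat.shiftRight p2Ed (Nat.mul u (nat_lit 4))) (nat_lit 15)
noncomputable def p2Id : ℕ := nat_lit 0x87a65493210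
noncomputable def p2I (u : ℕ) : ℕ := Nat.land (Nat.shiftRight p2Id (Nat.mul u (nat_lit 4))) (nat_lit 15)
noncomputable def p2B : List ℕ := [nat_lit 0, nat_lit 1, nat_lit 2, nat_lit 3, nat_lit 9, nat_lit 4, nat_lit 5, nat_lit 6, nat_lit 7]
noncomputable def p2C : List (List (List ℕ)) := [[[],
  [],
  [],
  [],
  [],
  [],
  []], [[],
  [],
  [],
  [],
  [],
  [nat_lit 0],
  [nat_lit 0]], [[],
  [],
  [nat_lit 0],
  [nat_lit 0],
  [nat_lit 1],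
  [],
  []], [[],
  [],
  [],
  [],
  [nat_lit 0],
  [nat_lit 0, nat_lit 1],
  []], [[],
  [],
  [],
  [],
  [nat_lit 0, nat_lit 1],
  [nat_lit 0, nat_lit 1, nat_lit 3],
  [nat_lit 3]], [[],
  [],
  [],
  [],
  [],
  [nat_lit 2],
  [nat_lit 0, nat_lit 1, nat_lit 2]], [[],
  [],
  [],
  [],
  [],
  [],
  []]]
noncomputable def p2e : List (List ℕ) := [[],
  [],
  [],
  [],
  [],
  [],
  [],
  [],
  [],
  [],
  [],
  [],
  [],
  [],
  [],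
  [],
  [],
  [],
  [],
  [],
  [],
  [],
  [],
  [],
  [],
  [],
  [],
  [],
  [],
  [],
  [],
  [],
  [],
  [],
  [],
  [],
  [],
  [],
  [],
  [],
  [],
  [],
  [],
  [],
  [],
  [],
  [],
  [],
  [],
  [],
  [],
  [],
  [],
  [],
  [],
  [],
  [],
  [],
  [],
  [],
  [],
  [],
  [],
  [],
  [],
  [],
  [],
  [],
  [],
  [],
  [],
  [],
  [],
  [],
  [],
  [],
  [],
  [],
  [],
  [],
  [],
  [],
  [],
  [],
  [],
  [],
  [],
  [],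
  [],
  [],
  [],
  [],
  [],
  [],
  [],
  [],
  [],
  [],
  [],
  [],
  [],
  [],
  [],
  [],
  [],
  [],
  [],
  [],
  [],
  [],
  [],
  [],
  [],
  [],
  [],
  [],
  [],
  [],
  [],
  [],
  [],
  [],
  [],
  [],
  [],
  [],
  [],
  [],
  [],
  [],
  [],
  [],
  [],
  [],
  [],
  [],
  [],
  [],
  [],
  [],
  [],
  [],
  [],
  [],
  [],
  [],
  [],
  [],
  [],
  [],
  [],
  [],
  [],
  [],
  [],
  [],
  [],
  [],
  [],
  [],
  [],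
  [],
  [],
  [],
  [],
  [],
  [],
  [],
  [],
  [],
  [],
  [],
  [],
  [],
  [],
  [],
  [],
  [],
  [],
  [],
  [],
  [],
  [],
  [],
  [],
  [],
  [],
  [],
  [],
  [nat_lit 0, nat_lit 2, nat_lit 4, nat_lit 5, nat_lit 6],
  [nat_lit 3, nat_lit 4, nat_lit 5, nat_lit 6],
  [],
  [nat_lit 1, nat_lit 3, nat_lit 4],
  [nat_lit 3, nat_lit 4, nat_lit 5]]
noncomputable def p2l0Dd : ℕ := nat_lit 0xf2307906459118230400
noncomputable def p2l0D (u : ℕ) : ℕ := Nat.land (Nat.shiftRight p2l0Dd (Nat.mul u (nat_lit 10))) (nat_lit 1023)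
noncomputable def p2l0Pd : ℕ := nat_lit 0x36758421
noncomputable def p2l0P (u : ℕ) : ℕ := Nat.land (Nat.shiftRight p2l0Pd (Nat.mul u (nat_lit 4))) (nat_lit 15)
noncomputable def p2l0Qd : ℕ := nat_lit 0x3ba2e40
noncomputable def p2l0Q (u : ℕ) : ℕ := Nat.land (Nat.shiftRight p2l0Qd (Nat.mul u (nat_lit 3))) (nat_lit 7)
noncomputable def p2l0 : Lev := ⟨8, 194, p2l0D, p2l0P, p2l0Q⟩
noncomputable def p2l1Dd : ℕ := nat_lit 0xbf6058000
noncomputable def p2l1D (u : ℕ) : ℕ := Nat.land (Nat.shiftRight p2l1Dd (Nat.mul u (nat_lit 9))) (nat_lit 511)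
noncomputable def p2l1Pd : ℕ := nat_lit 0x7842
noncomputable def p2l1P (u : ℕ) : ℕ := Nat.land (Nat.shiftRight p2l1Pd (Nat.mul u (nat_lit 4))) (nat_lit 15)
noncomputable def p2l1Qd : ℕ := nat_lit 0x2c100
noncomputable def p2l1Q (u : ℕ) : ℕ := Nat.land (Nat.shiftRight p2l1Qd (Nat.mul u (nat_lit 2))) (nat_lit 3)
noncomputable def p2l1 : Lev := ⟨4, 193, p2l1D, p2l1P, p2l1Q⟩
noncomputable def p2l2Dd : ℕ := nat_lit 0xbe00
noncomputable def p2l2D (u : ℕ) : ℕ := Nat.land (Nat.shiftRight p2l2Dd (Nat.mul u (nat_lit 8))) (nat_lit 255)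
noncomputable def p2l2Pd : ℕ := nat_lit 0x2b
noncomputable def p2l2P (u : ℕ) : ℕ := Nat.land (Nat.shiftRight p2l2Pd (Nat.mul u (nat_lit 3))) (nat_lit 7)
noncomputable def p2l2Qd : ℕ := nat_lit 0x20
noncomputable def p2l2Q (u : ℕ) : ℕ := Nat.land (Nat.shiftRight p2l2Qd (Nat.mul u (nat_lit 1))) (nat_lit 1)
noncomputable def p2l2 : Lev := ⟨2, 191, p2l2D, p2l2P, p2l2Q⟩
noncomputable def p2l3Dd : ℕ := nat_lit 0xbd00
noncomputable def p2l3D (u : ℕ) : ℕ := Nat.land (Nat.shiftRight p2l3Dd (Nat.mul u (nat_lit 8))) (nat_lit 255)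
noncomputable def p2l3Pd : ℕ := nat_lit 0x3c
noncomputable def p2l3P (u : ℕ) : ℕ := Nat.land (Nat.shiftRight p2l3Pd (Nat.mul u (nat_lit 3))) (nat_lit 7)
noncomputable def p2l3Qd : ℕ := nat_lit 0x80
noncomputable def p2l3Q (u : ℕ) : ℕ := Nat.land (Nat.shiftRight p2l3Qd (Nat.mul u (nat_lit 1))) (nat_lit 1)
noncomputable def p2l3 : Lev := ⟨2, 190, p2l3D, p2l3P, p2l3Q⟩
noncomputable def covr_W : List (List ℕ) := [[nat_lit 2],
  [nat_lit 3, nat_lit 5, nat_lit 7, nat_lit 9]]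
noncomputable def covr_P : ℕ → ℕ → ℕ := wdsP H16.A11.P covr_W
noncomputable def covT0 : CT := (.split (.more (.split (.more (.split (.more (.split (.more (.split (.more (.split (.more (.split (.more .one (.more (.leaf (nat_lit 1) [nat_lit 0, nat_lit 4, nat_lit 3, nat_lit 2, nat_lit 5, nat_lit 4, nat_lit 3, nat_lit 2, nat_lit 1, nat_lit 6, nat_lit 7, nat_lit 6, nat_lit 5, nat_lit 8, nat_lit 7, nat_lit 9, nat_lit 8, nat_lit 7, nat_lit 6, nat_lit 5, nat_lit 4, nat_lit 3, nat_lit 2, nat_lit 1]) .one))) (.more (.fuse [nat_lit 5] [] (.leaf (nat_lit 0) [nat_lit 3, nat_lit 4, nat_lit 3, nat_lit 2, nat_lit 0, nat_lit 6, nat_lit 7, nat_lit 6, nat_lit 5, nat_lit 4, nat_lit 3, nat_lit 2, nat_lit 8, nat_lit 7])) .one))) (.more (.fuse [nat_lit 4] [] (.fuse [nat_lit 3] [] (.prune (nat_lit 0) (nat_lit 1) []))) .one))) (.more (.split (.more (.fuse [nat_lit 5] [nat_lit 0] (.fuse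 [nat_lit 2] [] (.leaf (nat_lit 1) [nat_lit 0, nat_lit 5, nat_lit 4, nat_lit 3, nat_lit 2, nat_lit 0, nat_lit 7, nat_lit 6, nat_lit 9, nat_lit 8, nat_lit 7, nat_lit 6, nat_lit 5, nat_lit 4, nat_lit 3, nat_lit 2]))) (.more (.fuse [nat_lit 4] [nat_lit 0] (.fuse [nat_lit 2] [] (.leaf (nat_lit 0) [nat_lit 1, nat_lit 2, nat_lit 1, nat_lit 3, nat_lit 2, nat_lit 6, nat_lit 7, nat_lit 6, nat_lit 5, nat_lit 4, nat_lit 3, nat_lit 2, nat_lit 8, nat_lit 7, nat_lit 6, nat_lit 5, nat_lit 4, nat_lit 3, nat_lit 2, nat_lit 1, nat_lit 9, nat_lit 8, nat_lit 7]))) .one))) .one))) (.more (.fuse [nat_lit 5] [nat_lit 1] (.split (.more (.fuse [nat_lit 2] [] (.prune (nat_lit 1) (nat_lit 1) [nat_lit 0])) (.more (.fuse [nat_lit 2] [] (.split (.more (.leaf (nat_lit 1) [nat_lit 0, nat_lit 4, nat_lit 3, nat_lit 5, nat_lit 4, nat_lit 3, nat_lit 2, nat_lit 0, nat_lit 7, nat_lit 6, nat_lit 5, nat_lit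 4, nat_lit 3, nat_lit 8, nat_lit 7, nat_lit 9, nat_lit 8, nat_lit 7, nat_lit 6, nat_lit 5, nat_lit 4, nat_lit 3, nat_lit 2]) (.more (.leaf (nat_lit 0) [nat_lit 3, nat_lit 2, nat_lit 4, nat_lit 3, nat_lit 2, nat_lit 5, nat_lit 4, nat_lit 3, nat_lit 6, nat_lit 7, nat_lit 6, nat_lit 5, nat_lit 4, nat_lit 3, nat_lit 8, nat_lit 9, nat_lit 8, nat_lit 7]) .one)))) .one)))) .one))) (.more (.split (.more (.fuse [nat_lit 4] [] (.fuse [nat_lit 6] [nat_lit 1] (.prune (nat_lit 2) (nat_lit 1) []))) (.more (.fuse [nat_lit 4] [nat_lit 0] (.prune (nat_lit 3) (nat_lit 1) [nat_lit 1, nat_lit 2])) .one))) .one))) (.more (.split (.more (.split (.more (.fuse [nat_lit 4] [] (.fuse [nat_lit 5] [nat_lit 0, nat_lit 1] (.split (.more (.fuse [nat_lit 1] [] (.leaf (nat_lit 1) [nat_lit 0, nat_lit 3, nat_lit 2, nat_lit 5, nat_lit 4, nat_lit 3, nat_lit 2, nat_lit 0, nat_lit 8, nat_lit 9, nat_lit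 8, nat_lit 7, nat_lit 6, nat_lit 5, nat_lit 4, nat_lit 3, nat_lit 2, nat_lit 1])) (.more (.fuse [nat_lit 1] [] (.prune (nat_lit 0) (nat_lit 1) [])) .one))))) (.more (.fuse [nat_lit 4] [nat_lit 0] (.prune (nat_lit 3) (nat_lit 1) [nat_lit 0, nat_lit 1])) .one))) (.more (.split (.more (.split (.more (.fuse [nat_lit 5] [nat_lit 1] (.fuse [nat_lit 3] [] (.prune (nat_lit 1) (nat_lit 1) []))) (.more (.fuse [nat_lit 5] [] (.fuse [nat_lit 3] [] (.fuse [nat_lit 2] [] (.leaf (nat_lit 1) [nat_lit 3, nat_lit 4, nat_lit 3, nat_lit 2, nat_lit 5, nat_lit 4, nat_lit 7, nat_lit 6, nat_lit 5, nat_lit 4, nat_lit 3, nat_lit 2, nat_lit 1, nat_lit 8, nat_lit 9, nat_lit 8, nat_lit 7, nat_lit 6, nat_lit 5, nat_lit 4, nat_lit 3, nat_lit 2])))) .one))) (.more (.fuse [nat_lit 5] [nat_lit 0, nat_lit 1, nat_lit 2] (.split (.more (.fuse [nat_lit 2] [] (.prune (nat_lit 1) (nat_lit 1) [nat_lit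 0])) (.more (.fuse [nat_lit 2] [] (.split (.more (.leaf (nat_lit 1) [nat_lit 0, nat_lit 3, nat_lit 2, nat_lit 1, nat_lit 4, nat_lit 3, nat_lit 2, nat_lit 1, nat_lit 5, nat_lit 4, nat_lit 6, nat_lit 5, nat_lit 4, nat_lit 3, nat_lit 7, nat_lit 8, nat_lit 9, nat_lit 8, nat_lit 7, nat_lit 6, nat_lit 5, nat_lit 4, nat_lit 3, nat_lit 2]) (.more (.leaf (nat_lit 0) [nat_lit 0, nat_lit 2, nat_lit 3, nat_lit 2, nat_lit 4, nat_lit 3, nat_lit 2, nat_lit 1, nat_lit 5, nat_lit 4, nat_lit 3, nat_lit 2, nat_lit 7, nat_lit 8, nat_lit 7, nat_lit 6, nat_lit 5, nat_lit 4]) .one)))) .one)))) .one))) .one))) .one)))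
noncomputable def W4 : List (List ℕ) := [[nat_lit 6, nat_lit 5, nat_lit 9, nat_lit 7, nat_lit 6, nat_lit 3],
  [nat_lit 7, nat_lit 6, nat_lit 5, nat_lit 8, nat_lit 7, nat_lit 9, nat_lit 8, nat_lit 6, nat_lit 7, nat_lit 3],
  [nat_lit 4, nat_lit 7, nat_lit 8, nat_lit 9, nat_lit 8, nat_lit 7, nat_lit 8, nat_lit 3, nat_lit 5, nat_lit 4],
  [nat_lit 3, nat_lit 4, nat_lit 3, nat_lit 7, nat_lit 8, nat_lit 9, nat_lit 8, nat_lit 7, nat_lit 8, nat_lit 5, nat_lit 4, nat_lit 3]]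
def sw : List ℕ := [1, 0, 2, 3, 4, 5, 6, 7, 8, 9]

theorem md_b : ltAll 11 H16.A11.B = 0 ∧ 19958400 ≠ 0 := by decide +kernel
theorem x_lt : allL (ltAll 10) x_W = true := by decide +kernel
theorem ah_lt : allL (ltAll 10) ah_W = true := by decide +kernel
theorem al0_e_0 : allZ (dent al0 ah_P (nat_lit 11)) (nat_lit 0) (nat_lit 10) = true := by decide +kernel
theorem al0_h : 0 < al0.n ∧ 0 < al0.K ∧ al0.Pt 0 < 11 ∧ al0.Q (al0.Pt 0) = 0 := by decide +kernel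
theorem al1_e_0 : allZ (dent al1 ah_P (nat_lit 11)) (nat_lit 0) (nat_lit 9) = true := by decide +kernel
theorem al1_h : 0 < al1.n ∧ 0 < al1.K ∧ al1.Pt 0 < 11 ∧ al1.Q (al1.Pt 0) = 0 := by decide +kernel
theorem al2_e_0 : allZ (dent al2 ah_P (nat_lit 11)) (nat_lit 0) (nat_lit 8) = true := by decide +kernel
theorem al2_h : 0 < al2.n ∧ 0 < al2.K ∧ al2.Pt 0 < 11 ∧ al2.Q (al2.Pt 0) = 0 := by decide +kernel
theorem al3_e_0 : allZ (dent al3 ah_P (nat_lit 11)) (nat_lit 0) (nat_lit 7) = true := by decide +kernel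
theorem al3_h : 0 < al3.n ∧ 0 < al3.K ∧ al3.Pt 0 < 11 ∧ al3.Q (al3.Pt 0) = 0 := by decide +kernel
theorem al4_e_0 : allZ (dent al4 ah_P (nat_lit 11)) (nat_lit 0) (nat_lit 6) = true := by decide +kernel
theorem al4_h : 0 < al4.n ∧ 0 < al4.K ∧ al4.Pt 0 < 11 ∧ al4.Q (al4.Pt 0) = 0 := by decide +kernel
theorem al5_e_0 : allZ (dent al5 ah_P (nat_lit 11)) (nat_lit 0) (nat_lit 5) = true := by decide +kernel
theorem al5_h : 0 < al5.n ∧ 0 < al5.K ∧ al5.Pt 0 < 11 ∧ al5.Q (al5.Pt 0) = 0 := by decide +kernel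
theorem al6_e_0 : allZ (dent al6 ah_P (nat_lit 11)) (nat_lit 0) (nat_lit 4) = true := by decide +kernel
theorem al6_h : 0 < al6.n ∧ 0 < al6.K ∧ al6.Pt 0 < 11 ∧ al6.Q (al6.Pt 0) = 0 := by decide +kernel
theorem al7_e_0 : allZ (dent al7 ah_P (nat_lit 11)) (nat_lit 0) (nat_lit 3) = true := by decide +kernel
theorem al7_h : 0 < al7.n ∧ 0 < al7.K ∧ al7.Pt 0 < 11 ∧ al7.Q (al7.Pt 0) = 0 := by decide +kernel
theorem al8_e_0 : allZ (dent al8 ah_P (nat_lit 11)) (nat_lit 0) (nat_lit 2) = true := by decide +kernel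
theorem al8_h : 0 < al8.n ∧ 0 < al8.K ∧ al8.Pt 0 < 11 ∧ al8.Q (al8.Pt 0) = 0 := by decide +kernel
theorem a_f8 : (Nat.ble al8.K 12 && Nat.ble (topK []) al8.K && fixLetters ah_P (topK []) (al8.Pt 0)) = true := by decide +kernel
theorem a_f7 : (Nat.ble al7.K 12 && Nat.ble (topK [al8]) al7.K && fixLetters ah_P (topK [al8]) (al7.Pt 0)) = true := by decide +kernel
theorem a_f6 : (Nat.ble al6.K 12 && Nat.ble (topK [al7, al8]) al6.K && fixLetters ah_P (topK [al7, al8]) (al6.Pt 0)) = true := by decide +kernel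
theorem a_f5 : (Nat.ble al5.K 12 && Nat.ble (topK [al6, al7, al8]) al5.K && fixLetters ah_P (topK [al6, al7, al8]) (al5.Pt 0)) = true := by decide +kernel
theorem a_f4 : (Nat.ble al4.K 12 && Nat.ble (topK [al5, al6, al7, al8]) al4.K && fixLetters ah_P (topK [al5, al6, al7, al8]) (al4.Pt 0)) = true := by decide +kernel
theorem a_f3 : (Nat.ble al3.K 12 && Nat.ble (topK [al4, al5, al6, al7, al8]) al3.K && fixLetters ah_P (topK [al4, al5, al6, al7, al8]) (al3.Pt 0)) = true := by decide +kernel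
theorem a_f2 : (Nat.ble al2.K 12 && Nat.ble (topK [al3, al4, al5, al6, al7, al8]) al2.K && fixLetters ah_P (topK [al3, al4, al5, al6, al7, al8]) (al2.Pt 0)) = true := by decide +kernel
theorem a_f1 : (Nat.ble al1.K 12 && Nat.ble (topK [al2, al3, al4, al5, al6, al7, al8]) al1.K && fixLetters ah_P (topK [al2, al3, al4, al5, al6, al7, al8]) (al1.Pt 0)) = true := by decide +kernel
theorem a_f0 : (Nat.ble al0.K 12 && Nat.ble (topK [al1, al2, al3, al4, al5, al6, al7, al8]) al0.K && fixLetters ah_P (topK [al1, al2, al3, al4, al5, al6, al7, al8]) (al0.Pt 0)) = true := by decide +kernel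
theorem a_c : chainCard [al0, al1, al2, al3, al4, al5, al6, al7, al8] = 19958400 := by decide +kernel
theorem ce_lt : allL (ltAll 10) ce_W = true := by decide +kernel
theorem cc8_e_0 : allZ (dent cc8 ce_P (nat_lit 11)) (nat_lit 0) (nat_lit 2) = true := by decide +kernel
theorem cc8_h : 0 < cc8.n ∧ 0 < cc8.K ∧ cc8.Pt 0 < 11 ∧ cc8.Q (cc8.Pt 0) = 0 := by decide +kernel
theorem an0_0 : (Nat.ble al8.K 12 && Nat.beq (ltAll 11 [al7.Pt 0, al6.Pt 0, al5.Pt 0, al4.Pt 0, al3.Pt 0, al2.Pt 0, al1.Pt 0, al0.Pt 0]) 0 && kChk ce_P x_P an0.Kn 5 H16.A11.B [al7.Pt 0, al6.Pt 0, al5.Pt 0, al4.Pt 0, al3.Pt 0, al2.Pt 0, al1.Pt 0, al0.Pt 0] && allL (ltAll 5) an0.pre && planOK ah_P x_P 5 (al8.Pt 0) an0.plan [al8]) = true := by decide +kernel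
theorem an0_1_0 : allZ (an0.ent H16.A11.P ah_P x_P x_P ce_P (nat_lit 10) (nat_lit 5) H16.A11.B al8 [] (memO cc8)) (nat_lit 0) (nat_lit 3) = true := by decide +kernel
theorem c_f8 : (Nat.ble cc8.K 2 && Nat.ble (topK []) cc8.K && Nat.beq (cc8.Pt 0) (al8.Pt 0) && Nat.beq (ltAll 11 [al7.Pt 0, al6.Pt 0, al5.Pt 0, al4.Pt 0, al3.Pt 0, al2.Pt 0, al1.Pt 0, al0.Pt 0]) 0 && kChk ce_P x_P cc8.K 5 H16.A11.B [al7.Pt 0, al6.Pt 0, al5.Pt 0, al4.Pt 0, al3.Pt 0, al2.Pt 0, al1.Pt 0, al0.Pt 0]) = true := by decide +kernel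
theorem c_f7 : (Nat.ble al7.K 12 && Nat.blt (nat_lit 0) 11 && fixLetters ah_P al7.K (nat_lit 0) && Nat.beq (ltAll 5 [nat_lit 0, nat_lit 1, nat_lit 2]) 0 && Nat.beq (apW x_P [nat_lit 0, nat_lit 1, nat_lit 2] (nat_lit 0)) (al7.Pt 0)) = true := by decide +kernel
theorem c_f6 : (Nat.ble al6.K 12 && Nat.blt (nat_lit 0) 11 && fixLetters ah_P al6.K (nat_lit 0) && Nat.beq (ltAll 5 [nat_lit 0, nat_lit 3]) 0 && Nat.beq (apW x_P [nat_lit 0, nat_lit 3] (nat_lit 0)) (al6.Pt 0)) = true := by decide +kernel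
theorem c_f5 : (Nat.ble al5.K 12 && Nat.blt (nat_lit 0) 11 && fixLetters ah_P al5.K (nat_lit 0) && Nat.beq (ltAll 5 [nat_lit 0, nat_lit 2]) 0 && Nat.beq (apW x_P [nat_lit 0, nat_lit 2] (nat_lit 0)) (al5.Pt 0)) = true := by decide +kernel
theorem c_f4 : (Nat.ble al4.K 12 && Nat.blt (nat_lit 0) 11 && fixLetters ah_P al4.K (nat_lit 0) && Nat.beq (ltAll 5 [nat_lit 0, nat_lit 1]) 0 && Nat.beq (apW x_P [nat_lit 0, nat_lit 1] (nat_lit 0)) (al4.Pt 0)) = true := by decide +kernel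
theorem c_f3 : (Nat.ble al3.K 12 && Nat.blt (nat_lit 0) 11 && fixLetters ah_P al3.K (nat_lit 0) && Nat.beq (ltAll 5 [nat_lit 0]) 0 && Nat.beq (apW x_P [nat_lit 0] (nat_lit 0)) (al3.Pt 0)) = true := by decide +kernel
theorem c_f2 : (Nat.ble al2.K 12 && Nat.blt (nat_lit 0) 11 && fixLetters ah_P al2.K (nat_lit 0) && Nat.beq (ltAll 5 [nat_lit 1]) 0 && Nat.beq (apW x_P [nat_lit 1] (nat_lit 0)) (al2.Pt 0)) = true := by decide +kernel
theorem c_f1 : (Nat.ble al1.K 12 && Nat.blt (nat_lit 0) 11 && fixLetters ah_P al1.K (nat_lit 0) && Nat.beq (ltAll 5 [nat_lit 2]) 0 && Nat.beq (apW x_P [nat_lit 2] (nat_lit 0)) (al1.Pt 0)) = true := by decide +kernel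
theorem cc0_e_0 : allZ (dent cc0 ce_P (nat_lit 11)) (nat_lit 0) (nat_lit 1) = true := by decide +kernel
theorem cc0_h : 0 < cc0.n ∧ 0 < cc0.K ∧ cc0.Pt 0 < 11 ∧ cc0.Q (cc0.Pt 0) = 0 := by decide +kernel
theorem an1_0 : (Nat.ble al0.K 12 && Nat.beq (ltAll 11 []) 0 && kChk ce_P x_P an1.Kn 5 H16.A11.B [] && allL (ltAll 5) an1.pre && planOK ah_P x_P 5 (al0.Pt 0) an1.plan [al0, al1, al2, al3, al4, al5, al6, al7, al8]) = true := by decide +kernel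
theorem an1_1_0 : allZ (an1.ent H16.A11.P ah_P x_P x_P ce_P (nat_lit 10) (nat_lit 5) H16.A11.B al0 [al1, al2, al3, al4, al5, al6, al7, al8] (memO cc0)) (nat_lit 0) (nat_lit 11) = true := by decide +kernel
theorem c_f0 : (Nat.ble cc0.K 2 && Nat.ble (topK [cc8]) cc0.K && Nat.beq (cc0.Pt 0) (al0.Pt 0) && Nat.beq (ltAll 11 []) 0 && kChk ce_P x_P cc0.K 5 H16.A11.B []) = true := by decide +kernel
theorem c_c : chainCard [cc0, cc8] = 6 ∧ topK [cc0, cc8] = 2 := by decide +kernel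
theorem e_lt : allL (ltAll 10) e_W = true := by decide +kernel
theorem ee_k : Nat.add (ltAll 2 [nat_lit 0, nat_lit 0, nat_lit 1]) (sumL (fun β => Nat.xor (e_P 0 β) (apW ce_P [nat_lit 0, nat_lit 0, nat_lit 1] β)) H16.A11.B) = 0 := by decide +kernel
theorem e6_k : fixL e_P 1 H16.A11.B (List.replicate 6 0) = 0 := by decide +kernel
theorem e3_k : 0 < 11 ∧ ltAll 1 (List.replicate 3 0) = 0 ∧ ltAll 1 [] = 0 ∧ apW e_P (List.replicate 3 0) 0 ≠ apW e_P [] 0 := by decide +kernel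
theorem e2_k : 9 < 11 ∧ ltAll 1 (List.replicate 2 0) = 0 ∧ ltAll 1 [] = 0 ∧ apW e_P (List.replicate 2 0) 9 ≠ apW e_P [] 9 := by decide +kernel
theorem p2t_lt : allL (ltAll 10) p2t_W = true := by decide +kernel
theorem p2_r_a : allZ2 (resEnt p2t_P p2P p2E p2I (nat_lit 11) (nat_lit 11)) (nat_lit 7) (nat_lit 11) = true := by decide +kernel
theorem p2_b : neL H16.A11.B (p2B.map p2E) = 0 ∧ ltAll 11 p2B = 0 := by decide +kernel
theorem p2_p : allZ2 (pcEnt p2P (nat_lit 2) p2B p2C) 7 7 = true := by decide +kernel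
theorem p2_e : allL (ltAll 7) p2e = true := by decide +kernel
theorem p2l0_e_0 : allZ (dent p2l0 (wdsP p2P p2e) (nat_lit 11)) (nat_lit 0) (nat_lit 7) = true := by decide +kernel
theorem p2l0_h : 0 < p2l0.n ∧ 0 < p2l0.K ∧ p2l0.Pt 0 < 11 ∧ p2l0.Q (p2l0.Pt 0) = 0 := by decide +kernel
theorem p2l1_e_0 : allZ (dent p2l1 (wdsP p2P p2e) (nat_lit 11)) (nat_lit 0) (nat_lit 3) = true := by decide +kernel
theorem p2l1_h : 0 < p2l1.n ∧ 0 < p2l1.K ∧ p2l1.Pt 0 < 11 ∧ p2l1.Q (p2l1.Pt 0) = 0 := by decide +kernel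
theorem p2l2_e_0 : allZ (dent p2l2 (wdsP p2P p2e) (nat_lit 11)) (nat_lit 0) (nat_lit 1) = true := by decide +kernel
theorem p2l2_h : 0 < p2l2.n ∧ 0 < p2l2.K ∧ p2l2.Pt 0 < 11 ∧ p2l2.Q (p2l2.Pt 0) = 0 := by decide +kernel
theorem p2l3_e_0 : allZ (dent p2l3 (wdsP p2P p2e) (nat_lit 11)) (nat_lit 0) (nat_lit 1) = true := by decide +kernel
theorem p2l3_h : 0 < p2l3.n ∧ 0 < p2l3.K ∧ p2l3.Pt 0 < 11 ∧ p2l3.Q (p2l3.Pt 0) = 0 := by decide +kernel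
theorem p2_f3 : (Nat.ble p2l3.K 194 && Nat.ble (topK []) p2l3.K && fixLetters (wdsP p2P p2e) (topK []) (p2l3.Pt 0)) = true := by decide +kernel
theorem p2_f2 : (Nat.ble p2l2.K 194 && Nat.ble (topK [p2l3]) p2l2.K && fixLetters (wdsP p2P p2e) (topK [p2l3]) (p2l2.Pt 0)) = true := by decide +kernel
theorem p2_f1 : (Nat.ble p2l1.K 194 && Nat.ble (topK [p2l2, p2l3]) p2l1.K && fixLetters (wdsP p2P p2e) (topK [p2l2, p2l3]) (p2l1.Pt 0)) = true := by decide +kernel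
theorem p2_f0 : (Nat.ble p2l0.K 194 && Nat.ble (topK [p2l1, p2l2, p2l3]) p2l0.K && fixLetters (wdsP p2P p2e) (topK [p2l1, p2l2, p2l3]) (p2l0.Pt 0)) = true := by decide +kernel
theorem p2_c : chainCard [p2l0, p2l1, p2l2, p2l3] = 2 ^ 7 ∧ ¬ 2 ^ (7 + 1) ∣ 19958400 := by decide +kernel
theorem covr_lt : allL (ltAll 10) covr_W = true := by decide +kernel
theorem cov_c0 : (Nat.ble 7 7 && Nat.beq (ltAll 7 []) 0 && Nat.beq (covT0.chk H16.A11.P p2P covr_P p2E 10 7 2 2 2 p2B 7 [] 0) 0) = true := by decide +kernel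
theorem w4 : ∀ k < 4, eqL H16.A11.P 10 H16.A11.B (rlW sw (nth [] W4 k)) (nth [] W4 k) = 0 ∧ ltAll 10 (nth [] W4 k) = 0 := by decide +kernel
theorem swc : ∀ k < 10, ∀ i : Fin 11, Equiv.swap 9 10 (ptF 11 (H16.A11.P k (Equiv.swap 9 10 i).val)) = ptF 11 (H16.A11.P (nth 0 sw k) i) ∧ nth 0 sw k < 10 := by decide +kernel

theorem md {G : Type*} [Group G] (e : gen H16.A11.g 10 ≃* G) :
    ∃ (_ : MulAction G (Fin 11)) (g : ℕ → G), Md g (ptF 11) H16.A11.P 11 10 H16.A11.B 19958400 ∧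
      ∀ k < 10, (e.symm (g k)).1 = H16.A11.g k :=
  exists_md H16.A11.act (ptF_inj 11) H16.A11.card H16.A11.isBase md_b e
theorem x_act {G Ω : Type*} [Group G] [MulAction G Ω] {g : ℕ → G} {pt : ℕ → Ω}
    (M : Md g pt H16.A11.P 11 10 H16.A11.B 19958400) : Act (wds g x_W) pt x_P 11 5 :=
  M.wact x_lt
theorem ah_act {G Ω : Type*} [Group G] [MulAction G Ω] {g : ℕ → G} {pt : ℕ → Ω}
    (M : Md g pt H16.A11.P 11 10 H16.A11.B 19958400) : Act (wds g ah_W) pt ah_P 11 12 :=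
  M.wact ah_lt
theorem al0_e : ∀ i < 10, (dent al0 ah_P (nat_lit 11)) i = 0 := allZ_sound0 al0_e_0
theorem al0_ok : DOK al0 ah_P 11 := ⟨al0_h, al0_e⟩
theorem al1_e : ∀ i < 9, (dent al1 ah_P (nat_lit 11)) i = 0 := allZ_sound0 al1_e_0
theorem al1_ok : DOK al1 ah_P 11 := ⟨al1_h, al1_e⟩
theorem al2_e : ∀ i < 8, (dent al2 ah_P (nat_lit 11)) i = 0 := allZ_sound0 al2_e_0
theorem al2_ok : DOK al2 ah_P 11 := ⟨al2_h, al2_e⟩
theorem al3_e : ∀ i < 7, (dent al3 ah_P (nat_lit 11)) i = 0 := allZ_sound0 al3_e_0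
theorem al3_ok : DOK al3 ah_P 11 := ⟨al3_h, al3_e⟩
theorem al4_e : ∀ i < 6, (dent al4 ah_P (nat_lit 11)) i = 0 := allZ_sound0 al4_e_0
theorem al4_ok : DOK al4 ah_P 11 := ⟨al4_h, al4_e⟩
theorem al5_e : ∀ i < 5, (dent al5 ah_P (nat_lit 11)) i = 0 := allZ_sound0 al5_e_0
theorem al5_ok : DOK al5 ah_P 11 := ⟨al5_h, al5_e⟩
theorem al6_e : ∀ i < 4, (dent al6 ah_P (nat_lit 11)) i = 0 := allZ_sound0 al6_e_0
theorem al6_ok : DOK al6 ah_P 11 := ⟨al6_h, al6_e⟩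
theorem al7_e : ∀ i < 3, (dent al7 ah_P (nat_lit 11)) i = 0 := allZ_sound0 al7_e_0
theorem al7_ok : DOK al7 ah_P 11 := ⟨al7_h, al7_e⟩
theorem al8_e : ∀ i < 2, (dent al8 ah_P (nat_lit 11)) i = 0 := allZ_sound0 al8_e_0
theorem al8_ok : DOK al8 ah_P 11 := ⟨al8_h, al8_e⟩
theorem a_low {G Ω : Type*} [Group G] [MulAction G Ω] {g : ℕ → G} {pt : ℕ → Ω}
    (M : Md g pt H16.A11.P 11 10 H16.A11.B 19958400) : SLow (gi (wds g ah_W)) pt 11 [al0, al1, al2, al3, al4, al5, al6, al7, al8] :=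
  (((((((((SLow.nil).cons al8_ok (ah_act M) a_f8).cons al7_ok (ah_act M) a_f7).cons al6_ok (ah_act M) a_f6).cons al5_ok (ah_act M) a_f5).cons al4_ok (ah_act M) a_f4).cons al3_ok (ah_act M) a_f3).cons al2_ok (ah_act M) a_f2).cons al1_ok (ah_act M) a_f1).cons al0_ok (ah_act M) a_f0
theorem a_S0 {G Ω : Type*} [Group G] [MulAction G Ω] {g : ℕ → G} {pt : ℕ → Ω}
    (M : Md g pt H16.A11.P 11 10 H16.A11.B 19958400) : Stage ⊤ (wds g ah_W) pt 11 [al0, al1, al2, al3, al4, al5, al6, al7, al8] [] :=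
  M.stage (a_low M) a_c
theorem a_S1 {G Ω : Type*} [Group G] [MulAction G Ω] {g : ℕ → G} {pt : ℕ → Ω}
    (M : Md g pt H16.A11.P 11 10 H16.A11.B 19958400) : Stage ⊤ (wds g ah_W) pt 11 [al1, al2, al3, al4, al5, al6, al7, al8] [al0.Pt 0] :=
  (a_S0 M).next
theorem a_S2 {G Ω : Type*} [Group G] [MulAction G Ω] {g : ℕ → G} {pt : ℕ → Ω}
    (M : Md g pt H16.A11.P 11 10 H16.A11.B 19958400) : Stage ⊤ (wds g ah_W) pt 11 [al2, al3, al4, al5, al6, al7, al8] [al1.Pt 0, al0.Pt 0] :=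
  (a_S1 M).next
theorem a_S3 {G Ω : Type*} [Group G] [MulAction G Ω] {g : ℕ → G} {pt : ℕ → Ω}
    (M : Md g pt H16.A11.P 11 10 H16.A11.B 19958400) : Stage ⊤ (wds g ah_W) pt 11 [al3, al4, al5, al6, al7, al8] [al2.Pt 0, al1.Pt 0, al0.Pt 0] :=
  (a_S2 M).next
theorem a_S4 {G Ω : Type*} [Group G] [MulAction G Ω] {g : ℕ → G} {pt : ℕ → Ω}
    (M : Md g pt H16.A11.P 11 10 H16.A11.B 19958400) : Stage ⊤ (wds g ah_W) pt 11 [al4, al5, al6, al7, al8] [al3.Pt 0, al2.Pt 0, al1.Pt 0, al0.Pt 0] :=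
  (a_S3 M).next
theorem a_S5 {G Ω : Type*} [Group G] [MulAction G Ω] {g : ℕ → G} {pt : ℕ → Ω}
    (M : Md g pt H16.A11.P 11 10 H16.A11.B 19958400) : Stage ⊤ (wds g ah_W) pt 11 [al5, al6, al7, al8] [al4.Pt 0, al3.Pt 0, al2.Pt 0, al1.Pt 0, al0.Pt 0] :=
  (a_S4 M).next
theorem a_S6 {G Ω : Type*} [Group G] [MulAction G Ω] {g : ℕ → G} {pt : ℕ → Ω}
    (M : Md g pt H16.A11.P 11 10 H16.A11.B 19958400) : Stage ⊤ (wds g ah_W) pt 11 [al6, al7, al8] [al5.Pt 0, al4.Pt 0, al3.Pt 0, al2.Pt 0, al1.Pt 0, al0.Pt 0] :=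
  (a_S5 M).next
theorem a_S7 {G Ω : Type*} [Group G] [MulAction G Ω] {g : ℕ → G} {pt : ℕ → Ω}
    (M : Md g pt H16.A11.P 11 10 H16.A11.B 19958400) : Stage ⊤ (wds g ah_W) pt 11 [al7, al8] [al6.Pt 0, al5.Pt 0, al4.Pt 0, al3.Pt 0, al2.Pt 0, al1.Pt 0, al0.Pt 0] :=
  (a_S6 M).next
theorem a_S8 {G Ω : Type*} [Group G] [MulAction G Ω] {g : ℕ → G} {pt : ℕ → Ω}
    (M : Md g pt H16.A11.P 11 10 H16.A11.B 19958400) : Stage ⊤ (wds g ah_W) pt 11 [al8] [al7.Pt 0, al6.Pt 0, al5.Pt 0, al4.Pt 0, al3.Pt 0, al2.Pt 0, al1.Pt 0, al0.Pt 0] :=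
  (a_S7 M).next
theorem a_S9 {G Ω : Type*} [Group G] [MulAction G Ω] {g : ℕ → G} {pt : ℕ → Ω}
    (M : Md g pt H16.A11.P 11 10 H16.A11.B 19958400) : Stage ⊤ (wds g ah_W) pt 11 [] [al8.Pt 0, al7.Pt 0, al6.Pt 0, al5.Pt 0, al4.Pt 0, al3.Pt 0, al2.Pt 0, al1.Pt 0, al0.Pt 0] :=
  (a_S8 M).next
theorem ce_act {G Ω : Type*} [Group G] [MulAction G Ω] {g : ℕ → G} {pt : ℕ → Ω}
    (M : Md g pt H16.A11.P 11 10 H16.A11.B 19958400) : Act (wds g ce_W) pt ce_P 11 2 :=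
  M.wact ce_lt
theorem cc8_e : ∀ i < 2, (dent cc8 ce_P (nat_lit 11)) i = 0 := allZ_sound0 cc8_e_0
theorem cc8_ok : DOK cc8 ce_P 11 := ⟨cc8_h, cc8_e⟩
theorem an0_1 : ∀ i < 3, (an0.ent H16.A11.P ah_P x_P x_P ce_P (nat_lit 10) (nat_lit 5) H16.A11.B al8 [] (memO cc8)) i = 0 := allZ_sound0 an0_1_0
theorem an0_t {G Ω : Type*} [Group G] [MulAction G Ω] {g : ℕ → G} {pt : ℕ → Ω}
    (M : Md g pt H16.A11.P 11 10 H16.A11.B 19958400) : TrO (gen (wds g ah_W) al8.K) (wds g x_W) (wds g x_W) 5 pt 11 (al8.Pt 0) (memO cc8) :=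
  node M (a_S8 M) (ah_act M) (x_act M) (x_act M) an0 ((ce_act M).mono (by decide)) (fun _ _ => trivial) an0_0 an0_1 (List.forall_mem_nil _)
theorem cc0_e : ∀ i < 1, (dent cc0 ce_P (nat_lit 11)) i = 0 := allZ_sound0 cc0_e_0
theorem cc0_ok : DOK cc0 ce_P 11 := ⟨cc0_h, cc0_e⟩
theorem an1_1 : ∀ i < 11, (an1.ent H16.A11.P ah_P x_P x_P ce_P (nat_lit 10) (nat_lit 5) H16.A11.B al0 [al1, al2, al3, al4, al5, al6, al7, al8] (memO cc0)) i = 0 := allZ_sound0 an1_1_0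
theorem an1_t {G Ω : Type*} [Group G] [MulAction G Ω] {g : ℕ → G} {pt : ℕ → Ω}
    (M : Md g pt H16.A11.P 11 10 H16.A11.B 19958400) : TrO (gen (wds g ah_W) al0.K) (wds g x_W) (wds g x_W) 5 pt 11 (al0.Pt 0) (memO cc0) :=
  node M (a_S0 M) (ah_act M) (x_act M) (x_act M) an1 ((ce_act M).mono (by decide)) (fun _ _ => trivial) an1_0 an1_1 (List.forall_mem_nil _)
theorem c {G Ω : Type*} [Group G] [MulAction G Ω] {g : ℕ → G} {pt : ℕ → Ω}
    (M : Md g pt H16.A11.P 11 10 H16.A11.B 19958400) : Cen ⊤ (wds g x_W) 5 (wds g ce_W) pt 11 [cc0, cc8] :=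
  (a_S0 M).top ▸ Cen.lev M (a_S0 M) (Cen.triv (a_S1 M) (Cen.triv (a_S2 M) (Cen.triv (a_S3 M) (Cen.triv (a_S4 M) (Cen.triv (a_S5 M) (Cen.triv (a_S6 M) (Cen.triv (a_S7 M) (Cen.lev M (a_S8 M) (Cen.bot) (an0_t M) (x_act M) (ce_act M) (fun _ _ => trivial) cc8_ok c_f8) (forced (a_S7 M) (ah_act M) (x_act M) _ _ c_f7)) (forced (a_S6 M) (ah_act M) (x_act M) _ _ c_f6)) (forced (a_S5 M) (ah_act M) (x_act M) _ _ c_f5)) (forced (a_S4 M) (ah_act M) (x_act M) _ _ c_f4)) (forced (a_S3 M) (ah_act M) (x_act M) _ _ c_f3)) (forced (a_S2 M) (ah_act M) (x_act M) _ _ c_f2)) (forced (a_S1 M) (ah_act M) (x_act M) _ _ c_f1)) (an1_t M) (x_act M) (ce_act M) (fun _ _ => trivial) cc0_ok c_f0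
theorem c_eq {G Ω : Type*} [Group G] [MulAction G Ω] {g : ℕ → G} {pt : ℕ → Ω}
    (M : Md g pt H16.A11.P 11 10 H16.A11.B 19958400) : Subgroup.centralizer (gen (wds g x_W) 5) = gen (wds g ce_W) 2 ∧ Nat.card (gen (wds g ce_W) 2) = 6 :=
  c_c.1 ▸ c_c.2 ▸ ⟨(c M).cent, (c M).card M.inj⟩
theorem e_act {G Ω : Type*} [Group G] [MulAction G Ω] {g : ℕ → G} {pt : ℕ → Ω}
    (M : Md g pt H16.A11.P 11 10 H16.A11.B 19958400) : Act (wds g e_W) pt e_P 11 1 :=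
  M.wact e_lt
theorem ee {G Ω : Type*} [Group G] [MulAction G Ω] {g : ℕ → G} {pt : ℕ → Ω}
    (M : Md g pt H16.A11.P 11 10 H16.A11.B 19958400) : (wds g e_W) 0 = evA (wds g ce_W) [0, 0, 1] ∧ (wds g e_W) 0 ∈ gen (wds g ce_W) 2 :=
  M.eqw (ce_act M) (e_act M) (by decide) ee_k
theorem e6 {G Ω : Type*} [Group G] [MulAction G Ω] {g : ℕ → G} {pt : ℕ → Ω}
    (M : Md g pt H16.A11.P 11 10 H16.A11.B 19958400) : (wds g e_W) 0 ^ 6 = 1 :=
  M.pw (e_act M) e6_k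
theorem e3 {G Ω : Type*} [Group G] [MulAction G Ω] {g : ℕ → G} {pt : ℕ → Ω}
    (M : Md g pt H16.A11.P 11 10 H16.A11.B 19958400) : (wds g e_W) 0 ^ 3 ≠ 1 :=
  M.npw (e_act M) _ e3_k
theorem e2 {G Ω : Type*} [Group G] [MulAction G Ω] {g : ℕ → G} {pt : ℕ → Ω}
    (M : Md g pt H16.A11.P 11 10 H16.A11.B 19958400) : (wds g e_W) 0 ^ 2 ≠ 1 :=
  M.npw (e_act M) _ e2_k
theorem p2t_act {G Ω : Type*} [Group G] [MulAction G Ω] {g : ℕ → G} {pt : ℕ → Ω}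
    (M : Md g pt H16.A11.P 11 10 H16.A11.B 19958400) : Act (wds g p2t_W) pt p2t_P 11 7 :=
  M.wact p2t_lt
theorem p2_r : ∀ k < 7, ∀ i < 11, (resEnt p2t_P p2P p2E p2I (nat_lit 11) (nat_lit 11)) k i = 0 := allZ2_sound p2_r_a
theorem p2_sm {G Ω : Type*} [Group G] [MulAction G Ω] {g : ℕ → G} {pt : ℕ → Ω}
    (M : Md g pt H16.A11.P 11 10 H16.A11.B 19958400) : Sm (wds g p2t_W) (fun i => pt (p2E i)) p2P 11 7 p2B ∧ ∀ i < 11, p2E i < 11 :=
  M.res (p2t_act M) (by decide) p2_r p2_b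
theorem p2l0_e : ∀ i < 7, (dent p2l0 (wdsP p2P p2e) (nat_lit 11)) i = 0 := allZ_sound0 p2l0_e_0
theorem p2l0_ok : DOK p2l0 (wdsP p2P p2e) 11 := ⟨p2l0_h, p2l0_e⟩
theorem p2l1_e : ∀ i < 3, (dent p2l1 (wdsP p2P p2e) (nat_lit 11)) i = 0 := allZ_sound0 p2l1_e_0
theorem p2l1_ok : DOK p2l1 (wdsP p2P p2e) 11 := ⟨p2l1_h, p2l1_e⟩
theorem p2l2_e : ∀ i < 1, (dent p2l2 (wdsP p2P p2e) (nat_lit 11)) i = 0 := allZ_sound0 p2l2_e_0
theorem p2l2_ok : DOK p2l2 (wdsP p2P p2e) 11 := ⟨p2l2_h, p2l2_e⟩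
theorem p2l3_e : ∀ i < 1, (dent p2l3 (wdsP p2P p2e) (nat_lit 11)) i = 0 := allZ_sound0 p2l3_e_0
theorem p2l3_ok : DOK p2l3 (wdsP p2P p2e) 11 := ⟨p2l3_h, p2l3_e⟩
theorem p2_low {G Ω : Type*} [Group G] [MulAction G Ω] {g : ℕ → G} {pt : ℕ → Ω}
    (M : Md g pt H16.A11.P 11 10 H16.A11.B 19958400) : SLow (gi (wds (wds g p2t_W) p2e)) (fun i => pt (p2E i)) 11 [p2l0, p2l1, p2l2, p2l3] :=
  ((((SLow.nil).cons p2l3_ok ((p2_sm M).1.act.wds p2_e 194) p2_f3).cons p2l2_ok ((p2_sm M).1.act.wds p2_e 194) p2_f2).cons p2l1_ok ((p2_sm M).1.act.wds p2_e 194) p2_f1).cons p2l0_ok ((p2_sm M).1.act.wds p2_e 194) p2_f0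
theorem p2_pc {G Ω : Type*} [Group G] [MulAction G Ω] {g : ℕ → G} {pt : ℕ → Ω}
    (M : Md g pt H16.A11.P 11 10 H16.A11.B 19958400) : PC (wds g p2t_W) 7 2 :=
  have := M.fin
  ((p2_sm M).1.pc0 (by decide) p2_p).pc (p2_low M) (p2_sm M).1.inj
    (fun k => evA_mem_gen _ (nth_lt p2_e k)) M.card ⟨by decide, p2_c⟩
theorem covr_act {G Ω : Type*} [Group G] [MulAction G Ω] {g : ℕ → G} {pt : ℕ → Ω}
    (M : Md g pt H16.A11.P 11 10 H16.A11.B 19958400) : Act (wds g covr_W) pt covr_P 11 2 :=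
  M.wact covr_lt
theorem cov_0 {G Ω : Type*} [Group G] [MulAction G Ω] {g : ℕ → G} {pt : ℕ → Ω}
    (M : Md g pt H16.A11.P 11 10 H16.A11.B 19958400) : Cov (wds g p2t_W) (wds g covr_W) 2 2 7 (evA (wds g p2t_W) []) :=
  have := M.fin
  covT0.cov M (p2_sm M).1 (p2_sm M).2 (covr_act M) (p2_pc M) _ _ cov_c0
theorem cov {G Ω : Type*} [Group G] [MulAction G Ω] {g : ℕ → G} {pt : ℕ → Ω}
    (M : Md g pt H16.A11.P 11 10 H16.A11.B 19958400) {y : G} {e : ℕ} (hy : y ^ 2 ^ e = 1) (hq : y ^ 2 = 1) : Good (wds g covr_W) 2 y :=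
  have := M.fin
  Cov.all (p2_pc M) (cov_0 M) hy hq

end H16.OLyA
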