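import Cfsg.Agent.H16.Out
import Cfsg.Agent.H15.M.M11

/-! Generated by tools/h16 (computation kit). -/

set_option maxRecDepth 100000
set_option maxHeartbeats 0

namespace H16.OM11

noncomputable def V : List ℕ := [nat_lit 0, nat_lit 4, nat_lit 6, nat_lit 5]
noncomputable def W : List ℕ := [nat_lit 0, nat_lit 6, nat_lit 5]
noncomputable def Fv0d : ℕ := nat_lit 0x110150004170003cd00e018821040
noncomputable def Fv0 (u : ℕ) : ℕ := Nat.land (Nat.shiftRight Fv0d (Nat.mul u (nat_lit 6))) (nat_lit 63)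
noncomputable def lv0 : Lv := ⟨(nat_lit 0), (nat_lit 1), (nat_lit 11), (nat_lit 7), [[nat_lit 0],
  [nat_lit 1],
  [nat_lit 2],
  [nat_lit 3],
  [nat_lit 4],
  [nat_lit 5],
  [nat_lit 6]], Fv0, (nat_lit 5)⟩
noncomputable def Fv1d : ℕ := nat_lit 0x107005c00fd060b9800
noncomputable def Fv1 (u : ℕ) : ℕ := Nat.land (Nat.shiftRight Fv1d (Nat.mul u (nat_lit 4))) (nat_lit 15)
noncomputable def lv1 : Lv := ⟨(nat_lit 1), (nat_lit 18), (nat_lit 10), (nat_lit 3), [[nat_lit 4, nat_lit 0],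
  [nat_lit 1, nat_lit 4],
  [nat_lit 1, nat_lit 5, nat_lit 1]], Fv1, (nat_lit 6)⟩
noncomputable def Fv2d : ℕ := nat_lit 0xb00430098070a8100
noncomputable def Fv2 (u : ℕ) : ℕ := Nat.land (Nat.shiftRight Fv2d (Nat.mul u (nat_lit 4))) (nat_lit 15)
noncomputable def lv2 : Lv := ⟨(nat_lit 2), (nat_lit 2), (nat_lit 9), (nat_lit 3), [[nat_lit 5, nat_lit 2],
  [nat_lit 0, nat_lit 5, nat_lit 1],
  [nat_lit 3, nat_lit 4, nat_lit 2]], Fv2, (nat_lit 4)⟩
noncomputable def Fv3d : ℕ := nat_lit 0x6005700bb010b4000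
noncomputable def Fv3 (u : ℕ) : ℕ := Nat.land (Nat.shiftRight Fv3d (Nat.mul u (nat_lit 4))) (nat_lit 15)
noncomputable def lv3 : Lv := ⟨(nat_lit 10), (nat_lit 6), (nat_lit 8), (nat_lit 4), [[nat_lit 4, nat_lit 0],
  [nat_lit 1, nat_lit 4],
  [nat_lit 3, nat_lit 4, nat_lit 2],
  [nat_lit 3, nat_lit 1, nat_lit 4, nat_lit 1]], Fv3, (nat_lit 3)⟩
noncomputable def LLv : List Lv := [lv0, lv1, lv2, lv3]
noncomputable def Accv : List (List ℕ) := [[]]
noncomputable def Apv : List ℕ := [nat_lit 1]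
noncomputable def Fw0d : ℕ := nat_lit 0xf01700038c000418011015801880
noncomputable def Fw0 (u : ℕ) : ℕ := Nat.land (Nat.shiftRight Fw0d (Nat.mul u (nat_lit 6))) (nat_lit 63)
noncomputable def lw0 : Lv := ⟨(nat_lit 0), (nat_lit 2), (nat_lit 11), (nat_lit 7), [[nat_lit 0],
  [nat_lit 1],
  [nat_lit 2],
  [nat_lit 3],
  [nat_lit 4],
  [nat_lit 5],
  [nat_lit 6]], Fw0, (nat_lit 5)⟩
noncomputable def Fw1d : ℕ := nat_lit 0xd0800f100480709f060
noncomputable def Fw1 (u : ℕ) : ℕ := Nat.land (Nat.shiftRight Fw1d (Nat.mul u (nat_lit 4))) (nat_lit 15)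
noncomputable def lw1 : Lv := ⟨(nat_lit 1), (nat_lit 12), (nat_lit 10), (nat_lit 4), [[nat_lit 6, nat_lit 0],
  [nat_lit 1, nat_lit 6, nat_lit 2],
  [nat_lit 6, nat_lit 0, nat_lit 2],
  [nat_lit 0, nat_lit 2, nat_lit 4]], Fw1, (nat_lit 4)⟩
noncomputable def Fw2d : ℕ := nat_lit 0x504008000b307017060
noncomputable def Fw2 (u : ℕ) : ℕ := Nat.land (Nat.shiftRight Fw2d (Nat.mul u (nat_lit 4))) (nat_lit 15)
noncomputable def lw2 : Lv := ⟨(nat_lit 2), (nat_lit 4), (nat_lit 9), (nat_lit 3), [[nat_lit 2, nat_lit 6],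
  [nat_lit 0, nat_lit 4],
  [nat_lit 1, nat_lit 6, nat_lit 2]], Fw2, (nat_lit 4)⟩
noncomputable def Fw3d : ℕ := nat_lit 0x801005000b608004030
noncomputable def Fw3 (u : ℕ) : ℕ := Nat.land (Nat.shiftRight Fw3d (Nat.mul u (nat_lit 4))) (nat_lit 15)
noncomputable def lw3 : Lv := ⟨(nat_lit 4), (nat_lit 16), (nat_lit 8), (nat_lit 3), [[nat_lit 4, nat_lit 6, nat_lit 0, nat_lit 0],
  [nat_lit 0, nat_lit 0, nat_lit 4, nat_lit 6],
  [nat_lit 1, nat_lit 4, nat_lit 3, nat_lit 6, nat_lit 1]], Fw3, (nat_lit 4)⟩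
noncomputable def lwx3 : Lv := ⟨(nat_lit 3), (nat_lit 13), (nat_lit 1), (nat_lit 1), [], fun _ => (nat_lit 0), (nat_lit 1)⟩
noncomputable def LLw : List Lv := [lw0, lw1, lw2, lw3, lwx3]
noncomputable def Accw : List (List ℕ) := [[]]
noncomputable def Apw : List ℕ := [nat_lit 2]
noncomputable def D : OD := ⟨11, 3, 6, 3, 5, [1, 2], V, [nat_lit 5, nat_lit 4, nat_lit 5, nat_lit 2], [nat_lit 3, nat_lit 1, nat_lit 4, nat_lit 5, nat_lit 0, nat_lit 6, nat_lit 0, nat_lit 0], W, [nat_lit 3, nat_lit 6], Accw,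
  [([nat_lit 2, nat_lit 0, nat_lit 0], (nat_lit 3))], (nat_lit 1)⟩

theorem ov0_0 : Nat.beq (loop2 (lv0.scan H15.MM11.P) (nat_lit 0) (nat_lit 24)) (nat_lit 11) = true := by decide +kernel
theorem ov1_0 : Nat.beq (loop2 (lv1.scan H15.MM11.P) (nat_lit 0) (nat_lit 24)) (nat_lit 10) = true := by decide +kernel
theorem ov2_0 : Nat.beq (loop2 (lv2.scan H15.MM11.P) (nat_lit 0) (nat_lit 24)) (nat_lit 9) = true := by decide +kernel
theorem ov3_0 : Nat.beq (loop2 (lv3.scan H15.MM11.P) (nat_lit 0) (nat_lit 24)) (nat_lit 8) = true := by decide +kernel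
theorem lcv : lowChk H15.MM11.P 24 7 LLv [] = 0 ∧ prodN LLv = 7920 ∧ 0 < 7920 := by decide +kernel
theorem ccv : cenChk H15.MM11.P 24 7 H15.MM11.B V V (nat_lit 1) LLv Accv Apv = true := by decide +kernel
theorem cev_0 : allZ (cenEnt H15.MM11.P V LLv Apv (nat_lit 10)) (nat_lit 0) (nat_lit 24) = true := by decide +kernel
theorem ow0_0 : Nat.beq (loop2 (lw0.scan H15.MM11.P) (nat_lit 0) (nat_lit 24)) (nat_lit 11) = true := by decide +kernel
theorem ow1_0 : Nat.beq (loop2 (lw1.scan H15.MM11.P) (nat_lit 0) (nat_lit 24)) (nat_lit 10) = true := by decide +kernel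
theorem ow2_0 : Nat.beq (loop2 (lw2.scan H15.MM11.P) (nat_lit 0) (nat_lit 24)) (nat_lit 9) = true := by decide +kernel
theorem ow3_0 : Nat.beq (loop2 (lw3.scan H15.MM11.P) (nat_lit 0) (nat_lit 24)) (nat_lit 8) = true := by decide +kernel
theorem lcw : lowChk H15.MM11.P 24 7 LLw [] = 0 ∧ prodN LLw = 7920 ∧ 0 < 7920 := by decide +kernel
theorem ccw : cenChk H15.MM11.P 24 7 H15.MM11.B W W (nat_lit 2) LLw Accw Apw = true := by decide +kernel
theorem cew_0 : allZ (cenEnt H15.MM11.P W LLw Apw (nat_lit 4)) (nat_lit 0) (nat_lit 24) = true := by decide +kernel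
theorem dc : D.chk H15.MM11.P 24 7 H15.MM11.B = true := by decide +kernel
theorem fl_0 : allZ (D.fail H15.MM11.P [0]) (nat_lit 0) (nat_lit 10) = true := by decide +kernel
theorem gc : slpX H15.MM11.P 7 H15.MM11.B 7 0 3 [D.X, D.W, D.S, [nat_lit 1, nat_lit 1, nat_lit 6, nat_lit 1, nat_lit 5, nat_lit 4, nat_lit 0, nat_lit 2], [nat_lit 5, nat_lit 6, nat_lit 1], [nat_lit 6, nat_lit 2]]
  [((nat_lit 10), [nat_lit 7]),
  ((nat_lit 11), [nat_lit 8]),
  ((nat_lit 12), [nat_lit 9]),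
  ((nat_lit 0), [nat_lit 10, nat_lit 8, nat_lit 10, nat_lit 12, nat_lit 7, nat_lit 9]),
  ((nat_lit 1), [nat_lit 12, nat_lit 10, nat_lit 9, nat_lit 7, nat_lit 11, nat_lit 7]),
  ((nat_lit 2), [nat_lit 10, nat_lit 9, nat_lit 8, nat_lit 10, nat_lit 12, nat_lit 10]),
  ((nat_lit 3), [nat_lit 7, nat_lit 9, nat_lit 7, nat_lit 11, nat_lit 12, nat_lit 7]),
  ((nat_lit 4), [nat_lit 12, nat_lit 10, nat_lit 12, nat_lit 11, nat_lit 12, nat_lit 7, nat_lit 9]),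
  ((nat_lit 5), [nat_lit 12, nat_lit 7, nat_lit 12, nat_lit 11, nat_lit 10, nat_lit 12, nat_lit 8]),
  ((nat_lit 6), [nat_lit 7, nat_lit 9, nat_lit 7, nat_lit 11, nat_lit 12, nat_lit 7, nat_lit 9])] = true := by decide +kernel

theorem ov0 : lv0.Orb H15.MM11.g H15.pt 24 := Lv.orb_scan H15.MM11.act (by decide +kernel) (sum_first ov0_0)
theorem ov1 : lv1.Orb H15.MM11.g H15.pt 24 := Lv.orb_scan H15.MM11.act (by decide +kernel) (sum_first ov1_0)
theorem ov2 : lv2.Orb H15.MM11.g H15.pt 24 := Lv.orb_scan H15.MM11.act (by decide +kernel) (sum_first ov2_0)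
theorem ov3 : lv3.Orb H15.MM11.g H15.pt 24 := Lv.orb_scan H15.MM11.act (by decide +kernel) (sum_first ov3_0)
theorem exv : ExC H15.MM11.g H15.pt 24 7 LLv (gen H15.MM11.g 7) := exC_of H15.MM11.act H15.MM11.inj H15.MM11.card (all_cons ov0 (all_cons ov1 (all_cons ov2 (all_cons ov3 all_nil)))) lcv
theorem cev : ∀ i < 24, (cenEnt H15.MM11.P V LLv Apv (nat_lit 10)) i = 0 := allZ_sound0 cev_0
theorem cenv {a} (hg : a ∈ gen H15.MM11.g 7) (h : a * evA H15.MM11.g V = evA H15.MM11.g V * a) :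
    ∃ j : ℤ, ∃ E ∈ Accv, a = evA H15.MM11.g V ^ j * evA H15.MM11.g E :=
  cen_sound H15.MM11.act H15.MM11.Blt H15.MM11.isBase exv ccv cev hg h
theorem ow0 : lw0.Orb H15.MM11.g H15.pt 24 := Lv.orb_scan H15.MM11.act (by decide +kernel) (sum_first ow0_0)
theorem ow1 : lw1.Orb H15.MM11.g H15.pt 24 := Lv.orb_scan H15.MM11.act (by decide +kernel) (sum_first ow1_0)
theorem ow2 : lw2.Orb H15.MM11.g H15.pt 24 := Lv.orb_scan H15.MM11.act (by decide +kernel) (sum_first ow2_0)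
theorem ow3 : lw3.Orb H15.MM11.g H15.pt 24 := Lv.orb_scan H15.MM11.act (by decide +kernel) (sum_first ow3_0)
theorem owx3 : lwx3.Orb H15.MM11.g H15.pt 24 := Lv.orb_lst (S := [13]) H15.MM11.act (by decide +kernel)
theorem exw : ExC H15.MM11.g H15.pt 24 7 LLw (gen H15.MM11.g 7) := exC_of H15.MM11.act H15.MM11.inj H15.MM11.card (all_cons ow0 (all_cons ow1 (all_cons ow2 (all_cons ow3 (all_cons owx3 all_nil))))) lcw
theorem cew : ∀ i < 24, (cenEnt H15.MM11.P W LLw Apw (nat_lit 4)) i = 0 := allZ_sound0 cew_0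
theorem cenw {a} (hg : a ∈ gen H15.MM11.g 7) (h : a * evA H15.MM11.g W = evA H15.MM11.g W * a) :
    ∃ j : ℤ, ∃ E ∈ Accw, a = evA H15.MM11.g W ^ j * evA H15.MM11.g E :=
  cen_sound H15.MM11.act H15.MM11.Blt H15.MM11.isBase exw ccw cew hg h
theorem ar : D.ar 7920 :=
  ⟨by norm_num [D], by decide +kernel, by decide +kernel, by decide +kernel, by decide +kernel, by decide +kernel, by decide +kernel⟩
theorem fl : ∀ i < 10, (D.fail H15.MM11.P [0]) i = 0 := allZ_sound0 fl_0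
theorem hg (A) (h : ∀ i < 3, evA H15.MM11.g (nth [] [D.X, D.W, D.S] i) ∈ A) : gen H15.MM11.g 7 ≤ A :=
  slpX_sound H15.MM11.act H15.MM11.Blt H15.MM11.isBase gc le_rfl (Nat.zero_le _) (by rw [gen_zero]; exact bot_le) fun i hi => by
    obtain rfl | rfl | rfl : i = 0 ∨ i = 1 ∨ i = 2 := by omega
    exacts [h 0 hi, h 1 hi, h 2 hi]
theorem out : Nat.card (Cfsg.Out (gen H15.MM11.g 7)) = 1 :=
  D.one H15.MM11.act H15.MM11.inj H15.MM11.Blt H15.MM11.isBase H15.MM11.card (by decide) dc ar cenv cenw fl hg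

end H16.OM11
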