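import Cfsg.Agent.H16.Out
import Cfsg.Agent.H15.M.M23

/-! Generated by tools/h16 (computation kit). -/

set_option maxRecDepth 100000
set_option maxHeartbeats 0

namespace H16.OM23

noncomputable def V : List ℕ := [nat_lit 8, nat_lit 6, nat_lit 7, nat_lit 5, nat_lit 1, nat_lit 9]
noncomputable def W : List ℕ := [nat_lit 0, nat_lit 7, nat_lit 6, nat_lit 8]
noncomputable def Fv0d : ℕ := nat_lit 0x1124be90fe649873193f7cb9fbd6ace6344a70981
noncomputable def Fv0 (u : ℕ) : ℕ := Nat.land (Nat.shiftRight Fv0d (Nat.mul u (nat_lit 7))) (nat_lit 127)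
noncomputable def lv0 : Lv := ⟨(nat_lit 0), (nat_lit 0), (nat_lit 23), (nat_lit 10), [[nat_lit 0],
  [nat_lit 1],
  [nat_lit 2],
  [nat_lit 3],
  [nat_lit 4],
  [nat_lit 5],
  [nat_lit 6],
  [nat_lit 7],
  [nat_lit 8],
  [nat_lit 9]], Fv0, (nat_lit 8)⟩
noncomputable def Fv1d : ℕ := nat_lit 0x2d695212881d8e6a9a33298c23420
noncomputable def Fv1 (u : ℕ) : ℕ := Nat.land (Nat.shiftRight Fv1d (Nat.mul u (nat_lit 5))) (nat_lit 31)
noncomputable def lv1 : Lv := ⟨(nat_lit 1), (nat_lit 1), (nat_lit 22), (nat_lit 3), [[nat_lit 0, nat_lit 1, nat_lit 6, nat_lit 2, nat_lit 7, nat_lit 8, nat_lit 7, nat_lit 0],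
  [nat_lit 0, nat_lit 2, nat_lit 5, nat_lit 7, nat_lit 6, nat_lit 8, nat_lit 7, nat_lit 1],
  [nat_lit 1, nat_lit 6, nat_lit 1, nat_lit 2, nat_lit 7, nat_lit 6, nat_lit 0, nat_lit 2, nat_lit 1]], Fv1, (nat_lit 6)⟩
noncomputable def Fv2d : ℕ := nat_lit 0xda8ca69bdbaea946d871500
noncomputable def Fv2 (u : ℕ) : ℕ := Nat.land (Nat.shiftRight Fv2d (Nat.mul u (nat_lit 4))) (nat_lit 15)
noncomputable def lv2 : Lv := ⟨(nat_lit 2), (nat_lit 3), (nat_lit 21), (nat_lit 3), [[nat_lit 3, nat_lit 4, nat_lit 6, nat_lit 7, nat_lit 6],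
  [nat_lit 5, nat_lit 1, nat_lit 6, nat_lit 1, nat_lit 3],
  [nat_lit 0, nat_lit 2, nat_lit 5, nat_lit 6, nat_lit 7]], Fv2, (nat_lit 5)⟩
noncomputable def Fv3d : ℕ := nat_lit 0x52d4942708dd55b26cc5be7300400
noncomputable def Fv3 (u : ℕ) : ℕ := Nat.land (Nat.shiftRight Fv3d (Nat.mul u (nat_lit 5))) (nat_lit 31)
noncomputable def lv3 : Lv := ⟨(nat_lit 22), (nat_lit 2), (nat_lit 20), (nat_lit 5), [[nat_lit 0],
  [nat_lit 3],
  [nat_lit 5, nat_lit 1],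
  [nat_lit 4, nat_lit 0],
  [nat_lit 6, nat_lit 7, nat_lit 6]], Fv3, (nat_lit 5)⟩
noncomputable def Fv4d : ℕ := nat_lit 0xbeccd0a9096e18645090000
noncomputable def Fv4 (u : ℕ) : ℕ := Nat.land (Nat.shiftRight Fv4d (Nat.mul u (nat_lit 4))) (nat_lit 15)
noncomputable def lv4 : Lv := ⟨(nat_lit 21), (nat_lit 10), (nat_lit 16), (nat_lit 3), [[nat_lit 5],
  [nat_lit 3],
  [nat_lit 1]], Fv4, (nat_lit 5)⟩
noncomputable def Fv5d : ℕ := nat_lit 0x420000c00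
noncomputable def Fv5 (u : ℕ) : ℕ := Nat.land (Nat.shiftRight Fv5d (Nat.mul u (nat_lit 2))) (nat_lit 3)
noncomputable def lv5 : Lv := ⟨(nat_lit 20), (nat_lit 17), (nat_lit 3), (nat_lit 2), [[nat_lit 4],
  [nat_lit 5]], Fv5, (nat_lit 2)⟩
noncomputable def LLv : List Lv := [lv0, lv1, lv2, lv3, lv4, lv5]
noncomputable def Accv : List (List ℕ) := [[]]
noncomputable def Apv : List ℕ := [nat_lit 0]
noncomputable def Fw0d : ℕ := nat_lit 0xe9fb47cd613f73094356891ab356a612a3648093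
noncomputable def Fw0 (u : ℕ) : ℕ := Nat.land (Nat.shiftRight Fw0d (Nat.mul u (nat_lit 7))) (nat_lit 127)
noncomputable def lw0 : Lv := ⟨(nat_lit 0), (nat_lit 1), (nat_lit 23), (nat_lit 10), [[nat_lit 0],
  [nat_lit 1],
  [nat_lit 2],
  [nat_lit 3],
  [nat_lit 4],
  [nat_lit 5],
  [nat_lit 6],
  [nat_lit 7],
  [nat_lit 8],
  [nat_lit 9]], Fw0, (nat_lit 7)⟩
noncomputable def Fw1d : ℕ := nat_lit 0x1d882a566531875a6233216968404
noncomputable def Fw1 (u : ℕ) : ℕ := Nat.land (Nat.shiftRight Fw1d (Nat.mul u (nat_lit 5))) (nat_lit 31)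
noncomputable def lw1 : Lv := ⟨(nat_lit 1), (nat_lit 2), (nat_lit 22), (nat_lit 3), [[nat_lit 6, nat_lit 0, nat_lit 6, nat_lit 3, nat_lit 7, nat_lit 6, nat_lit 0],
  [nat_lit 9, nat_lit 3, nat_lit 6, nat_lit 1, nat_lit 2, nat_lit 7, nat_lit 6, nat_lit 8, nat_lit 9],
  [nat_lit 1, nat_lit 3, nat_lit 5, nat_lit 6, nat_lit 1, nat_lit 2, nat_lit 6, nat_lit 7, nat_lit 6, nat_lit 1]], Fw1, (nat_lit 6)⟩
noncomputable def Fw2d : ℕ := nat_lit 0x122e51d2b6b54e305ce4312938005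
noncomputable def Fw2 (u : ℕ) : ℕ := Nat.land (Nat.shiftRight Fw2d (Nat.mul u (nat_lit 5))) (nat_lit 31)
noncomputable def lw2 : Lv := ⟨(nat_lit 2), (nat_lit 10), (nat_lit 21), (nat_lit 3), [[nat_lit 2, nat_lit 6, nat_lit 2, nat_lit 3],
  [nat_lit 1, nat_lit 9, nat_lit 3, nat_lit 5, nat_lit 7, nat_lit 8, nat_lit 7, nat_lit 9],
  [nat_lit 0, nat_lit 4, nat_lit 7, nat_lit 8, nat_lit 9, nat_lit 8, nat_lit 7, nat_lit 6]], Fw2, (nat_lit 6)⟩
noncomputable def Fw3d : ℕ := nat_lit 0xa799a784ca6a06c3ed8100b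
noncomputable def Fw3 (u : ℕ) : ℕ := Nat.land (Nat.shiftRight Fw3d (Nat.mul u (nat_lit 4))) (nat_lit 15)
noncomputable def lw3 : Lv := ⟨(nat_lit 10), (nat_lit 3), (nat_lit 20), (nat_lit 3), [[nat_lit 6, nat_lit 3, nat_lit 5, nat_lit 6],
  [nat_lit 9, nat_lit 8, nat_lit 7, nat_lit 0, nat_lit 4, nat_lit 6, nat_lit 1, nat_lit 8, nat_lit 9],
  [nat_lit 2, nat_lit 9, nat_lit 3, nat_lit 7, nat_lit 8, nat_lit 7, nat_lit 6, nat_lit 3, nat_lit 9]], Fw3, (nat_lit 5)⟩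
noncomputable def Fw4d : ℕ := nat_lit 0x3008635a05342d000e69958c00009
noncomputable def Fw4 (u : ℕ) : ℕ := Nat.land (Nat.shiftRight Fw4d (Nat.mul u (nat_lit 5))) (nat_lit 31)
noncomputable def lw4 : Lv := ⟨(nat_lit 9), (nat_lit 13), (nat_lit 16), (nat_lit 5), [[nat_lit 5],
  [nat_lit 4],
  [nat_lit 2, nat_lit 6, nat_lit 7, nat_lit 8, nat_lit 9, nat_lit 8, nat_lit 7, nat_lit 6, nat_lit 3],
  [nat_lit 9, nat_lit 3, nat_lit 6, nat_lit 8, nat_lit 7, nat_lit 6, nat_lit 3, nat_lit 8, nat_lit 9],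
  [nat_lit 0, nat_lit 6, nat_lit 7, nat_lit 8, nat_lit 9, nat_lit 8, nat_lit 7, nat_lit 6, nat_lit 0]], Fw4, (nat_lit 4)⟩
noncomputable def Fw5d : ℕ := nat_lit 0x3000004800
noncomputable def Fw5 (u : ℕ) : ℕ := Nat.land (Nat.shiftRight Fw5d (Nat.mul u (nat_lit 2))) (nat_lit 3)
noncomputable def lw5 : Lv := ⟨(nat_lit 8), (nat_lit 7), (nat_lit 3), (nat_lit 2), [[nat_lit 1, nat_lit 5, nat_lit 6, nat_lit 7, nat_lit 9, nat_lit 8, nat_lit 7, nat_lit 6, nat_lit 1, nat_lit 9],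
  [nat_lit 0, nat_lit 1, nat_lit 6, nat_lit 7, nat_lit 8, nat_lit 9, nat_lit 8, nat_lit 7, nat_lit 6, nat_lit 1]], Fw5, (nat_lit 2)⟩
noncomputable def LLw : List Lv := [lw0, lw1, lw2, lw3, lw4, lw5]
noncomputable def Accw : List (List ℕ) := [[]]
noncomputable def Apw : List ℕ := [nat_lit 1]
noncomputable def D : OD := ⟨23, 2, 1, 4, 11, [1, 5], V, [nat_lit 2, nat_lit 6, nat_lit 1, nat_lit 2, nat_lit 7, nat_lit 6, nat_lit 0, nat_lit 8, nat_lit 7, nat_lit 6, nat_lit 8, nat_lit 1], [nat_lit 0, nat_lit 8, nat_lit 6, nat_lit 0, nat_lit 2, nat_lit 6, nat_lit 7, nat_lit 6, nat_lit 0, nat_lit 7, nat_lit 6, nat_lit 8, nat_lit 7, nat_lit 6, nat_lit 2, nat_lit 9, nat_lit 8, nat_lit 7, nat_lit 6, nat_lit 1], W, [nat_lit 3, nat_lit 6, nat_lit 7, nat_lit 1, nat_lit 6, nat_lit 0, nat_lit 4, nat_lit 7], Accw,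
  [([nat_lit 2, nat_lit 2, nat_lit 2, nat_lit 0], (nat_lit 4)), ([nat_lit 0, nat_lit 1, nat_lit 2], (nat_lit 6))], (nat_lit 0)⟩

theorem ov0_0 : Nat.beq (loop2 (lv0.scan H15.MM23.P) (nat_lit 0) (nat_lit 24)) (nat_lit 23) = true := by decide +kernel
theorem ov1_0 : Nat.beq (loop2 (lv1.scan H15.MM23.P) (nat_lit 0) (nat_lit 24)) (nat_lit 22) = true := by decide +kernel
theorem ov2_0 : Nat.beq (loop2 (lv2.scan H15.MM23.P) (nat_lit 0) (nat_lit 24)) (nat_lit 21) = true := by decide +kernel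
theorem ov3_0 : Nat.beq (loop2 (lv3.scan H15.MM23.P) (nat_lit 0) (nat_lit 24)) (nat_lit 20) = true := by decide +kernel
theorem ov4_0 : Nat.beq (loop2 (lv4.scan H15.MM23.P) (nat_lit 0) (nat_lit 24)) (nat_lit 16) = true := by decide +kernel
theorem ov5c : 0 < lv5.K ∧ allL (ltAll 10) lv5.Ws = true ∧ [nat_lit 17, nat_lit 14, nat_lit 5].length = lv5.n ∧ lv5.lst H15.MM23.P [nat_lit 17, nat_lit 14, nat_lit 5] 24 = 0 := by decide +kernel
theorem lcv : lowChk H15.MM23.P 24 10 LLv [] = 0 ∧ prodN LLv = 10200960 ∧ 0 < 10200960 := by decide +kernel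
theorem ccv : cenChk H15.MM23.P 24 10 H15.MM23.B V V (nat_lit 0) LLv Accv Apv = true := by decide +kernel
theorem cev_0 : allZ (cenEnt H15.MM23.P V LLv Apv (nat_lit 22)) (nat_lit 0) (nat_lit 24) = true := by decide +kernel
theorem ow0_0 : Nat.beq (loop2 (lw0.scan H15.MM23.P) (nat_lit 0) (nat_lit 24)) (nat_lit 23) = true := by decide +kernel
theorem ow1_0 : Nat.beq (loop2 (lw1.scan H15.MM23.P) (nat_lit 0) (nat_lit 24)) (nat_lit 22) = true := by decide +kernel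
theorem ow2_0 : Nat.beq (loop2 (lw2.scan H15.MM23.P) (nat_lit 0) (nat_lit 24)) (nat_lit 21) = true := by decide +kernel
theorem ow3_0 : Nat.beq (loop2 (lw3.scan H15.MM23.P) (nat_lit 0) (nat_lit 24)) (nat_lit 20) = true := by decide +kernel
theorem ow4_0 : Nat.beq (loop2 (lw4.scan H15.MM23.P) (nat_lit 0) (nat_lit 24)) (nat_lit 16) = true := by decide +kernel
theorem ow5c : 0 < lw5.K ∧ allL (ltAll 10) lw5.Ws = true ∧ [nat_lit 18, nat_lit 7, nat_lit 5].length = lw5.n ∧ lw5.lst H15.MM23.P [nat_lit 18, nat_lit 7, nat_lit 5] 24 = 0 := by decide +kernel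
theorem lcw : lowChk H15.MM23.P 24 10 LLw [] = 0 ∧ prodN LLw = 10200960 ∧ 0 < 10200960 := by decide +kernel
theorem ccw : cenChk H15.MM23.P 24 10 H15.MM23.B W W (nat_lit 1) LLw Accw Apw = true := by decide +kernel
theorem cew_0 : allZ (cenEnt H15.MM23.P W LLw Apw (nat_lit 10)) (nat_lit 0) (nat_lit 24) = true := by decide +kernel
theorem dc : D.chk H15.MM23.P 24 10 H15.MM23.B = true := by decide +kernel
theorem fl_0 : allZ (D.fail H15.MM23.P [0]) (nat_lit 0) (nat_lit 22) = true := by decide +kernel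
theorem gc : slpX H15.MM23.P 10 H15.MM23.B 10 0 3 [D.X, D.W, D.S, [nat_lit 1, nat_lit 6, nat_lit 7, nat_lit 8, nat_lit 9, nat_lit 2, nat_lit 6, nat_lit 7, nat_lit 8, nat_lit 6, nat_lit 7, nat_lit 0, nat_lit 6, nat_lit 7, nat_lit 6, nat_lit 2, nat_lit 0, nat_lit 6, nat_lit 8, nat_lit 0], [nat_lit 8, nat_lit 6, nat_lit 7, nat_lit 0], [nat_lit 7, nat_lit 5, nat_lit 0, nat_lit 6, nat_lit 1, nat_lit 7, nat_lit 6, nat_lit 3]]
  [((nat_lit 13), [nat_lit 10]),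
  ((nat_lit 14), [nat_lit 11]),
  ((nat_lit 15), [nat_lit 12]),
  ((nat_lit 0), [nat_lit 12, nat_lit 13, nat_lit 11, nat_lit 12, nat_lit 13, nat_lit 12, nat_lit 12, nat_lit 11, nat_lit 13, nat_lit 13, nat_lit 14, nat_lit 12, nat_lit 14, nat_lit 10, nat_lit 15]),
  ((nat_lit 1), [nat_lit 11, nat_lit 15, nat_lit 10, nat_lit 15, nat_lit 11, nat_lit 10, nat_lit 12, nat_lit 12, nat_lit 10, nat_lit 15, nat_lit 13, nat_lit 11, nat_lit 15, nat_lit 14]),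
  ((nat_lit 2), [nat_lit 12, nat_lit 14, nat_lit 13, nat_lit 15, nat_lit 10, nat_lit 15, nat_lit 13, nat_lit 13, nat_lit 14, nat_lit 15, nat_lit 10, nat_lit 15, nat_lit 15]),
  ((nat_lit 3), [nat_lit 10, nat_lit 12, nat_lit 10, nat_lit 12, nat_lit 11, nat_lit 11, nat_lit 10, nat_lit 10, nat_lit 10, nat_lit 14, nat_lit 14, nat_lit 10, nat_lit 15, nat_lit 10, nat_lit 10, nat_lit 10]),
  ((nat_lit 4), [nat_lit 15, nat_lit 14, nat_lit 13, nat_lit 12, nat_lit 14, nat_lit 10, nat_lit 12, nat_lit 11, nat_lit 13, nat_lit 14]),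
  ((nat_lit 5), [nat_lit 11, nat_lit 10, nat_lit 14, nat_lit 15, nat_lit 13, nat_lit 11, nat_lit 15, nat_lit 10, nat_lit 11, nat_lit 12]),
  ((nat_lit 6), [nat_lit 10, nat_lit 15, nat_lit 13, nat_lit 15, nat_lit 13, nat_lit 11, nat_lit 15, nat_lit 14, nat_lit 10, nat_lit 12, nat_lit 13, nat_lit 12, nat_lit 13, nat_lit 14, nat_lit 12, nat_lit 14, nat_lit 10, nat_lit 15, nat_lit 11, nat_lit 12, nat_lit 13, nat_lit 12]),
  ((nat_lit 7), [nat_lit 12, nat_lit 12, nat_lit 14, nat_lit 10, nat_lit 15, nat_lit 15, nat_lit 13, nat_lit 12, nat_lit 11, nat_lit 11, nat_lit 12, nat_lit 11, nat_lit 15, nat_lit 11, nat_lit 10, nat_lit 10, nat_lit 12, nat_lit 10]),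
  ((nat_lit 8), [nat_lit 13, nat_lit 11, nat_lit 15, nat_lit 15, nat_lit 13, nat_lit 12, nat_lit 10, nat_lit 11, nat_lit 12, nat_lit 13, nat_lit 13]),
  ((nat_lit 9), [nat_lit 10, nat_lit 15, nat_lit 11, nat_lit 10, nat_lit 12, nat_lit 12, nat_lit 10, nat_lit 15, nat_lit 13, nat_lit 11, nat_lit 13, nat_lit 14, nat_lit 12, nat_lit 14, nat_lit 12, nat_lit 11, nat_lit 10, nat_lit 15, nat_lit 15, nat_lit 13, nat_lit 14, nat_lit 13])] = true := by decide +kernel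

theorem ov0 : lv0.Orb H15.MM23.g H15.pt 24 := Lv.orb_scan H15.MM23.act (by decide +kernel) (sum_first ov0_0)
theorem ov1 : lv1.Orb H15.MM23.g H15.pt 24 := Lv.orb_scan H15.MM23.act (by decide +kernel) (sum_first ov1_0)
theorem ov2 : lv2.Orb H15.MM23.g H15.pt 24 := Lv.orb_scan H15.MM23.act (by decide +kernel) (sum_first ov2_0)
theorem ov3 : lv3.Orb H15.MM23.g H15.pt 24 := Lv.orb_scan H15.MM23.act (by decide +kernel) (sum_first ov3_0)
theorem ov4 : lv4.Orb H15.MM23.g H15.pt 24 := Lv.orb_scan H15.MM23.act (by decide +kernel) (sum_first ov4_0)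
theorem ov5 : lv5.Orb H15.MM23.g H15.pt 24 := Lv.orb_lst H15.MM23.act ov5c
theorem exv : ExC H15.MM23.g H15.pt 24 10 LLv (gen H15.MM23.g 10) := exC_of H15.MM23.act H15.MM23.inj H15.MM23.card (all_cons ov0 (all_cons ov1 (all_cons ov2 (all_cons ov3 (all_cons ov4 (all_cons ov5 all_nil)))))) lcv
theorem cev : ∀ i < 24, (cenEnt H15.MM23.P V LLv Apv (nat_lit 22)) i = 0 := allZ_sound0 cev_0
theorem cenv {a} (hg : a ∈ gen H15.MM23.g 10) (h : a * evA H15.MM23.g V = evA H15.MM23.g V * a) :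
    ∃ j : ℤ, ∃ E ∈ Accv, a = evA H15.MM23.g V ^ j * evA H15.MM23.g E :=
  cen_sound H15.MM23.act H15.MM23.Blt H15.MM23.isBase exv ccv cev hg h
theorem ow0 : lw0.Orb H15.MM23.g H15.pt 24 := Lv.orb_scan H15.MM23.act (by decide +kernel) (sum_first ow0_0)
theorem ow1 : lw1.Orb H15.MM23.g H15.pt 24 := Lv.orb_scan H15.MM23.act (by decide +kernel) (sum_first ow1_0)
theorem ow2 : lw2.Orb H15.MM23.g H15.pt 24 := Lv.orb_scan H15.MM23.act (by decide +kernel) (sum_first ow2_0)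
theorem ow3 : lw3.Orb H15.MM23.g H15.pt 24 := Lv.orb_scan H15.MM23.act (by decide +kernel) (sum_first ow3_0)
theorem ow4 : lw4.Orb H15.MM23.g H15.pt 24 := Lv.orb_scan H15.MM23.act (by decide +kernel) (sum_first ow4_0)
theorem ow5 : lw5.Orb H15.MM23.g H15.pt 24 := Lv.orb_lst H15.MM23.act ow5c
theorem exw : ExC H15.MM23.g H15.pt 24 10 LLw (gen H15.MM23.g 10) := exC_of H15.MM23.act H15.MM23.inj H15.MM23.card (all_cons ow0 (all_cons ow1 (all_cons ow2 (all_cons ow3 (all_cons ow4 (all_cons ow5 all_nil)))))) lcw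
theorem cew : ∀ i < 24, (cenEnt H15.MM23.P W LLw Apw (nat_lit 10)) i = 0 := allZ_sound0 cew_0
theorem cenw {a} (hg : a ∈ gen H15.MM23.g 10) (h : a * evA H15.MM23.g W = evA H15.MM23.g W * a) :
    ∃ j : ℤ, ∃ E ∈ Accw, a = evA H15.MM23.g W ^ j * evA H15.MM23.g E :=
  cen_sound H15.MM23.act H15.MM23.Blt H15.MM23.isBase exw ccw cew hg h
theorem ar : D.ar 10200960 :=
  ⟨by norm_num [D], by decide +kernel, by decide +kernel, by decide +kernel, by decide +kernel, by decide +kernel, by decide +kernel⟩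
theorem fl : ∀ i < 22, (D.fail H15.MM23.P [0]) i = 0 := allZ_sound0 fl_0
theorem hg (A) (h : ∀ i < 3, evA H15.MM23.g (nth [] [D.X, D.W, D.S] i) ∈ A) : gen H15.MM23.g 10 ≤ A :=
  slpX_sound H15.MM23.act H15.MM23.Blt H15.MM23.isBase gc le_rfl (Nat.zero_le _) (by rw [gen_zero]; exact bot_le) fun i hi => by
    obtain rfl | rfl | rfl : i = 0 ∨ i = 1 ∨ i = 2 := by omega
    exacts [h 0 hi, h 1 hi, h 2 hi]
theorem out : Nat.card (Cfsg.Out (gen H15.MM23.g 10)) = 1 :=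
  D.one H15.MM23.act H15.MM23.inj H15.MM23.Blt H15.MM23.isBase H15.MM23.card (by decide) dc ar cenv cenw fl hg

end H16.OM23
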