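import Cfsg.Agent.H16.Out
import Cfsg.Agent.H15.Conway2

/-! Generated by tools/h16 (computation kit). -/

set_option maxRecDepth 100000
set_option maxHeartbeats 0

namespace H16.OMcL

noncomputable def V : List ℕ := [nat_lit 0, nat_lit 2, nat_lit 4, nat_lit 5]
noncomputable def W : List ℕ := [nat_lit 0, nat_lit 1, nat_lit 2]
noncomputable def Fv0d : ℕ := nat_lit 0xa94243ebce2734ed1aa68c57b450a58b45c95db142c1dae60b142a5851da968b8cb25ed10b45881f1f70b1a215aa5c327a99716484d73a625dc275c6572956999985ee112d5c8d5a862bd5af686573b5ed5baf42a172444b16a95cc92b63b017b54e49ab15cb173462bda3360c5a2d3e9dca768e54345a3d7265ae56334cb9dad4285db768b5a285a9983958d13b064bddb96cc5e336a9dfa8726153c5ed1c275cbd7b53cb92a748a4fae4cb1a3b768d2b252a55a430b97ac489523960b0d2c54d0a235295d3464bd4ae32c4f2a54adb2972914a33cc983248788b340e8f3662bdc8a507dbb5028143471196ab5ead3bb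
noncomputable def Fv0 (u : ℕ) : ℕ := Nat.land (Nat.shiftRight Fv0d (Nat.mul u (nat_lit 7))) (nat_lit 127)
noncomputable def lv0 : Lv := ⟨(nat_lit 0), (nat_lit 11), (nat_lit 275), (nat_lit 6), [[nat_lit 0],
  [nat_lit 1],
  [nat_lit 2],
  [nat_lit 3],
  [nat_lit 4],
  [nat_lit 5]], Fv0, (nat_lit 12)⟩
noncomputable def Fv1d : ℕ := nat_lit 0x38000440d8001000160000d100000001208b8140400c00180500c00019158120000a7000007022000000738000000d502203818103170001c00000004000038090000a6822f781ac60160001c06a9f1001206b01004100001eb0296f6800b0340e225e0629b16820e6800a041c0400060380000000001916000d00000040000000e0000001c000018048c000240000120a000003c000000c0340f00200881cf000116c00004414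
noncomputable def Fv1 (u : ℕ) : ℕ := Nat.land (Nat.shiftRight Fv1d (Nat.mul u (nat_lit 5))) (nat_lit 31)
noncomputable def lv1 : Lv := ⟨(nat_lit 3), (nat_lit 184), (nat_lit 112), (nat_lit 3), [[nat_lit 4, nat_lit 1, nat_lit 0, nat_lit 4, nat_lit 3, nat_lit 1, nat_lit 5, nat_lit 0],
  [nat_lit 0, nat_lit 1, nat_lit 0, nat_lit 1, nat_lit 2, nat_lit 1, nat_lit 3, nat_lit 5, nat_lit 2, nat_lit 1, nat_lit 3],
  [nat_lit 3, nat_lit 2, nat_lit 4, nat_lit 1, nat_lit 0, nat_lit 4, nat_lit 1, nat_lit 3, nat_lit 5, nat_lit 0, nat_lit 2, nat_lit 3]], Fv1, (nat_lit 7)⟩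
noncomputable def Fv2d : ℕ := nat_lit 0x70000000008000000000002c0a0000600020001c0000000000000000000000000000000000000000b000000000000000002000000000000030000000078000700004020000000800000000048009000000000003400000000300c00000001c0000110000001800000000000000000000005800500000000000000a0000000000000000000000000000005000000000000000000c0000000000000000000001014
noncomputable def Fv2 (u : ℕ) : ℕ := Nat.land (Nat.shiftRight Fv2d (Nat.mul u (nat_lit 5))) (nat_lit 31)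
noncomputable def lv2 : Lv := ⟨(nat_lit 6), (nat_lit 229), (nat_lit 30), (nat_lit 3), [[nat_lit 1, nat_lit 3, nat_lit 1, nat_lit 5],
  [nat_lit 2, nat_lit 3, nat_lit 2, nat_lit 1, nat_lit 0, nat_lit 2, nat_lit 3],
  [nat_lit 5, nat_lit 0, nat_lit 1, nat_lit 0, nat_lit 1, nat_lit 2, nat_lit 1, nat_lit 3]], Fv2, (nat_lit 7)⟩
noncomputable def Fv3d : ℕ := nat_lit 0x30000000f80000001a0001a0000000012088000024000000048000000ee6806000008000000000000000600000000078140280000316c000000000000000000090000a00000000110000000180018000000002c000348000100000000001300000338c03a400001e07000c001c00000000000000000000d000000000000000000000000002c00002205380001c000002000000024000000002c00001600012f000008ac0000000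
noncomputable def Fv3 (u : ℕ) : ℕ := Nat.land (Nat.shiftRight Fv3d (Nat.mul u (nat_lit 5))) (nat_lit 31)
noncomputable def lv3 : Lv := ⟨(nat_lit 5), (nat_lit 37), (nat_lit 54), (nat_lit 3), [[nat_lit 0, nat_lit 2, nat_lit 1, nat_lit 0, nat_lit 1, nat_lit 3, nat_lit 2, nat_lit 1],
  [nat_lit 0, nat_lit 2, nat_lit 3, nat_lit 5, nat_lit 4, nat_lit 1, nat_lit 4, nat_lit 3, nat_lit 2, nat_lit 0],
  [nat_lit 1, nat_lit 3, nat_lit 2, nat_lit 1, nat_lit 0, nat_lit 1, nat_lit 3, nat_lit 2, nat_lit 1, nat_lit 0]], Fv3, (nat_lit 7)⟩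
noncomputable def Fv4d : ℕ := nat_lit 0x800000000000000000000000000000000000000000000500000000000000000000000030000000000000000000000000000000000000000000000000000000000000000000000000000700000000000000007000000000004000000000000000000000000000000000000000000800700000010000000000000000
noncomputable def Fv4 (u : ℕ) : ℕ := Nat.land (Nat.shiftRight Fv4d (Nat.mul u (nat_lit 4))) (nat_lit 15)
noncomputable def lv4 : Lv := ⟨(nat_lit 10), (nat_lit 16), (nat_lit 9), (nat_lit 3), [[nat_lit 0, nat_lit 2, nat_lit 0, nat_lit 1, nat_lit 3, nat_lit 1, nat_lit 5, nat_lit 0, nat_lit 2, nat_lit 0],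
  [nat_lit 5, nat_lit 1, nat_lit 2, nat_lit 1, nat_lit 3, nat_lit 1, nat_lit 5, nat_lit 2, nat_lit 0, nat_lit 5],
  [nat_lit 1, nat_lit 2, nat_lit 1, nat_lit 0, nat_lit 1, nat_lit 5, nat_lit 0, nat_lit 1, nat_lit 2, nat_lit 1]], Fv4, (nat_lit 3)⟩
noncomputable def Fv5d : ℕ := nat_lit 0x40000000000000000000000000000000000000000000000c0000000000000000000000000000000000000000
noncomputable def Fv5 (u : ℕ) : ℕ := Nat.land (Nat.shiftRight Fv5d (Nat.mul u (nat_lit 2))) (nat_lit 3)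
noncomputable def lv5 : Lv := ⟨(nat_lit 9), (nat_lit 175), (nat_lit 2), (nat_lit 3), [[nat_lit 5, nat_lit 1, nat_lit 0, nat_lit 1, nat_lit 2, nat_lit 0, nat_lit 3, nat_lit 2, nat_lit 1, nat_lit 0, nat_lit 5, nat_lit 4, nat_lit 1, nat_lit 2, nat_lit 4],
  [nat_lit 1, nat_lit 5, nat_lit 0, nat_lit 1, nat_lit 2, nat_lit 0, nat_lit 3, nat_lit 2, nat_lit 1, nat_lit 0, nat_lit 5, nat_lit 4, nat_lit 1, nat_lit 2, nat_lit 4],
  [nat_lit 0, nat_lit 1, nat_lit 4, nat_lit 1, nat_lit 2, nat_lit 0, nat_lit 1, nat_lit 4, nat_lit 3, nat_lit 2, nat_lit 5, nat_lit 2, nat_lit 0, nat_lit 3, nat_lit 1]], Fv5, (nat_lit 2)⟩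
noncomputable def LLv : List Lv := [lv0, lv1, lv2, lv3, lv4, lv5]
noncomputable def Accv : List (List ℕ) := [[]]
noncomputable def Apv : List ℕ := [nat_lit 11]
noncomputable def Fw0d : ℕ := nat_lit 0x1a6d055b49d7a575861651ca5d6562486a35e18d660d45d49c75881971a69c91461399899564d557c61b0f41a3e642976590c961494a526a05265d371c39471b7dd41a4e666395b6dc5944516c65915657a562569a7e471c4dd5d26eb61470d621a535a769976071c85b6e14e88d759a7e07d5a1e6cb86165f8df6978618609a36538d6a5f6f55dd9935dd5dc39d4d550c61259a6e38de5de89365d5a24d45da4616635608e065671871a8228da4a581a7597cc7d47527274a351a8956dd76570e6a9354a13b988cf96c1d204a65d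
noncomputable def Fw0 (u : ℕ) : ℕ := Nat.land (Nat.shiftRight Fw0d (Nat.mul u (nat_lit 6))) (nat_lit 63)
noncomputable def lw0 : Lv := ⟨(nat_lit 0), (nat_lit 3), (nat_lit 275), (nat_lit 6), [[nat_lit 0],
  [nat_lit 1],
  [nat_lit 2],
  [nat_lit 3],
  [nat_lit 4],
  [nat_lit 5]], Fw0, (nat_lit 9)⟩
noncomputable def Fw1d : ℕ := nat_lit 0xa00000000000041809800e0000700011000c00022c00014000080440088140000008000a0001100000801c00026004a200000c78007001a004c00001c06800000000045e0000008822f031a00040000000a01c00024090012038000240c002604800002c140000d8820f00270024148d22da012a7cc0e601ad02c0d781315c1aa03d409280089c004cda09223004403645208000f442206000e03c00846202000603400000000000000000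
noncomputable def Fw1 (u : ℕ) : ℕ := Nat.land (Nat.shiftRight Fw1d (Nat.mul u (nat_lit 5))) (nat_lit 31)
noncomputable def lw1 : Lv := ⟨(nat_lit 1), (nat_lit 150), (nat_lit 112), (nat_lit 3), [[nat_lit 2, nat_lit 3, nat_lit 1, nat_lit 0, nat_lit 2, nat_lit 1, nat_lit 0, nat_lit 2, nat_lit 1, nat_lit 5, nat_lit 0, nat_lit 2, nat_lit 0],
  [nat_lit 5, nat_lit 2, nat_lit 0, nat_lit 3, nat_lit 2, nat_lit 1, nat_lit 0, nat_lit 2, nat_lit 5, nat_lit 2, nat_lit 1, nat_lit 3, nat_lit 2, nat_lit 5],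
  [nat_lit 1, nat_lit 0, nat_lit 2, nat_lit 4, nat_lit 1, nat_lit 4, nat_lit 3, nat_lit 2, nat_lit 4, nat_lit 5, nat_lit 4, nat_lit 1, nat_lit 2, nat_lit 0, nat_lit 1, nat_lit 0]], Fw1, (nat_lit 7)⟩
noncomputable def Fw2d : ℕ := nat_lit 0x300e301c003d204800b00000500e0741606800000000718006b400000080000c539ee00160044806440100000000100000028000001c080c0e6818a600000000031c006800002809044006000f78000000000000b040000000000000000000400d048110000002da0038008800050120000000000000120000006800000000000006800000120001480000800000001800000f02d400000c03140700f1000000000068000000090000003400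
noncomputable def Fw2 (u : ℕ) : ℕ := Nat.land (Nat.shiftRight Fw2d (Nat.mul u (nat_lit 5))) (nat_lit 31)
noncomputable def lw2 : Lv := ⟨(nat_lit 2), (nat_lit 208), (nat_lit 81), (nat_lit 3), [[nat_lit 5, nat_lit 0, nat_lit 5, nat_lit 2, nat_lit 3, nat_lit 2, nat_lit 1, nat_lit 3, nat_lit 0, nat_lit 4, nat_lit 3, nat_lit 1, nat_lit 5, nat_lit 2, nat_lit 1, nat_lit 3],
  [nat_lit 0, nat_lit 2, nat_lit 4, nat_lit 1, nat_lit 3, nat_lit 2, nat_lit 0, nat_lit 1, nat_lit 5, nat_lit 4, nat_lit 1, nat_lit 5, nat_lit 2, nat_lit 4, nat_lit 3, nat_lit 5],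
  [nat_lit 2, nat_lit 3, nat_lit 1, nat_lit 4, nat_lit 3, nat_lit 1, nat_lit 2, nat_lit 3, nat_lit 5, nat_lit 4, nat_lit 1, nat_lit 5, nat_lit 2, nat_lit 0, nat_lit 5, nat_lit 2]], Fw2, (nat_lit 7)⟩
noncomputable def Fw3d : ℕ := nat_lit 0x1800000000000001a0000000000000000000000000b0000000000000005800000000000080000c00000000e0000000316000000000060000003800000005800000000039c0000002800002cc0000000000000000000000000a0000000000000004000000000000096800000000000004814100000000077000301c000000002804000000000000000000000280000000001c000000034000000800000582000000000000000000000000000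
noncomputable def Fw3 (u : ℕ) : ℕ := Nat.land (Nat.shiftRight Fw3d (Nat.mul u (nat_lit 5))) (nat_lit 31)
noncomputable def lw3 : Lv := ⟨(nat_lit 4), (nat_lit 92), (nat_lit 36), (nat_lit 3), [[nat_lit 1, nat_lit 0, nat_lit 3, nat_lit 1, nat_lit 2, nat_lit 5, nat_lit 2, nat_lit 1, nat_lit 0, nat_lit 3, nat_lit 1],
  [nat_lit 2, nat_lit 4, nat_lit 1, nat_lit 0, nat_lit 4, nat_lit 3, nat_lit 2, nat_lit 5, nat_lit 2, nat_lit 3, nat_lit 1, nat_lit 2],
  [nat_lit 4, nat_lit 1, nat_lit 0, nat_lit 1, nat_lit 2, nat_lit 5, nat_lit 4, nat_lit 3, nat_lit 5, nat_lit 0, nat_lit 2, nat_lit 1, nat_lit 4, nat_lit 5, nat_lit 1, nat_lit 4]], Fw3, (nat_lit 6)⟩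
noncomputable def Fw4d : ℕ := nat_lit 0x400000000001300000001c000000000a000000000000000000000000000000000000000000000000000000000000003c00000000000000000000000000000000001c00014000000000000000000000000004800000000000000000000000000000000000000000000000000000000000000000000000000000000000000000000000000000000000000000000000000000000000000000f04c000000000000
noncomputable def Fw4 (u : ℕ) : ℕ := Nat.land (Nat.shiftRight Fw4d (Nat.mul u (nat_lit 5))) (nat_lit 31)
noncomputable def lw4 : Lv := ⟨(nat_lit 3), (nat_lit 254), (nat_lit 10), (nat_lit 5), [[nat_lit 0, nat_lit 2, nat_lit 3, nat_lit 2, nat_lit 1, nat_lit 0, nat_lit 5, nat_lit 4, nat_lit 5, nat_lit 0, nat_lit 2, nat_lit 3, nat_lit 0, nat_lit 5],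
  [nat_lit 0, nat_lit 2, nat_lit 3, nat_lit 2, nat_lit 1, nat_lit 0, nat_lit 5, nat_lit 4, nat_lit 5, nat_lit 0, nat_lit 2, nat_lit 0, nat_lit 5, nat_lit 3],
  [nat_lit 4, nat_lit 5, nat_lit 0, nat_lit 2, nat_lit 1, nat_lit 3, nat_lit 2, nat_lit 0, nat_lit 5, nat_lit 2, nat_lit 0, nat_lit 3, nat_lit 5, nat_lit 2, nat_lit 4],
  [nat_lit 3, nat_lit 4, nat_lit 5, nat_lit 4, nat_lit 1, nat_lit 4, nat_lit 3, nat_lit 2, nat_lit 0, nat_lit 1, nat_lit 2, nat_lit 4, nat_lit 3, nat_lit 1, nat_lit 5, nat_lit 4, nat_lit 3],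
  [nat_lit 2, nat_lit 4, nat_lit 5, nat_lit 2, nat_lit 0, nat_lit 3, nat_lit 1, nat_lit 2, nat_lit 0, nat_lit 3, nat_lit 4, nat_lit 3, nat_lit 1, nat_lit 2, nat_lit 0, nat_lit 5, nat_lit 2, nat_lit 4]], Fw4, (nat_lit 4)⟩
noncomputable def LLw : List Lv := [lw0, lw1, lw2, lw3, lw4]
noncomputable def Accw : List (List ℕ) := [[],
  [nat_lit 4, nat_lit 5, nat_lit 0, nat_lit 1, nat_lit 0, nat_lit 1, nat_lit 2, nat_lit 0, nat_lit 1, nat_lit 2, nat_lit 3, nat_lit 1, nat_lit 2, nat_lit 0, nat_lit 3, nat_lit 5, nat_lit 0],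
  [nat_lit 3, nat_lit 1, nat_lit 0, nat_lit 1, nat_lit 2, nat_lit 1, nat_lit 3, nat_lit 2, nat_lit 0, nat_lit 1, nat_lit 2, nat_lit 0, nat_lit 2, nat_lit 3, nat_lit 5, nat_lit 0, nat_lit 2, nat_lit 4],
  [nat_lit 2, nat_lit 0, nat_lit 1, nat_lit 2, nat_lit 4, nat_lit 1, nat_lit 4, nat_lit 3, nat_lit 2, nat_lit 4, nat_lit 3, nat_lit 2, nat_lit 0, nat_lit 5, nat_lit 0, nat_lit 2, nat_lit 5, nat_lit 0, nat_lit 4, nat_lit 3, nat_lit 2, nat_lit 0, nat_lit 5],
  [nat_lit 3, nat_lit 4, nat_lit 5, nat_lit 0, nat_lit 1, nat_lit 0, nat_lit 2, nat_lit 4, nat_lit 1, nat_lit 0, nat_lit 4, nat_lit 3, nat_lit 2, nat_lit 4, nat_lit 3, nat_lit 2, nat_lit 0, nat_lit 1, nat_lit 5, nat_lit 4, nat_lit 3]]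
noncomputable def Apw : List ℕ := [nat_lit 3, nat_lit 13, nat_lit 34, nat_lit 8, nat_lit 44]
noncomputable def D : OD := ⟨11, 3, 6, 2, 5, [1, 2], V, [nat_lit 1, nat_lit 2, nat_lit 0, nat_lit 3, nat_lit 2, nat_lit 1, nat_lit 2, nat_lit 0, nat_lit 5, nat_lit 0, nat_lit 2, nat_lit 4, nat_lit 5, nat_lit 0, nat_lit 2], [nat_lit 1, nat_lit 0, nat_lit 2, nat_lit 0, nat_lit 3, nat_lit 1, nat_lit 2, nat_lit 0, nat_lit 3, nat_lit 4, nat_lit 3, nat_lit 2, nat_lit 1, nat_lit 0, nat_lit 5, nat_lit 2, nat_lit 0, nat_lit 5, nat_lit 2, nat_lit 1, nat_lit 2, nat_lit 3], W, [nat_lit 0, nat_lit 2, nat_lit 0, nat_lit 1, nat_lit 4], Accw,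
  [([nat_lit 2, nat_lit 1, nat_lit 2, nat_lit 1, nat_lit 0], (nat_lit 3)), ([nat_lit 0, nat_lit 1, nat_lit 2], (nat_lit 7))], (nat_lit 0)⟩
noncomputable def Wb : List (List ℕ) := [[nat_lit 4, nat_lit 2, nat_lit 0, nat_lit 1, nat_lit 3, nat_lit 2, nat_lit 1, nat_lit 2, nat_lit 0, nat_lit 2, nat_lit 1, nat_lit 5, nat_lit 2, nat_lit 1, nat_lit 4, nat_lit 1],
  [nat_lit 4, nat_lit 3, nat_lit 1, nat_lit 0, nat_lit 2, nat_lit 0, nat_lit 1, nat_lit 0, nat_lit 3, nat_lit 1, nat_lit 2, nat_lit 5, nat_lit 2, nat_lit 0, nat_lit 5, nat_lit 2, nat_lit 4, nat_lit 1],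
  [nat_lit 2, nat_lit 4, nat_lit 3, nat_lit 1, nat_lit 2, nat_lit 0, nat_lit 3, nat_lit 1, nat_lit 2, nat_lit 0, nat_lit 3, nat_lit 2, nat_lit 1, nat_lit 3, nat_lit 4, nat_lit 3, nat_lit 2, nat_lit 5, nat_lit 2, nat_lit 3, nat_lit 1, nat_lit 2],
  [nat_lit 2, nat_lit 5, nat_lit 0, nat_lit 1, nat_lit 0, nat_lit 2, nat_lit 0, nat_lit 1, nat_lit 2, nat_lit 4, nat_lit 1, nat_lit 3, nat_lit 2, nat_lit 1, nat_lit 0, nat_lit 2, nat_lit 3, nat_lit 4, nat_lit 5, nat_lit 2],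
  [nat_lit 5, nat_lit 0, nat_lit 1, nat_lit 0, nat_lit 2, nat_lit 1, nat_lit 3, nat_lit 2, nat_lit 1, nat_lit 3, nat_lit 4, nat_lit 3, nat_lit 2, nat_lit 1, nat_lit 2, nat_lit 0, nat_lit 1, nat_lit 3, nat_lit 5],
  [nat_lit 2, nat_lit 4, nat_lit 1, nat_lit 4, nat_lit 0, nat_lit 2, nat_lit 3, nat_lit 2, nat_lit 0, nat_lit 1, nat_lit 0, nat_lit 3, nat_lit 4, nat_lit 3, nat_lit 2, nat_lit 1, nat_lit 2, nat_lit 0, nat_lit 1, nat_lit 3, nat_lit 2, nat_lit 5, nat_lit 2, nat_lit 1]]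

theorem ov0_0 : Nat.beq (loop2 (lv0.scan H15.McL.P) (nat_lit 0) (nat_lit 275)) (nat_lit 275) = true := by decide +kernel
theorem ov1_0 : Nat.beq (loop2 (lv1.scan H15.McL.P) (nat_lit 0) (nat_lit 275)) (nat_lit 112) = true := by decide +kernel
theorem ov2_0 : Nat.beq (loop2 (lv2.scan H15.McL.P) (nat_lit 0) (nat_lit 275)) (nat_lit 30) = true := by decide +kernel
theorem ov3_0 : Nat.beq (loop2 (lv3.scan H15.McL.P) (nat_lit 0) (nat_lit 275)) (nat_lit 54) = true := by decide +kernel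
theorem ov4c : 0 < lv4.K ∧ allL (ltAll 6) lv4.Ws = true ∧ [nat_lit 245, nat_lit 200, nat_lit 175, nat_lit 98, nat_lit 81, nat_lit 69, nat_lit 26, nat_lit 23, nat_lit 16].length = lv4.n ∧ lv4.lst H15.McL.P [nat_lit 245, nat_lit 200, nat_lit 175, nat_lit 98, nat_lit 81, nat_lit 69, nat_lit 26, nat_lit 23, nat_lit 16] 275 = 0 := by decide +kernel
theorem ov5c : 0 < lv5.K ∧ allL (ltAll 6) lv5.Ws = true ∧ [nat_lit 175, nat_lit 81].length = lv5.n ∧ lv5.lst H15.McL.P [nat_lit 175, nat_lit 81] 275 = 0 := by decide +kernel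
theorem lcv : lowChk H15.McL.P 275 6 LLv [] = 0 ∧ prodN LLv = 898128000 ∧ 0 < 898128000 := by decide +kernel
theorem ccv : cenChk H15.McL.P 275 6 H15.McL.B V V (nat_lit 11) LLv Accv Apv = true := by decide +kernel
theorem cev_0 : allZ (cenEnt H15.McL.P V LLv Apv (nat_lit 10)) (nat_lit 0) (nat_lit 275) = true := by decide +kernel
theorem ow0_0 : Nat.beq (loop2 (lw0.scan H15.McL.P) (nat_lit 0) (nat_lit 275)) (nat_lit 275) = true := by decide +kernel
theorem ow1_0 : Nat.beq (loop2 (lw1.scan H15.McL.P) (nat_lit 0) (nat_lit 275)) (nat_lit 112) = true := by decide +kernel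
theorem ow2_0 : Nat.beq (loop2 (lw2.scan H15.McL.P) (nat_lit 0) (nat_lit 275)) (nat_lit 81) = true := by decide +kernel
theorem ow3_0 : Nat.beq (loop2 (lw3.scan H15.McL.P) (nat_lit 0) (nat_lit 275)) (nat_lit 36) = true := by decide +kernel
theorem ow4_0 : Nat.beq (loop2 (lw4.scan H15.McL.P) (nat_lit 0) (nat_lit 275)) (nat_lit 10) = true := by decide +kernel
theorem lcw : lowChk H15.McL.P 275 6 LLw [] = 0 ∧ prodN LLw = 898128000 ∧ 0 < 898128000 := by decide +kernel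
theorem ccw : cenChk H15.McL.P 275 6 H15.McL.B W W (nat_lit 3) LLw Accw Apw = true := by decide +kernel
theorem cew_0 : allZ (cenEnt H15.McL.P W LLw Apw (nat_lit 4)) (nat_lit 0) (nat_lit 275) = true := by decide +kernel
theorem dc : D.chk H15.McL.P 275 6 H15.McL.B = true := by decide +kernel
theorem fl_0 : allZ (D.fail H15.McL.P [0, 17]) (nat_lit 0) (nat_lit 50) = true := by decide +kernel
theorem gc : slpX H15.McL.P 6 H15.McL.B 6 0 3 [D.X, D.W, D.S, [nat_lit 3, nat_lit 2, nat_lit 1, nat_lit 2, nat_lit 5, nat_lit 0, nat_lit 2, nat_lit 5, nat_lit 0, nat_lit 1, nat_lit 2, nat_lit 3, nat_lit 4, nat_lit 3, nat_lit 0, nat_lit 2, nat_lit 1, nat_lit 3, nat_lit 0, nat_lit 2, nat_lit 0, nat_lit 1], [nat_lit 2, nat_lit 1, nat_lit 0], [nat_lit 4, nat_lit 1, nat_lit 0, nat_lit 2, nat_lit 0]]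
  [((nat_lit 9), [nat_lit 6]),
  ((nat_lit 10), [nat_lit 7]),
  ((nat_lit 11), [nat_lit 8]),
  ((nat_lit 0), [nat_lit 6, nat_lit 8, nat_lit 10, nat_lit 8, nat_lit 9, nat_lit 10, nat_lit 8, nat_lit 8, nat_lit 9, nat_lit 11, nat_lit 6, nat_lit 8, nat_lit 8, nat_lit 9, nat_lit 8, nat_lit 7, nat_lit 6, nat_lit 11, nat_lit 11, nat_lit 9, nat_lit 7, nat_lit 7]),
  ((nat_lit 1), [nat_lit 6, nat_lit 8, nat_lit 9, nat_lit 8, nat_lit 9, nat_lit 11, nat_lit 9, nat_lit 8, nat_lit 9, nat_lit 8, nat_lit 8, nat_lit 8, nat_lit 6, nat_lit 6, nat_lit 7, nat_lit 8, nat_lit 6, nat_lit 8, nat_lit 10]),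
  ((nat_lit 2), [nat_lit 10, nat_lit 6, nat_lit 8, nat_lit 10, nat_lit 8, nat_lit 9, nat_lit 10, nat_lit 8, nat_lit 6, nat_lit 11, nat_lit 6, nat_lit 11, nat_lit 6, nat_lit 8, nat_lit 9, nat_lit 11, nat_lit 9, nat_lit 9, nat_lit 7]),
  ((nat_lit 3), [nat_lit 6, nat_lit 8, nat_lit 9, nat_lit 8, nat_lit 9, nat_lit 11, nat_lit 9, nat_lit 8, nat_lit 9, nat_lit 8, nat_lit 8, nat_lit 8, nat_lit 6, nat_lit 6, nat_lit 7, nat_lit 8, nat_lit 6, nat_lit 8, nat_lit 6, nat_lit 8, nat_lit 9, nat_lit 7, nat_lit 8, nat_lit 6, nat_lit 6, nat_lit 11, nat_lit 9, nat_lit 10, nat_lit 9, nat_lit 11, nat_lit 6]),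
  ((nat_lit 4), [nat_lit 10, nat_lit 6, nat_lit 8, nat_lit 9, nat_lit 11, nat_lit 11, nat_lit 6, nat_lit 11, nat_lit 6, nat_lit 11, nat_lit 9, nat_lit 9, nat_lit 11, nat_lit 6, nat_lit 11, nat_lit 9, nat_lit 9, nat_lit 10, nat_lit 11]),
  ((nat_lit 5), [nat_lit 7, nat_lit 7, nat_lit 8, nat_lit 9, nat_lit 11, nat_lit 10, nat_lit 6, nat_lit 11, nat_lit 9, nat_lit 8, nat_lit 9, nat_lit 8, nat_lit 9, nat_lit 8, nat_lit 6, nat_lit 6, nat_lit 10, nat_lit 9, nat_lit 11, nat_lit 10])] = true := by decide +kernel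
theorem ic_0 : allZ (D.inn H15.McL.P H15.McL.B 17) (nat_lit 0) (nat_lit 25) = true := by decide +kernel
theorem bc1 : D.subChk H15.McL.P 6 H15.McL.B Wb 17 = true := by decide +kernel
theorem bc2 : allL (fixL (wdsP H15.McL.P Wb) 6 H15.McL.B) H15.McL.Rl = true := by decide +kernel

theorem ov0 : lv0.Orb H15.McL.g H15.McL.pt 275 := Lv.orb_scan H15.McL.act (by decide +kernel) (sum_first ov0_0)
theorem ov1 : lv1.Orb H15.McL.g H15.McL.pt 275 := Lv.orb_scan H15.McL.act (by decide +kernel) (sum_first ov1_0)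
theorem ov2 : lv2.Orb H15.McL.g H15.McL.pt 275 := Lv.orb_scan H15.McL.act (by decide +kernel) (sum_first ov2_0)
theorem ov3 : lv3.Orb H15.McL.g H15.McL.pt 275 := Lv.orb_scan H15.McL.act (by decide +kernel) (sum_first ov3_0)
theorem ov4 : lv4.Orb H15.McL.g H15.McL.pt 275 := Lv.orb_lst H15.McL.act ov4c
theorem ov5 : lv5.Orb H15.McL.g H15.McL.pt 275 := Lv.orb_lst H15.McL.act ov5c
theorem exv : ExC H15.McL.g H15.McL.pt 275 6 LLv (gen H15.McL.g 6) := exC_of H15.McL.act H15.McL.inj H15.McL.card (all_cons ov0 (all_cons ov1 (all_cons ov2 (all_cons ov3 (all_cons ov4 (all_cons ov5 all_nil)))))) lcv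
theorem cev : ∀ i < 275, (cenEnt H15.McL.P V LLv Apv (nat_lit 10)) i = 0 := allZ_sound0 cev_0
theorem cenv {a} (hg : a ∈ gen H15.McL.g 6) (h : a * evA H15.McL.g V = evA H15.McL.g V * a) :
    ∃ j : ℤ, ∃ E ∈ Accv, a = evA H15.McL.g V ^ j * evA H15.McL.g E :=
  cen_sound H15.McL.act H15.McL.Blt H15.McL.isBase exv ccv cev hg h
theorem ow0 : lw0.Orb H15.McL.g H15.McL.pt 275 := Lv.orb_scan H15.McL.act (by decide +kernel) (sum_first ow0_0)
theorem ow1 : lw1.Orb H15.McL.g H15.McL.pt 275 := Lv.orb_scan H15.McL.act (by decide +kernel) (sum_first ow1_0)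
theorem ow2 : lw2.Orb H15.McL.g H15.McL.pt 275 := Lv.orb_scan H15.McL.act (by decide +kernel) (sum_first ow2_0)
theorem ow3 : lw3.Orb H15.McL.g H15.McL.pt 275 := Lv.orb_scan H15.McL.act (by decide +kernel) (sum_first ow3_0)
theorem ow4 : lw4.Orb H15.McL.g H15.McL.pt 275 := Lv.orb_scan H15.McL.act (by decide +kernel) (sum_first ow4_0)
theorem exw : ExC H15.McL.g H15.McL.pt 275 6 LLw (gen H15.McL.g 6) := exC_of H15.McL.act H15.McL.inj H15.McL.card (all_cons ow0 (all_cons ow1 (all_cons ow2 (all_cons ow3 (all_cons ow4 all_nil))))) lcw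
theorem cew : ∀ i < 275, (cenEnt H15.McL.P W LLw Apw (nat_lit 4)) i = 0 := allZ_sound0 cew_0
theorem cenw {a} (hg : a ∈ gen H15.McL.g 6) (h : a * evA H15.McL.g W = evA H15.McL.g W * a) :
    ∃ j : ℤ, ∃ E ∈ Accw, a = evA H15.McL.g W ^ j * evA H15.McL.g E :=
  cen_sound H15.McL.act H15.McL.Blt H15.McL.isBase exw ccw cew hg h
theorem ar : D.ar 898128000 :=
  ⟨by norm_num [D], by decide +kernel, by decide +kernel, by decide +kernel, by decide +kernel, by decide +kernel, by decide +kernel⟩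
theorem fl : ∀ i < 50, (D.fail H15.McL.P [0, 17]) i = 0 := allZ_sound0 fl_0
theorem hg (A) (h : ∀ i < 3, evA H15.McL.g (nth [] [D.X, D.W, D.S] i) ∈ A) : gen H15.McL.g 6 ≤ A :=
  slpX_sound H15.McL.act H15.McL.Blt H15.McL.isBase gc le_rfl (Nat.zero_le _) (by rw [gen_zero]; exact bot_le) fun i hi => by
    obtain rfl | rfl | rfl : i = 0 ∨ i = 1 ∨ i = 2 := by omega
    exacts [h 0 hi, h 1 hi, h 2 hi]
theorem ic : ∀ i < 25, (D.inn H15.McL.P H15.McL.B 17) i = 0 := allZ_sound0 ic_0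
theorem out : Nat.card (Cfsg.Out (gen H15.McL.g 6)) = 2 :=
  D.two H15.McL.act H15.McL.inj H15.McL.Blt H15.McL.isBase H15.McL.card (by decide) dc ar cenv cenw fl hg (D.of_rels H15.McL.act H15.McL.inj H15.McL.Blt H15.McL.isBase H15.McL.card dc ar H15.McL.rels H15.McL.bound H15.McL.simple bc1 bc2) ic

end H16.OMcL
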